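import Mathlib
import Cfsg.Agent.Zass.SelfCent

/-!
# CA-groups of even order, part A: counting involutions in the cosets of `N_G(A)`
-/

set_option autoImplicit false

set_option linter.unusedSectionVars false

namespace Cfsg.Agent.H68.CA

open Cfsg.Agent.SC

variable {G : Type*} [Group G]

/-- `A` contains the centraliser of each of its nontrivial elements, has even order and is properly contained in
its proper normaliser. -/
structure ES (A : Subgroup G) : Prop where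
  sc : SelfCent A
  two : 2 ∣ Nat.card A
  ne_top : Subgroup.normalizer (A : Set G) ≠ ⊤
  ne : ¬ Subgroup.normalizer (A : Set G) ≤ A

/-- the normaliser -/
abbrev Nn (A : Subgroup G) : Subgroup G := Subgroup.normalizer (A : Set G)

/-- the involutions -/
def Inv (G : Type*) [Group G] : Set G := {x | x * x = 1 ∧ x ≠ 1}

/-- the involutions of `A` -/
def J (A : Subgroup G) : Set G := {x | x ∈ A ∧ x * x = 1 ∧ x ≠ 1}

/-- the order of `N/A` -/
noncomputable def e (A : Subgroup G) : ℕ := A.relIndex (Nn A)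

instance normal_sub (A : Subgroup G) : (A.subgroupOf (Nn A)).Normal := Subgroup.normal_in_normalizer

theorem inv_of_sq {x : G} (h : x * x = 1) : x⁻¹ = x := inv_eq_of_mul_eq_one_left h

section

variable {A : Subgroup G} (h : ES A)

include h

theorem ES.free {n a : G} (ha : a ∈ A) (ha1 : a ≠ 1) (hc : n * a = a * n) : n ∈ A := by
  rw [← h.sc a ha ha1]
  exact Subgroup.mem_centralizer_singleton_iff.2 hc

theorem ES.odd [Finite G] : Odd (e A) := by
  have : Fact (Nat.Prime 2) := ⟨Nat.prime_two⟩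
  obtain ⟨S, hS⟩ := h.sc.exists_sylow_le h.two
  have h1 : ¬ 2 ∣ (S : Subgroup G).index := S.not_dvd_index
  have h2 : A.index ∣ (S : Subgroup G).index := Subgroup.index_dvd_of_le hS
  have h3 : e A ∣ A.index := ⟨(Nn A).index, (Subgroup.relIndex_mul_index Subgroup.le_normalizer).symm⟩
  rw [← Nat.not_even_iff_odd, even_iff_two_dvd]
  exact fun h4 => h1 ((h4.trans h3).trans h2)

theorem ES.inv_mem [Finite G] {x : G} (hx : x ∈ Nn A) (hxx : x * x = 1) : x ∈ A := by
  have h1 := h.odd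
  set y : Nn A ⧸ A.subgroupOf (Nn A) := QuotientGroup.mk (⟨x, hx⟩ : Nn A) with hy
  have h2 : y ^ 2 = 1 := by
    rw [hy, ← QuotientGroup.mk_pow]
    have : (⟨x, hx⟩ : Nn A) ^ 2 = 1 := Subtype.ext (by rw [sq]; exact hxx)
    rw [this]; rfl
  have h3 : y ^ (e A) = 1 := by
    have : e A = Nat.card (Nn A ⧸ A.subgroupOf (Nn A)) := rfl
    rw [this]
    exact pow_card_eq_one'
  have h4 : y = 1 := by
    obtain ⟨k, hk⟩ := h1
    rw [hk, pow_succ, pow_mul, h2, one_pow, one_mul] at h3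
    exact h3
  rw [hy, QuotientGroup.eq_one_iff] at h4
  exact h4

theorem ES.exists_inv [Finite G] : ∃ t ∈ A, t * t = 1 ∧ t ≠ 1 := by
  have : Fact (Nat.Prime 2) := ⟨Nat.prime_two⟩
  obtain ⟨t, ht⟩ := exists_prime_orderOf_dvd_card' 2 h.two
  obtain ⟨h1, h2⟩ := orderOf_eq_prime_iff.1 ht
  refine ⟨t, t.2, ?_, fun h3 => h2 (Subtype.ext h3)⟩
  rw [← sq]
  exact congrArg Subtype.val h1

/-- `N/A` acts semiregularly on the involutions of `A` -/
theorem ES.e_le [Finite G] : e A ≤ Nat.card (J A) := by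
  obtain ⟨t, ht, htt, ht1⟩ := h.exists_inv
  have key : ∀ n : Nn A, (n : G) * t * (n : G)⁻¹ ∈ J A := by
    intro n
    refine ⟨(Subgroup.mem_normalizer_iff.1 n.2 t).1 ht, ?_, conj_ne_one ht1⟩
    calc (n : G) * t * (n : G)⁻¹ * ((n : G) * t * (n : G)⁻¹) = n * (t * t) * (n : G)⁻¹ := by group
      _ = 1 := by rw [htt]; group
  let f : Nn A ⧸ A.subgroupOf (Nn A) → J A := fun c => ⟨_, key c.out⟩
  have hf : Function.Injective f := by
    intro c d hcd
    have h1 : (c.out : G) * t * (c.out : G)⁻¹ = (d.out : G) * t * (d.out : G)⁻¹ := congrArg Subtype.val hcd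
    have h2 : ((c.out : G)⁻¹ * d.out) * t = t * ((c.out : G)⁻¹ * d.out) := by
      calc ((c.out : G)⁻¹ * d.out) * t = (c.out : G)⁻¹ * ((d.out : G) * t * (d.out : G)⁻¹) * d.out := by group
        _ = (c.out : G)⁻¹ * ((c.out : G) * t * (c.out : G)⁻¹) * d.out := by rw [h1]
        _ = _ := by group
    have h3 := h.free ht ht1 h2
    have h4 : (QuotientGroup.mk c.out : Nn A ⧸ A.subgroupOf (Nn A)) = QuotientGroup.mk d.out :=
      QuotientGroup.eq.2 h3
    rwa [QuotientGroup.out_eq', QuotientGroup.out_eq'] at h4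
  have h5 := Nat.card_le_card_of_injective f hf
  exact h5

theorem ES.e_pos [Finite G] : 0 < e A := Nat.card_pos

theorem ES.one_lt [Finite G] : 1 < e A := by
  have h1 := h.e_pos
  by_contra hcon
  have h2 : e A = 1 := by omega
  exact h.ne (Subgroup.relIndex_eq_one.1 h2)

theorem ES.exists_conj [Finite G] {x : G} (hx : x * x = 1) (hx1 : x ≠ 1) : ∃ g : G, g * x * g⁻¹ ∈ A := by
  have : Fact (Nat.Prime 2) := ⟨Nat.prime_two⟩
  obtain ⟨S, hS⟩ := h.sc.exists_sylow_le h.two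
  have hpz : IsPGroup 2 (Subgroup.zpowers x) := by
    apply IsPGroup.of_card (n := 1)
    rw [Nat.card_zpowers, pow_one]
    exact orderOf_eq_prime (by rw [sq]; exact hx) hx1
  obtain ⟨T, hT⟩ := hpz.exists_le_sylow
  obtain ⟨g, hg⟩ := MulAction.exists_smul_eq G T S
  refine ⟨g, hS ?_⟩
  rw [← hg]
  exact ⟨x, hT (Subgroup.mem_zpowers x), rfl⟩

/-- the number of involutions -/
theorem ES.card_inv [Finite G] : Nat.card (Inv G) = (Nn A).index * Nat.card (J A) := by
  classical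
  rw [Subgroup.index, ← Nat.card_prod]
  symm
  have hJ : ∀ (g : G) (x : J A), g * (x : G) * g⁻¹ ∈ Inv G := by
    rintro g ⟨x, hx, hxx, hx1⟩
    refine ⟨?_, conj_ne_one hx1⟩
    calc g * x * g⁻¹ * (g * x * g⁻¹) = g * (x * x) * g⁻¹ := by group
      _ = 1 := by rw [hxx]; group
  let f : (G ⧸ Nn A) × J A → Inv G := fun p => ⟨p.1.out * p.2 * p.1.out⁻¹, hJ _ _⟩
  apply Nat.card_congr (Equiv.ofBijective f ⟨?_, ?_⟩)
  · rintro ⟨c, ⟨u, hu⟩⟩ ⟨d, ⟨v, hv⟩⟩ hcd
    have h1 : c.out * u * c.out⁻¹ = d.out * v * d.out⁻¹ := congrArg Subtype.val hcd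
    have h2 : (d.out⁻¹ * c.out) * u * (d.out⁻¹ * c.out)⁻¹ = v := by
      calc (d.out⁻¹ * c.out) * u * (d.out⁻¹ * c.out)⁻¹ =
          d.out⁻¹ * (c.out * u * c.out⁻¹) * d.out := by group
        _ = v := by rw [h1]; group
    have h3 : d.out⁻¹ * c.out ∈ Subgroup.normalizer (A : Set G) :=
      h.sc.mem_normalizer hu.1 hu.2.2 (by rw [h2]; exact hv.1)
    have h4 : d = c := by
      rw [← QuotientGroup.out_eq' d, ← QuotientGroup.out_eq' c, QuotientGroup.eq]
      exact h3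
    subst h4
    have h5 : u = v := mul_left_cancel (mul_right_cancel h1)
    subst h5
    rfl
  · rintro ⟨g, hgg, hg1⟩
    obtain ⟨c, hc⟩ := h.exists_conj hgg hg1
    have h1 : ((c⁻¹ : G) : G ⧸ Nn A).out⁻¹ * c⁻¹ ∈ Nn A := by
      rw [← QuotientGroup.eq, QuotientGroup.out_eq']
    set d := ((c⁻¹ : G) : G ⧸ Nn A).out with hd
    have h2 := (Subgroup.mem_normalizer_iff.1 h1 (c * g * c⁻¹)).1 hc
    have h3 : d⁻¹ * c⁻¹ * (c * g * c⁻¹) * (d⁻¹ * c⁻¹)⁻¹ = d⁻¹ * g * d := by group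
    rw [h3] at h2
    have h4 : d⁻¹ * g * d ≠ 1 := by
      intro h4
      apply hg1
      calc g = d * (d⁻¹ * g * d) * d⁻¹ := by group
        _ = 1 := by rw [h4]; group
    have h5 : d⁻¹ * g * d * (d⁻¹ * g * d) = 1 := by
      calc d⁻¹ * g * d * (d⁻¹ * g * d) = d⁻¹ * (g * g) * d := by group
        _ = 1 := by rw [hgg]; group
    refine ⟨⟨((c⁻¹ : G) : G ⧸ Nn A), ⟨d⁻¹ * g * d, h2, h5, h4⟩⟩, ?_⟩
    apply Subtype.ext
    change d * (d⁻¹ * g * d) * d⁻¹ = g
    group

/-- for an involution `u` outside `N`, no nontrivial element of `A` is moved into `N` -/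
theorem ES.inf_eq {u d : G} (huu : u * u = 1) (hu : u ∉ Nn A) (hd : d ∈ A) (hdu : u * d * u⁻¹ ∈ Nn A) : d = 1 := by
  by_contra hd1
  set d' := u * d * u⁻¹ with hd'
  have hui : u⁻¹ = u := inv_of_sq huu
  have hd'1 : d' ≠ 1 := conj_ne_one hd1
  -- the commutator
  set c := d' * d * d'⁻¹ * d⁻¹ with hc
  have h1 : c ∈ A := A.mul_mem ((Subgroup.mem_normalizer_iff.1 hdu d).1 hd) (A.inv_mem hd)
  have hdd : u * d' * u⁻¹ = d := by
    rw [hd', hui]
    calc u * (u * d * u) * u = (u * u) * d * (u * u) := by group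
      _ = d := by rw [huu]; group
  have h2 : u * c * u⁻¹ ∈ A := by
    have h3 : u * c * u⁻¹ = d * d' * d⁻¹ * d'⁻¹ := by
      calc u * c * u⁻¹ = (u * d' * u⁻¹) * (u * d * u⁻¹) * (u * d' * u⁻¹)⁻¹ * (u * d * u⁻¹)⁻¹ := by
            rw [hc]; group
        _ = _ := by rw [hdd]
    rw [h3]
    have h4 := (Subgroup.mem_normalizer_iff.1 hdu d⁻¹).1 (A.inv_mem hd)
    have h5 : d * d' * d⁻¹ * d'⁻¹ = d * (d' * d⁻¹ * d'⁻¹) := by group
    rw [h5]
    exact A.mul_mem hd h4
  have h3 : c = 1 := by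
    by_contra hc1
    exact hu (h.sc.mem_normalizer h1 hc1 h2)
  have h4 : d' * d = d * d' := by
    have : d' * d = c * (d * d') := by rw [hc]; group
    rw [this, h3, one_mul]
  have h5 : d' ∈ A := h.free hd hd1 h4
  exact hu (h.sc.mem_normalizer hd hd1 h5)

/-- the elements of `N` moved into `N` by `u` -/
def D (A : Subgroup G) (u : G) : Subgroup G := Nn A ⊓ (Nn A).comap (MulAut.conj u).toMonoidHom

omit h in
theorem mem_D {u d : G} : d ∈ D A u ↔ d ∈ Nn A ∧ u * d * u⁻¹ ∈ Nn A := by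
  rw [D, Subgroup.mem_inf]
  rfl

theorem ES.D_inj {u : G} (huu : u * u = 1) (hu : u ∉ Nn A) {d d' : G} (hd : d ∈ D A u) (hd' : d' ∈ D A u)
    (hdd : d⁻¹ * d' ∈ A) : d = d' := by
  have h1 := (D A u).mul_mem ((D A u).inv_mem hd) hd'
  have h2 := h.inf_eq huu hu hdd (mem_D.1 h1).2
  exact inv_mul_eq_one.1 h2

theorem ES.card_D_le [Finite G] {u : G} (huu : u * u = 1) (hu : u ∉ Nn A) : Nat.card (D A u) ≤ e A := by
  let f : D A u → Nn A ⧸ A.subgroupOf (Nn A) := fun d => QuotientGroup.mk ⟨d, (mem_D.1 d.2).1⟩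
  have hf : Function.Injective f := by
    intro d d' hdd
    have h1 := QuotientGroup.eq.1 hdd
    exact Subtype.ext (h.D_inj huu hu d.2 d'.2 h1)
  exact Nat.card_le_card_of_injective f hf

/-- the involutions in a coset -/
def IC (A : Subgroup G) (c : G ⧸ Nn A) : Set G := {x | x ∈ Inv G ∧ (QuotientGroup.mk x : G ⧸ Nn A) = c}

omit h in
theorem ic_map {u x : G} (huu : u * u = 1)
    (hx : x ∈ IC A (QuotientGroup.mk u)) : u * x ∈ D A u := by
  obtain ⟨⟨hxx, hx1⟩, hx2⟩ := hx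
  have h1 : u * x ∈ Nn A := by
    have := QuotientGroup.eq.1 hx2.symm
    rwa [inv_of_sq huu] at this
  refine mem_D.2 ⟨h1, ?_⟩
  have h2 : u * (u * x) * u⁻¹ = (u * x)⁻¹ := by
    rw [mul_inv_rev, inv_of_sq hxx, inv_of_sq huu, ← mul_assoc u u x, huu, one_mul]
  rw [h2]
  exact (Nn A).inv_mem h1

theorem ES.card_IC_le [Finite G] {c : G ⧸ Nn A} (hc : c ≠ QuotientGroup.mk 1) : Nat.card (IC A c) ≤ e A := by
  by_cases hne : ∃ u, u ∈ IC A c
  · obtain ⟨u, ⟨huu, hu1⟩, huc⟩ := hne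
    subst huc
    have hu : u ∉ Nn A := by
      intro hu
      apply hc
      rw [QuotientGroup.eq, mul_one]
      exact (Nn A).inv_mem hu
    refine le_trans ?_ (h.card_D_le huu hu)
    let f : IC A (QuotientGroup.mk u) → D A u := fun x => ⟨u * x, ic_map huu x.2⟩
    refine Nat.card_le_card_of_injective f ?_
    intro x y hxy
    have h1 : u * (x : G) = u * y := congrArg Subtype.val hxy
    exact Subtype.ext (mul_left_cancel h1)
  · have : IsEmpty (IC A c) := ⟨fun x => hne ⟨x, x.2⟩⟩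
    rw [Nat.card_of_isEmpty]
    exact Nat.zero_le _

theorem ES.card_IC_one [Finite G] : Nat.card (IC A (QuotientGroup.mk 1)) = Nat.card (J A) := by
  have : IC A (QuotientGroup.mk 1) = J A := by
    ext x
    constructor
    · rintro ⟨⟨hxx, hx1⟩, hx2⟩
      have h1 : x ∈ Nn A := by
        have := QuotientGroup.eq.1 hx2.symm
        simpa using this
      exact ⟨h.inv_mem h1 hxx, hxx, hx1⟩
    · rintro ⟨hx, hxx, hx1⟩
      refine ⟨⟨hxx, hx1⟩, ?_⟩
      rw [eq_comm, QuotientGroup.eq]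
      simpa using Subgroup.le_normalizer hx
  rw [this]

theorem ES.sum_IC [Finite G] [Fintype (G ⧸ Nn A)] : ∑ c : G ⧸ Nn A, Nat.card (IC A c) = Nat.card (Inv G) := by
  classical
  rw [← Nat.card_sigma]
  apply Nat.card_congr
  refine ⟨fun p => ⟨p.2, p.2.2.1⟩, fun x => ⟨QuotientGroup.mk x, ⟨x, x.2, rfl⟩⟩, ?_, ?_⟩
  · rintro ⟨c, ⟨x, hx, hxc⟩⟩
    subst hxc
    rfl
  · intro x
    rfl

theorem ES.card_IC_eq [Finite G] : Nat.card (J A) = e A ∧ ∀ c : G ⧸ Nn A, c ≠ QuotientGroup.mk 1 →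
    Nat.card (IC A c) = e A := by
  classical
  have : Fintype (G ⧸ Nn A) := Fintype.ofFinite _
  have h1 := h.sum_IC
  rw [h.card_inv] at h1
  have hidx : (Nn A).index = (Finset.univ : Finset (G ⧸ Nn A)).card := by
    rw [Subgroup.index, Nat.card_eq_fintype_card, Finset.card_univ]
  have h2 : ∀ c ∈ (Finset.univ : Finset (G ⧸ Nn A)).erase (QuotientGroup.mk 1),
      Nat.card (IC A c) ≤ e A := fun c hc => h.card_IC_le (Finset.ne_of_mem_erase hc)
  have h3 : ∑ c ∈ (Finset.univ : Finset (G ⧸ Nn A)).erase (QuotientGroup.mk 1), Nat.card (IC A c) =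
      ((Finset.univ : Finset (G ⧸ Nn A)).erase (QuotientGroup.mk 1)).card * Nat.card (J A) := by
    have h4 := Finset.add_sum_erase Finset.univ (fun c => Nat.card (IC A c))
      (Finset.mem_univ (QuotientGroup.mk 1 : G ⧸ Nn A))
    simp only [h.card_IC_one] at h4
    rw [h1, hidx, ← Finset.card_erase_add_one (Finset.mem_univ (QuotientGroup.mk 1 : G ⧸ Nn A)),
      add_mul, one_mul] at h4
    omega
  have hle := h.e_le
  have hne : ((Finset.univ : Finset (G ⧸ Nn A)).erase (QuotientGroup.mk 1)).Nonempty := by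
    obtain ⟨g, hg⟩ : ∃ g, g ∉ Nn A := by
      by_contra hcon
      push Not at hcon
      exact h.ne_top (eq_top_iff.2 fun g _ => hcon g)
    refine ⟨QuotientGroup.mk g, Finset.mem_erase.2 ⟨?_, Finset.mem_univ _⟩⟩
    intro h5
    apply hg
    have := QuotientGroup.eq.1 h5.symm
    simpa using this
  have h4 : ∑ c ∈ (Finset.univ : Finset (G ⧸ Nn A)).erase (QuotientGroup.mk 1), Nat.card (IC A c) ≤
      ((Finset.univ : Finset (G ⧸ Nn A)).erase (QuotientGroup.mk 1)).card * e A := by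
    have := Finset.sum_le_card_nsmul _ _ _ h2
    simpa [smul_eq_mul] using this
  rw [h3] at h4
  have h5 : Nat.card (J A) = e A :=
    le_antisymm (Nat.le_of_mul_le_mul_left h4 (Finset.card_pos.2 hne)) hle
  refine ⟨h5, ?_⟩
  intro c hc
  by_contra hcon
  have hlt : Nat.card (IC A c) < e A := lt_of_le_of_ne (h.card_IC_le hc) hcon
  have h6 := Finset.sum_lt_sum h2 ⟨c, Finset.mem_erase.2 ⟨hc, Finset.mem_univ _⟩, hlt⟩
  rw [h3, Finset.sum_const, smul_eq_mul, h5] at h6
  exact lt_irrefl _ h6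

theorem ES.exists_inv_coset [Finite G] {g : G} (hg : g ∉ Nn A) :
    ∃ u : G, u * u = 1 ∧ u ∉ Nn A ∧ (QuotientGroup.mk u : G ⧸ Nn A) = QuotientGroup.mk g := by
  have hg' : (QuotientGroup.mk g : G ⧸ Nn A) ≠ QuotientGroup.mk 1 := by
    intro h5
    apply hg
    have := QuotientGroup.eq.1 h5.symm
    simpa using this
  have h1 := h.card_IC_eq.2 _ hg'
  have h2 : 0 < Nat.card (IC A (QuotientGroup.mk g)) := by rw [h1]; exact h.e_pos
  have hne : Nonempty (IC A (QuotientGroup.mk g)) := (Nat.card_pos_iff.1 h2).1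
  obtain ⟨u, ⟨huu, hu1⟩, huc⟩ := hne
  refine ⟨u, huu, ?_, huc⟩
  intro hu
  apply hg'
  rw [← huc, QuotientGroup.eq, mul_one]
  exact (Nn A).inv_mem hu

theorem ES.D_facts [Finite G] {u : G} (huu : u * u = 1) (hu : u ∉ Nn A) :
    Nat.card (D A u) = e A ∧ ∀ d ∈ D A u, u * d * u⁻¹ = d⁻¹ := by
  have hg' : (QuotientGroup.mk u : G ⧸ Nn A) ≠ QuotientGroup.mk 1 := by
    intro h5
    apply hu
    have := QuotientGroup.eq.1 h5.symm
    simpa using this
  have h1 := h.card_IC_eq.2 _ hg'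
  let f : IC A (QuotientGroup.mk u) → D A u := fun x => ⟨u * x, ic_map huu x.2⟩
  have hf : Function.Injective f := by
    intro x y hxy
    have h1 : u * (x : G) = u * y := congrArg Subtype.val hxy
    exact Subtype.ext (mul_left_cancel h1)
  have h2 := Nat.card_le_card_of_injective f hf
  have h3 := h.card_D_le huu hu
  have h4 : Nat.card (IC A (QuotientGroup.mk u)) = Nat.card (D A u) := by omega
  refine ⟨by omega, ?_⟩
  have hb : Function.Bijective f := (Nat.bijective_iff_injective_and_card f).2 ⟨hf, h4⟩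
  intro d hd
  obtain ⟨x, hx⟩ := hb.2 ⟨d, hd⟩
  have h5 : u * (x : G) = d := congrArg Subtype.val hx
  have hxx : (x : G) * x = 1 := x.2.1.1
  rw [← h5, mul_inv_rev, inv_of_sq hxx, inv_of_sq huu, ← mul_assoc u u, huu, one_mul]

end

end Cfsg.Agent.H68.CA
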