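import Mathlib
import Cfsg.Agent.H68.CAEvenA
import Cfsg.Agent.H37.ZMain

/-!
# CA-groups of even order, part B: the action on the cosets of `N_G(A)` is Zassenhaus
-/

set_option autoImplicit false
set_option linter.unusedSectionVars false

namespace Cfsg.Agent.H68.CA

open Cfsg.Agent.SC Cfsg.Agent.H34

variable {G : Type*} [Group G] {A : Subgroup G}

/-- the base point -/
abbrev al (A : Subgroup G) : G ⧸ Nn A := QuotientGroup.mk 1

theorem smul_al {g : G} : g • al A = QuotientGroup.mk g := by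
  show QuotientGroup.mk (g • (1 : G)) = _
  rw [smul_eq_mul, mul_one]

theorem smul_al_iff {g : G} : g • al A = al A ↔ g ∈ Nn A := by
  rw [smul_al, eq_comm, QuotientGroup.eq]
  simp

theorem mem_D_iff {u d : G} : d ∈ D A u ↔ d ∈ Nn A ∧ u * d * u⁻¹ ∈ Nn A := mem_D

theorem stab2_al {u : G} (huu : u * u = 1) : stab2 G (al A) (QuotientGroup.mk u) = D A u := by
  ext d
  rw [mem_stab2, mem_D, smul_al_iff]
  have : d • (QuotientGroup.mk u : G ⧸ Nn A) = QuotientGroup.mk u ↔ u * d * u⁻¹ ∈ Nn A := by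
    show (QuotientGroup.mk (d • u) : G ⧸ Nn A) = QuotientGroup.mk u ↔ _
    rw [eq_comm, QuotientGroup.eq, smul_eq_mul, inv_of_sq huu, ← mul_assoc]
  rw [this]

section

variable (h : ES A)

include h

theorem ES.exists_swap [Finite G] {a b : G ⧸ Nn A} (hab : a ≠ b) : ∃ s : G, s * s = 1 ∧ s • a = b ∧ s • b = a ∧
    (∀ d ∈ stab2 G a b, s * d * s⁻¹ = d⁻¹) ∧ Nat.card (stab2 G a b) = e A := by
  obtain ⟨k, hk⟩ := QuotientGroup.mk_surjective a
  have hka : k • al A = a := by rw [smul_al, hk]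
  obtain ⟨g, hg⟩ := QuotientGroup.mk_surjective (k⁻¹ • b)
  have hgN : g ∉ Nn A := by
    intro hgN
    apply hab
    have h1 : (QuotientGroup.mk g : G ⧸ Nn A) = al A := by
      rw [← smul_al, smul_al_iff]; exact hgN
    rw [hg] at h1
    rw [← hka, ← h1, smul_inv_smul]
  obtain ⟨u, huu, hu, hug⟩ := h.exists_inv_coset hgN
  obtain ⟨hc, hinv⟩ := h.D_facts huu hu
  rw [← stab2_al huu] at hc hinv
  have hub : k • (QuotientGroup.mk u : G ⧸ Nn A) = b := by rw [hug, hg, smul_inv_smul]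
  have hss : k * u * k⁻¹ * (k * u * k⁻¹) = 1 := by
    calc k * u * k⁻¹ * (k * u * k⁻¹) = k * (u * u) * k⁻¹ := by group
      _ = 1 := by rw [huu]; group
  have h1 : (k * u * k⁻¹) • a = b := by
    rw [← hka, mul_smul, mul_smul, inv_smul_smul, smul_al (g := u), hub]
  have h2 : (k * u * k⁻¹) • b = a := by
    rw [← h1, ← mul_smul, hss, one_smul]
  refine ⟨k * u * k⁻¹, hss, h1, h2, ?_, ?_⟩
  · intro d hd
    have h3 : k⁻¹ * d * k ∈ stab2 G (al A) (QuotientGroup.mk u) := by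
      obtain ⟨hd1, hd2⟩ := mem_stab2.1 hd
      refine mem_stab2.2 ⟨?_, ?_⟩
      · rw [mul_smul, mul_smul, hka, hd1, ← hka, inv_smul_smul]
      · rw [mul_smul, mul_smul, hub, hd2, ← hub, inv_smul_smul]
    have h4 := hinv _ h3
    calc k * u * k⁻¹ * d * (k * u * k⁻¹)⁻¹ = k * (u * (k⁻¹ * d * k) * u⁻¹) * k⁻¹ := by group
      _ = k * (k⁻¹ * d * k)⁻¹ * k⁻¹ := by rw [h4]
      _ = d⁻¹ := by group
  · rw [← hc]
    apply Nat.card_congr
    refine ⟨fun d => ⟨k⁻¹ * d * k, ?_⟩, fun d => ⟨k * d * k⁻¹, ?_⟩, ?_, ?_⟩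
    · obtain ⟨hd1, hd2⟩ := mem_stab2.1 d.2
      refine mem_stab2.2 ⟨?_, ?_⟩
      · rw [mul_smul, mul_smul, hka, hd1, ← hka, inv_smul_smul]
      · rw [mul_smul, mul_smul, hub, hd2, ← hub, inv_smul_smul]
    · obtain ⟨hd1, hd2⟩ := mem_stab2.1 d.2
      refine mem_stab2.2 ⟨?_, ?_⟩
      · rw [← hka, mul_smul, mul_smul, inv_smul_smul, hd1]
      · rw [← hub, mul_smul, mul_smul, inv_smul_smul, hd2]
    · intro d
      apply Subtype.ext
      show k * (k⁻¹ * (d : G) * k) * k⁻¹ = d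
      group
    · intro d
      apply Subtype.ext
      show k⁻¹ * (k * (d : G) * k⁻¹) * k = d
      group

/-- no element of `A` fixes a second point -/
theorem ES.A_fix [Finite G] {a : G} (ha : a ∈ A) {b : G ⧸ Nn A} (hb : al A ≠ b) (hab : a • b = b) : a = 1 := by
  obtain ⟨g, rfl⟩ := QuotientGroup.mk_surjective b
  have hgN : g ∉ Nn A := by
    intro hgN
    apply hb
    rw [← smul_al (g := g), smul_al_iff.2 hgN]
  obtain ⟨u, huu, hu, hug⟩ := h.exists_inv_coset hgN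
  rw [← hug] at hab
  have h1 : a ∈ stab2 G (al A) (QuotientGroup.mk u) :=
    mem_stab2.2 ⟨smul_al_iff.2 (Subgroup.le_normalizer ha), hab⟩
  rw [stab2_al huu, mem_D] at h1
  exact h.inf_eq huu hu ha h1.2

theorem ES.exists_stab_ne [Finite G] {b : G ⧸ Nn A} (hb : al A ≠ b) : ∃ d ∈ stab2 G (al A) b, d ≠ 1 := by
  obtain ⟨s, -, -, -, -, hc⟩ := h.exists_swap hb
  have h1 := h.one_lt
  rw [← hc] at h1
  obtain ⟨x, y, hxy⟩ := Finite.one_lt_card_iff_nontrivial.1 h1
  by_cases hx : (x : G) = 1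
  · exact ⟨y, y.2, fun hy => hxy (Subtype.ext (hx.trans hy.symm))⟩
  · exact ⟨x, x.2, hx⟩

theorem ES.stab_comm [Finite G] {a b : G ⧸ Nn A} (hab : a ≠ b) {x y : G} (hx : x ∈ stab2 G a b)
    (hy : y ∈ stab2 G a b) : x * y = y * x := by
  obtain ⟨s, hss, -, -, hinv, -⟩ := h.exists_swap hab
  have h1 := hinv _ ((stab2 G a b).mul_mem hx hy)
  have h2 : s * (x * y) * s⁻¹ = (s * x * s⁻¹) * (s * y * s⁻¹) := by group
  rw [h2, hinv x hx, hinv y hy, mul_inv_rev] at h1
  have h3 : (x⁻¹ * y⁻¹)⁻¹ = (y⁻¹ * x⁻¹)⁻¹ := by rw [h1]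
  simpa using h3.symm

/-- an element of `N` inverts no nontrivial element of the complement -/
theorem ES.no_inversion [Finite G] {b : G ⧸ Nn A} (hb : al A ≠ b) {n : G} (hn : n ∈ Nn A)
    (hinv : ∀ d ∈ stab2 G (al A) b, n * d * n⁻¹ = d⁻¹) : False := by
  obtain ⟨d, hd, hd1⟩ := h.exists_stab_ne hb
  obtain ⟨s, hss, -, -, -, hcard⟩ := h.exists_swap hb
  have hdN : ∀ x ∈ stab2 G (al A) b, x ∈ Nn A := fun x hx => smul_al_iff.1 (mem_stab2.1 hx).1
  let f : stab2 G (al A) b → Nn A ⧸ A.subgroupOf (Nn A) := fun d => QuotientGroup.mk ⟨d, hdN d d.2⟩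
  have hf : Function.Injective f := by
    intro x y hxy
    have h0 := QuotientGroup.eq.1 hxy
    have h1 : (x : G)⁻¹ * y ∈ A := h0
    have h2 : (x : G)⁻¹ * y ∈ stab2 G (al A) b := (stab2 G (al A) b).mul_mem ((stab2 G (al A) b).inv_mem x.2) y.2
    have h3 := h.A_fix h1 hb (mem_stab2.1 h2).2
    exact Subtype.ext (inv_mul_eq_one.1 h3)
  have hb' : Function.Bijective f := (Nat.bijective_iff_injective_and_card f).2 ⟨hf, hcard⟩
  obtain ⟨x, hx⟩ := hb'.2 (QuotientGroup.mk ⟨n, hn⟩)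
  have h0 := QuotientGroup.eq.1 hx
  have h1 : (x : G)⁻¹ * n ∈ A := h0
  -- `n = x a`
  set a := (x : G)⁻¹ * n with ha
  have hna : n = x * a := by rw [ha]; group
  have h2 := hinv d hd
  have h3 : a * d * a⁻¹ = d⁻¹ := by
    have h4 : (x : G) * (a * d * a⁻¹) * (x : G)⁻¹ = d⁻¹ := by
      rw [← h2, hna]; group
    have h5 := h.stab_comm hb x.2 ((stab2 G (al A) b).inv_mem hd)
    calc a * d * a⁻¹ = (x : G)⁻¹ * ((x : G) * (a * d * a⁻¹) * (x : G)⁻¹) * x := by group
      _ = (x : G)⁻¹ * (d⁻¹ * x) := by rw [h4]; group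
      _ = (x : G)⁻¹ * (x * d⁻¹) := by rw [h5]
      _ = d⁻¹ := by group
  have h4 : d⁻¹ * d⁻¹ ∈ A := by
    have h5 : d⁻¹ * d⁻¹ = a * (d * a⁻¹ * d⁻¹) := by
      calc d⁻¹ * d⁻¹ = (a * d * a⁻¹) * d⁻¹ := by rw [h3]
        _ = _ := by group
    rw [h5]
    exact A.mul_mem h1 ((Subgroup.mem_normalizer_iff.1 (hdN d hd) a⁻¹).1 (A.inv_mem h1))
  have h5 : d⁻¹ * d⁻¹ = 1 := h.A_fix h4 hb (mem_stab2.1
    ((stab2 G (al A) b).mul_mem ((stab2 G (al A) b).inv_mem hd) ((stab2 G (al A) b).inv_mem hd))).2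
  have h6 : d⁻¹ ∈ A := h.inv_mem ((Nn A).inv_mem (hdN d hd)) h5
  have h7 := h.A_fix h6 hb (mem_stab2.1 ((stab2 G (al A) b).inv_mem hd)).2
  exact hd1 (inv_eq_one.1 h7)

theorem ES.stab_fix_two [Finite G] {b c : G ⧸ Nn A} (hb : al A ≠ b) (hc : al A ≠ c) (hbc : b ≠ c)
    (hfix : ∀ d ∈ stab2 G (al A) b, d • c = c) : False := by
  obtain ⟨u, huu, hu1, hu2, hui, huc⟩ := h.exists_swap hb
  obtain ⟨v, hvv, hv1, hv2, hvi, hvc⟩ := h.exists_swap hc
  obtain ⟨w, hww, hw1, hw2, hwi, hwc⟩ := h.exists_swap hbc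
  have h1 : stab2 G (al A) b = stab2 G (al A) c := by
    apply Subgroup.eq_of_le_of_card_ge
    · intro d hd
      exact mem_stab2.2 ⟨(mem_stab2.1 hd).1, hfix d hd⟩
    · rw [huc, hvc]
  have h2 : stab2 G (al A) b = stab2 G b c := by
    apply Subgroup.eq_of_le_of_card_ge
    · intro d hd
      exact mem_stab2.2 ⟨(mem_stab2.1 hd).2, hfix d hd⟩
    · rw [huc, hwc]
  have hn : v * w * u ∈ Nn A := by
    rw [← smul_al_iff (A := A), mul_smul, mul_smul, hu1, hw1, hv2]
  refine h.no_inversion hb hn ?_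
  intro d hd
  have h3 : v * w * u * d * (v * w * u)⁻¹ = v * (w * (u * d * u⁻¹) * w⁻¹) * v⁻¹ := by group
  have h4 : d⁻¹ ∈ stab2 G b c := by rw [← h2]; exact (stab2 G (al A) b).inv_mem hd
  rw [h3, hui d hd, hwi _ h4, inv_inv, hvi d (by rw [← h1]; exact hd)]

theorem ES.three_al [Finite G] {x : G} {b c : G ⧸ Nn A} (hb : al A ≠ b) (hc : al A ≠ c) (hbc : b ≠ c)
    (hx : x • al A = al A) (hxb : x • b = b) (hxc : x • c = c) : x = 1 := by
  by_contra hx1
  obtain ⟨u, huu, hu1, hu2, hui, huc⟩ := h.exists_swap hb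
  obtain ⟨v, hvv, hv1, hv2, hvi, hvc⟩ := h.exists_swap hc
  have hxN : x ∈ Nn A := smul_al_iff.1 hx
  set C : Subgroup G := Nn A ⊓ Subgroup.centralizer {x} with hC
  have hCle : Nat.card C ≤ e A := by
    let f : C → Nn A ⧸ A.subgroupOf (Nn A) := fun d => QuotientGroup.mk ⟨d, (Subgroup.mem_inf.1 d.2).1⟩
    have hf : Function.Injective f := by
      intro y z hyz
      have h0 := QuotientGroup.eq.1 hyz
      have h1 : (y : G)⁻¹ * z ∈ A := h0
      have h2 : (y : G)⁻¹ * z ∈ Subgroup.centralizer {x} :=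
        (Subgroup.centralizer {x}).mul_mem ((Subgroup.centralizer {x}).inv_mem (Subgroup.mem_inf.1 y.2).2)
          (Subgroup.mem_inf.1 z.2).2
      rw [Subgroup.mem_centralizer_singleton_iff] at h2
      by_contra hne
      have h3 : (y : G)⁻¹ * z ≠ 1 := fun h4 => hne (Subtype.ext (inv_mul_eq_one.1 h4))
      have h4 : x ∈ A := h.free h1 h3 h2.symm
      exact hx1 (h.A_fix h4 hb hxb)
    exact Nat.card_le_card_of_injective f hf
  have key : ∀ y : G ⧸ Nn A, al A ≠ y → x • y = y → Nat.card (stab2 G (al A) y) = e A → stab2 G (al A) y = C := by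
    intro y hy hxy hcard
    apply Subgroup.eq_of_le_of_card_ge
    · intro d hd
      refine Subgroup.mem_inf.2 ⟨smul_al_iff.1 (mem_stab2.1 hd).1, ?_⟩
      rw [Subgroup.mem_centralizer_singleton_iff]
      exact h.stab_comm hy hd (mem_stab2.2 ⟨hx, hxy⟩)
    · rw [hcard]; exact hCle
  have h1 := key b hb hxb huc
  have h2 := key c hc hxc hvc
  refine h.stab_fix_two hb hc hbc ?_
  intro d hd
  rw [h1, ← h2] at hd
  exact (mem_stab2.1 hd).2

theorem ES.three [Finite G] (x : G) (a b c : G ⧸ Nn A) (hab : a ≠ b) (hbc : b ≠ c) (hac : a ≠ c)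
    (hxa : x • a = a) (hxb : x • b = b) (hxc : x • c = c) : x = 1 := by
  obtain ⟨k, rfl⟩ := QuotientGroup.mk_surjective a
  have hka : k • al A = QuotientGroup.mk k := smul_al
  rw [← hka] at hab hac hxa
  have h1 : k⁻¹ * x * k = 1 := by
    refine h.three_al (b := k⁻¹ • b) (c := k⁻¹ • c) ?_ ?_ ?_ ?_ ?_ ?_
    · intro h1; apply hab; rw [h1, smul_inv_smul]
    · intro h1; apply hac; rw [h1, smul_inv_smul]
    · intro h1; exact hbc (smul_left_cancel _ h1)
    · rw [mul_smul, mul_smul, hxa, inv_smul_smul]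
    · rw [mul_smul, mul_smul, smul_inv_smul, hxb]
    · rw [mul_smul, mul_smul, smul_inv_smul, hxc]
  calc x = k * (k⁻¹ * x * k) * k⁻¹ := by group
    _ = 1 := by rw [h1]; group

theorem ES.index_le [Finite G] :
    Nat.card {b : G ⧸ Nn A // al A ≠ b} ≤ Nat.card A := by
  classical
  have hfin1 : Finite {x : G // x ∈ Nn A ∧ x ∉ A} := inferInstance
  let f : (Σ b : {b : G ⧸ Nn A // al A ≠ b}, {d : stab2 G (al A) (b : G ⧸ Nn A) // d ≠ 1}) →
      {x : G // x ∈ Nn A ∧ x ∉ A} := fun p => ⟨p.2.1.1, smul_al_iff.1 (mem_stab2.1 p.2.1.2).1, fun hA =>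
        p.2.2 (Subtype.ext (h.A_fix hA p.1.2 (mem_stab2.1 p.2.1.2).2))⟩
  have hf : Function.Injective f := by
    rintro ⟨⟨b, hb⟩, ⟨⟨d, hd⟩, hd1⟩⟩ ⟨⟨c, hc⟩, ⟨⟨d', hd'⟩, hd'1⟩⟩ hdd
    have h1 : d = d' := congrArg Subtype.val hdd
    subst h1
    have h2 : b = c := by
      by_contra hbc
      apply hd1
      apply Subtype.ext
      exact h.three_al hb hc hbc (mem_stab2.1 hd).1 (mem_stab2.1 hd).2 (mem_stab2.1 hd').2
    subst h2
    rfl
  have h1 := Nat.card_le_card_of_injective f hf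
  have : Fintype {b : G ⧸ Nn A // al A ≠ b} := Fintype.ofFinite _
  rw [Nat.card_sigma] at h1
  have h2 : ∀ b : {b : G ⧸ Nn A // al A ≠ b}, Nat.card {d : stab2 G (al A) (b : G ⧸ Nn A) // d ≠ 1} = e A - 1 := by
    intro b
    obtain ⟨-, -, -, -, -, hc⟩ := h.exists_swap b.2
    have : Fintype (stab2 G (al A) (b : G ⧸ Nn A)) := Fintype.ofFinite _
    rw [← hc, Nat.card_eq_fintype_card, Nat.card_eq_fintype_card, Fintype.card_subtype_compl,
      Fintype.card_subtype_eq]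
  rw [Finset.sum_congr rfl (fun b _ => h2 b), Finset.sum_const, smul_eq_mul, Finset.card_univ,
    ← Nat.card_eq_fintype_card] at h1
  have h3 : Nat.card {x : G // x ∈ Nn A ∧ x ∉ A} = (e A - 1) * Nat.card A := by
    have h4 : Nat.card {x : G // x ∈ Nn A ∧ x ∉ A} + Nat.card A = Nat.card (Nn A) := by
      have e1 : {x : Nn A // (x : G) ∉ A} ≃ {x : G // x ∈ Nn A ∧ x ∉ A} :=
        ⟨fun x => ⟨x, x.1.2, x.2⟩, fun x => ⟨⟨x, x.2.1⟩, x.2.2⟩, fun x => rfl, fun x => rfl⟩
      have e2 : {x : Nn A // (x : G) ∈ A} ≃ A :=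
        ⟨fun x => ⟨x, x.2⟩, fun x => ⟨⟨x, Subgroup.le_normalizer x.2⟩, x.2⟩, fun x => rfl, fun x => rfl⟩
      have : Fintype (Nn A) := Fintype.ofFinite _
      rw [← Nat.card_congr e1, ← Nat.card_congr e2, Nat.card_eq_fintype_card, Nat.card_eq_fintype_card,
        Nat.card_eq_fintype_card, Fintype.card_subtype_compl]
      have := Fintype.card_subtype_le (fun x : Nn A => (x : G) ∈ A)
      omega
    have h5 : Nat.card (Nn A) = e A * Nat.card A := by
      have h6 := (A.subgroupOf (Nn A)).index_mul_card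
      rw [Nat.card_congr (Subgroup.subgroupOfEquivOfLe (Subgroup.le_normalizer (H := A))).toEquiv] at h6
      exact h6.symm
    rw [h5] at h4
    have h6 := h.one_lt
    rw [Nat.sub_mul, one_mul]
    omega
  rw [h3, mul_comm] at h1
  have h6 := h.one_lt
  exact Nat.le_of_mul_le_mul_left h1 (by omega)

theorem ES.ker_reg [Finite G]
    (y z : G ⧸ Nn A) (hy : y ≠ al A) (hz : z ≠ al A) : ∃! u : A, (u : G) • y = z := by
  have hAal : ∀ u : A, (u : G) • al A = al A := fun u => smul_al_iff.2 (Subgroup.le_normalizer u.2)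
  let f : A → {b : G ⧸ Nn A // al A ≠ b} := fun u => ⟨(u : G) • y, fun h1 => hy (by
    rw [← hAal u] at h1
    exact (smul_left_cancel _ h1).symm)⟩
  have hf : Function.Injective f := by
    intro u v huv
    have h1 : (u : G) • y = (v : G) • y := congrArg Subtype.val huv
    have h2 : ((v : G)⁻¹ * u) • y = y := by rw [mul_smul, h1, inv_smul_smul]
    have h3 := h.A_fix (A.mul_mem (A.inv_mem v.2) u.2) (Ne.symm hy) h2
    exact Subtype.ext (inv_mul_eq_one.1 h3).symm
  have hb : Function.Bijective f := by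
    have h1 := Nat.card_le_card_of_injective f hf
    exact (Nat.bijective_iff_injective_and_card f).2 ⟨hf, le_antisymm h1 (h.index_le)⟩
  obtain ⟨u, hu⟩ := hb.2 ⟨z, Ne.symm hz⟩
  refine ⟨u, congrArg Subtype.val hu, ?_⟩
  intro v hv
  apply hf
  apply Subtype.ext
  exact hv.trans (congrArg Subtype.val hu).symm

theorem ES.card_omega [Finite G] :
    Nat.card (G ⧸ Nn A) = Nat.card A + 1 := by
  classical
  obtain ⟨g, hg⟩ : ∃ g, g ∉ Nn A := by
    by_contra hcon
    push Not at hcon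
    exact h.ne_top (eq_top_iff.2 fun g _ => hcon g)
  have hy : (QuotientGroup.mk g : G ⧸ Nn A) ≠ al A := by
    intro h1
    apply hg
    rw [← smul_al_iff, smul_al, h1]
  have h1 : Nat.card {b : G ⧸ Nn A // al A ≠ b} = Nat.card A := by
    symm
    have hAal : ∀ u : A, (u : G) • al A = al A := fun u => smul_al_iff.2 (Subgroup.le_normalizer u.2)
    let f : A → {b : G ⧸ Nn A // al A ≠ b} := fun u => ⟨(u : G) • QuotientGroup.mk g, fun h1 => hy (by
      rw [← hAal u] at h1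
      exact (smul_left_cancel _ h1).symm)⟩
    apply Nat.card_congr (Equiv.ofBijective f ⟨?_, ?_⟩)
    · intro u v huv
      have h1 : (u : G) • (QuotientGroup.mk g : G ⧸ Nn A) = (v : G) • QuotientGroup.mk g := congrArg Subtype.val huv
      exact (h.ker_reg (QuotientGroup.mk g) ((u : G) • QuotientGroup.mk g) hy (fun h2 => (f u).2 h2.symm)).unique
        rfl h1.symm
    · rintro ⟨z, hz⟩
      obtain ⟨u, hu, -⟩ := h.ker_reg (QuotientGroup.mk g) z hy (Ne.symm hz)
      exact ⟨u, Subtype.ext hu⟩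
  have : Fintype (G ⧸ Nn A) := Fintype.ofFinite _
  rw [← h1, Nat.card_eq_fintype_card, Nat.card_eq_fintype_card, Fintype.card_subtype_compl,
    Fintype.card_subtype_eq']
  have : 0 < Fintype.card (G ⧸ Nn A) := Fintype.card_pos
  omega

theorem ES.two_trans [Finite G] :
    MulAction.IsMultiplyPretransitive G (G ⧸ Nn A) 2 := by
  rw [MulAction.is_two_pretransitive_iff]
  have key : ∀ a b : G ⧸ Nn A, a ≠ b → ∃ k : G, k • a = al A ∧ k • b ≠ al A := by
    intro a b hab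
    obtain ⟨k, rfl⟩ := QuotientGroup.mk_surjective a
    have hka : k • al A = QuotientGroup.mk k := smul_al
    refine ⟨k⁻¹, by rw [← hka, inv_smul_smul], ?_⟩
    intro h1
    apply hab
    rw [← hka, ← h1, smul_inv_smul]
  intro a b c d hab hcd
  obtain ⟨k, hk1, hk2⟩ := key a b hab
  obtain ⟨l, hl1, hl2⟩ := key c d hcd
  obtain ⟨u, hu, -⟩ := h.ker_reg (k • b) (l • d) hk2 hl2
  refine ⟨l⁻¹ * u * k, ?_, ?_⟩
  · rw [mul_smul, mul_smul, hk1, smul_al_iff.2 (Subgroup.le_normalizer u.2), ← hl1, inv_smul_smul]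
  · rw [mul_smul, mul_smul, hu, inv_smul_smul]

theorem ES.zass [Finite G] [IsSimpleGroup G] :
    Cfsg.IsZassenhausGroup G (G ⧸ Nn A) := by
  classical
  obtain ⟨g, hg⟩ : ∃ g, g ∉ Nn A := by
    by_contra hcon
    push Not at hcon
    exact h.ne_top (eq_top_iff.2 fun g _ => hcon g)
  have hy : al A ≠ (QuotientGroup.mk g : G ⧸ Nn A) := by
    intro h1
    apply hg
    rw [← smul_al_iff, smul_al, h1]
  obtain ⟨d, hd, hd1⟩ := h.exists_stab_ne hy
  refine ⟨?_, h.two_trans, h.three, ⟨d, hd1, _, _, hy, (mem_stab2.1 hd).1, (mem_stab2.1 hd).2⟩, ?_⟩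
  · constructor
    intro x y hxy
    have hker : (MulAction.toPermHom G (G ⧸ Nn A)).ker = ⊥ := by
      rcases IsSimpleGroup.eq_bot_or_eq_top_of_normal (MulAction.toPermHom G (G ⧸ Nn A)).ker inferInstance with h1 | h1
      · exact h1
      · exfalso
        have h2 : g ∈ (MulAction.toPermHom G (G ⧸ Nn A)).ker := by rw [h1]; trivial
        rw [MonoidHom.mem_ker] at h2
        have h3 : g • al A = al A := by
          have := congrArg (fun p : Equiv.Perm (G ⧸ Nn A) => p (al A)) h2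
          exact this
        exact hg (smul_al_iff.1 h3)
    have h2 : x⁻¹ * y ∈ (MulAction.toPermHom G (G ⧸ Nn A)).ker := by
      rw [MonoidHom.mem_ker]
      ext a
      show (x⁻¹ * y) • a = a
      rw [mul_smul, ← hxy, inv_smul_smul]
    rw [hker, Subgroup.mem_bot] at h2
    exact inv_mul_eq_one.1 h2
  · intro N hN hNt
    rcases IsSimpleGroup.eq_bot_or_eq_top_of_normal N hN with h1 | h1
    · exfalso
      subst h1
      obtain ⟨x, hx⟩ := hNt.exists_smul_eq (al A) (QuotientGroup.mk g)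
      have hx1 : (x : G) = 1 := Subgroup.mem_bot.1 x.2
      have h2 : (x : G) • al A = QuotientGroup.mk g := hx
      rw [hx1, one_smul] at h2
      exact hy h2
    · refine ⟨al A, ?_⟩
      subst h1
      intro h2
      have h3 := (Subgroup.eq_bot_iff_forall _).1 h2 ⟨d, Subgroup.mem_top d⟩ (by
        rw [MulAction.mem_stabilizer_iff]
        exact (mem_stab2.1 hd).1)
      exact hd1 (congrArg Subtype.val h3)

/-- every non-identity element of `A` is an involution -/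
theorem ES.all_inv [Finite G] [IsSimpleGroup G] :
    ∀ a ∈ A, a * a = 1 := by
  classical
  obtain ⟨g, hg⟩ : ∃ g, g ∉ Nn A := by
    by_contra hcon
    push Not at hcon
    exact h.ne_top (eq_top_iff.2 fun g _ => hcon g)
  have hy : al A ≠ (QuotientGroup.mk g : G ⧸ Nn A) := by
    intro h1
    apply hg
    rw [← smul_al_iff, smul_al, h1]
  have hker : Cfsg.Agent.H37.ZT.IsKer G (al A) A := by
    refine ⟨?_, ?_, h.ker_reg⟩
    · intro a ha
      exact smul_al_iff.2 (Subgroup.le_normalizer ha)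
    · intro n hn u hu
      exact (Subgroup.mem_normalizer_iff.1 (smul_al_iff.1 hn) u).1 hu
  obtain ⟨s, -, -, -, -, hc⟩ := h.exists_swap hy
  have hcard := h.card_omega
  have h2 : Nat.card (J A) = Nat.card A - 1 := by
    rw [h.card_IC_eq.1]
    rcases Cfsg.Agent.H37.ZT.zass_abelian h.zass hy hker (fun x hx y hy => h.sc.comm hx hy) with h1 | ⟨h1, -⟩
    · rw [hc, hcard] at h1; omega
    · exfalso
      rw [hc, hcard] at h1
      obtain ⟨k, hk⟩ := h.two
      have hpos : 0 < Nat.card A := Nat.card_pos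
      omega
  have h3 : Nat.card {a : A // a ≠ 1} = Nat.card A - 1 := by
    have : Fintype A := Fintype.ofFinite _
    rw [Nat.card_eq_fintype_card, Nat.card_eq_fintype_card, Fintype.card_subtype_compl, Fintype.card_subtype_eq]
  let f : J A → {a : A // a ≠ 1} := fun x => ⟨⟨x, x.2.1⟩, fun h1 => x.2.2.2 (congrArg Subtype.val h1)⟩
  have hf : Function.Injective f := by
    intro x y hxy
    exact Subtype.ext (congrArg (fun z => ((z : A) : G)) (congrArg Subtype.val hxy))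
  have hb : Function.Bijective f := (Nat.bijective_iff_injective_and_card f).2 ⟨hf, by rw [h2, h3]⟩
  intro a ha
  by_cases ha1 : a = 1
  · rw [ha1, one_mul]
  obtain ⟨x, hx⟩ := hb.2 ⟨⟨a, ha⟩, fun h1 => ha1 (congrArg Subtype.val h1)⟩
  have h4 : (x : G) = a := congrArg (fun z => ((z : A) : G)) (congrArg Subtype.val hx)
  rw [← h4]
  exact x.2.2.1

end

end Cfsg.Agent.H68.CA
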