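import Mathlib
import Cfsg.Agent.H68.CAEvenB
import Cfsg.Agent.S1230

/-!
# Simple CA-groups of even order are `PSL₂(2^f)`
-/

set_option autoImplicit false
set_option linter.unusedSectionVars false

namespace Cfsg.Agent.H68.CA

open Cfsg.Agent.SC Cfsg.Agent.H34

variable {G : Type*} [Group G]

/-- commuting is transitive on non-identity elements -/
def IsCA (G : Type*) [Group G] : Prop :=
  ∀ a b c : G, a ≠ 1 → b ≠ 1 → c ≠ 1 → Commute a b → Commute b c → Commute a c

theorem IsCA.selfCent (hCA : IsCA G) {t : G} (ht : t ≠ 1) : SelfCent (Subgroup.centralizer {t}) := by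
  intro u hu hu1
  rw [Subgroup.mem_centralizer_singleton_iff] at hu
  ext x
  rw [Subgroup.mem_centralizer_singleton_iff, Subgroup.mem_centralizer_singleton_iff]
  by_cases hx1 : x = 1
  · subst hx1; simp
  constructor
  · intro hx
    exact hCA x u t hx1 hu1 ht hx hu
  · intro hx
    exact hCA x t u hx1 ht hu1 hx hu.symm

theorem es_of_simple [Finite G] [IsSimpleGroup G] (hna : ¬ IsMulCommutative G) {A : Subgroup G} (hA : SelfCent A)
    (h2 : 2 ∣ Nat.card A) : ES A := by
  classical
  have hp2 : Fact (Nat.Prime 2) := ⟨Nat.prime_two⟩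
  have hnt : ¬ A.Normal := by
    intro hn
    rcases IsSimpleGroup.eq_bot_or_eq_top_of_normal A hn with h1 | h1
    · rw [h1, Subgroup.card_bot] at h2
      omega
    · exact hna ⟨⟨fun x y => hA.comm (by rw [h1]; trivial) (by rw [h1]; trivial)⟩⟩
  refine ⟨hA, h2, ?_, ?_⟩
  · intro h1
    exact hnt (Subgroup.normalizer_eq_top_iff.1 h1)
  · intro hN
    obtain ⟨S, hS⟩ := hA.exists_sylow_le h2
    have h2G : 2 ∣ Nat.card G := h2.trans (Subgroup.card_subgroup_dvd_card A)
    have h2S : 2 ∣ Nat.card S := S.dvd_card_of_dvd_card h2G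
    obtain ⟨s, hs⟩ := exists_prime_orderOf_dvd_card' 2 h2S
    have hs1 : (s : G) ≠ 1 := by
      intro h3
      have : s = 1 := Subtype.ext h3
      rw [this, orderOf_one] at hs
      omega
    have hP : Subgroup.normalizer ((S : Subgroup G) : Set G) ≤ Subgroup.centralizer ((S : Subgroup G) : Set G) := by
      intro n hn
      have h3 : n * s * n⁻¹ ∈ A := hS ((Subgroup.mem_normalizer_iff.1 hn s).1 s.2)
      have h4 : n ∈ A := hN (hA.mem_normalizer (hS s.2) hs1 h3)
      rw [Subgroup.mem_centralizer_iff]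
      intro x hx
      exact hA.comm (hS hx) h4
    have hc := MonoidHom.ker_transferSylow_isComplement' S hP
    rcases IsSimpleGroup.eq_bot_or_eq_top_of_normal (MonoidHom.transferSylow S hP).ker inferInstance with h3 | h3
    · rw [h3] at hc
      have h4 : (S : Subgroup G) = ⊤ := Subgroup.isComplement'_bot_left.1 hc
      exact hna ⟨⟨fun x y => hA.comm (hS (by rw [h4]; trivial)) (hS (by rw [h4]; trivial))⟩⟩
    · rw [h3] at hc
      have h4 : (S : Subgroup G) = ⊥ := Subgroup.isComplement'_top_left.1 hc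
      apply hs1
      have h5 : (s : G) ∈ (S : Subgroup G) := s.2
      have h6 : (s : G) ∈ (⊥ : Subgroup G) := h4 ▸ h5
      exact Subgroup.mem_bot.1 h6

theorem es_centralizer [Finite G] [IsSimpleGroup G] (hna : ¬ IsMulCommutative G) (hCA : IsCA G) (t : G)
    (ht : orderOf t = 2) : ES (Subgroup.centralizer {t}) := by
  have ht1 : t ≠ 1 := by
    rintro rfl
    rw [orderOf_one] at ht
    omega
  refine es_of_simple hna (hCA.selfCent ht1) ?_
  rw [← ht]
  have h3 := orderOf_dvd_natCard (⟨t, Subgroup.mem_centralizer_singleton_iff.2 rfl⟩ : Subgroup.centralizer {t})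
  rwa [Subgroup.orderOf_mk] at h3

theorem psl_of_even' [Finite G] [IsSimpleGroup G] (hna : ¬ IsMulCommutative G) (hCA : IsCA G)
    (t : G) (ht : orderOf t = 2) : ∃ (F : Type) (_ : Field F) (_ : Fintype F) (f : ℕ), 2 ≤ f ∧ Fintype.card F = 2 ^ f ∧
      Nat.card (Subgroup.centralizer {t}) = 2 ^ f ∧
      Nonempty (G ≃* Matrix.ProjectiveSpecialLinearGroup (Fin 2) F) := by
  classical
  have hp2 : Fact (Nat.Prime 2) := ⟨Nat.prime_two⟩
  have key := es_centralizer hna hCA
  have h := key t ht
  obtain ⟨S, hS⟩ := h.sc.exists_sylow_le h.two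
  have hA2 : IsPGroup 2 (Subgroup.centralizer {t}) := by
    intro x
    refine ⟨1, ?_⟩
    apply Subtype.ext
    rw [pow_one, sq]
    exact h.all_inv x x.2
  have hSA : (S : Subgroup G) = Subgroup.centralizer {t} := (S.is_maximal' hA2 hS).symm
  have he := h.one_lt
  have hJ := h.card_IC_eq.1
  have hJle : Nat.card (J (Subgroup.centralizer {t})) + 1 ≤ Nat.card (Subgroup.centralizer {t}) := by
    have h3 : Nat.card {a : Subgroup.centralizer {t} // a ≠ 1} = Nat.card (Subgroup.centralizer {t}) - 1 := by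
      have : Fintype (Subgroup.centralizer {t}) := Fintype.ofFinite _
      rw [Nat.card_eq_fintype_card, Nat.card_eq_fintype_card, Fintype.card_subtype_compl, Fintype.card_subtype_eq]
    let f : J (Subgroup.centralizer {t}) → {a : Subgroup.centralizer {t} // a ≠ 1} := fun x => ⟨⟨x, x.2.1⟩,
      fun h1 => x.2.2.2 (congrArg Subtype.val h1)⟩
    have hf : Function.Injective f := by
      intro x y hxy
      exact Subtype.ext (congrArg (fun z => ((z : Subgroup.centralizer {t}) : G)) (congrArg Subtype.val hxy))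
    have h4 := Nat.card_le_card_of_injective f hf
    rw [h3] at h4
    have : 0 < Nat.card (Subgroup.centralizer {t}) := Nat.card_pos
    omega
  have hcS : Nat.card S = Nat.card (Subgroup.centralizer {t}) := by
    rw [← hSA]
  have hS3 : 3 ≤ Nat.card S := by omega
  have hSc : ¬ IsCyclic (S : Subgroup G) := by
    intro hcyc
    obtain ⟨g, hg⟩ := hcyc.exists_generator
    have h3 : Nat.card S = orderOf g := by
      rw [← Nat.card_zpowers]
      have : Subgroup.zpowers g = ⊤ := by
        rw [eq_top_iff]; intro x _; exact hg x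
      rw [this, Subgroup.card_top]
    have h4 : orderOf g ∣ 2 := by
      apply orderOf_dvd_of_pow_eq_one
      apply Subtype.ext
      rw [sq]
      exact h.all_inv g (by rw [← hSA]; exact g.2)
    have := Nat.le_of_dvd (by norm_num) h4
    omega
  have hSn : ¬ (S : Subgroup G).Normal := by
    intro hn
    apply h.ne_top
    rw [← hSA]
    exact Subgroup.normalizer_eq_top_iff.2 hn
  obtain ⟨F, iF, iFF, hF, hG⟩ := Cfsg.Agent.S1230.result S hSc hSn (by
    intro u hu
    have h1 := key u hu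
    refine ⟨⟨⟨fun x y => Subtype.ext (h1.sc.comm x.2 y.2)⟩⟩, ?_⟩
    intro c hc
    rw [sq]
    exact h1.all_inv c hc)
  obtain ⟨f, hf⟩ := IsPGroup.iff_card.1 S.isPGroup'
  refine ⟨F, iF, iFF, f, ?_, by rw [hF, hf], by rw [← hcS, hf], hG⟩
  by_contra hcon
  have h3 : f ≤ 1 := by omega
  have h4 : 2 ^ f ≤ 2 ^ 1 := Nat.pow_le_pow_right (by norm_num) h3
  rw [← hf] at h4
  omega

theorem psl_of_even [Finite G] [IsSimpleGroup G] (hna : ¬ IsMulCommutative G) (hCA : IsCA G)
    (h2 : 2 ∣ Nat.card G) : ∃ (F : Type) (_ : Field F) (_ : Fintype F) (f : ℕ), 2 ≤ f ∧ Fintype.card F = 2 ^ f ∧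
      Nonempty (G ≃* Matrix.ProjectiveSpecialLinearGroup (Fin 2) F) := by
  have hp2 : Fact (Nat.Prime 2) := ⟨Nat.prime_two⟩
  obtain ⟨t, ht⟩ := exists_prime_orderOf_dvd_card' 2 h2
  obtain ⟨F, iF, iFF, f, h1, h2, -, h3⟩ := psl_of_even' hna hCA t ht
  exact ⟨F, iF, iFF, f, h1, h2, h3⟩

theorem ES.card_J [Finite G] [IsSimpleGroup G] {A : Subgroup G} (h : ES A) : Nat.card A = e A + 1 := by
  classical
  rw [← h.card_IC_eq.1]
  have h3 : Nat.card {a : A // a ≠ 1} = Nat.card A - 1 := by
    have : Fintype A := Fintype.ofFinite _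
    rw [Nat.card_eq_fintype_card, Nat.card_eq_fintype_card, Fintype.card_subtype_compl, Fintype.card_subtype_eq]
  have h4 : Nat.card (J A) = Nat.card {a : A // a ≠ 1} := by
    apply Nat.card_congr
    exact ⟨fun x => ⟨⟨x, x.2.1⟩, fun h1 => x.2.2.2 (congrArg Subtype.val h1)⟩,
      fun a => ⟨a.1, a.1.2, h.all_inv _ a.1.2, fun h1 => a.2 (Subtype.ext h1)⟩, fun x => rfl, fun a => rfl⟩
  have : 0 < Nat.card A := Nat.card_pos
  omega

end Cfsg.Agent.H68.CA
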