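import Mathlib
import Cfsg.Agent.H21.RecogSL2
import Cfsg.Agent.H68.CAEvenC

/-!
# `SL₂(F)` is a CA-group in characteristic two
-/

set_option autoImplicit false

namespace Cfsg.Agent.H68.CA

theorem par_one {F : Type*} [Field F] {x1 x2 x3 y1 y2 y3 z1 z2 z3 : F} (hy : y1 ≠ 0)
    (h12 : x1 * y2 = x2 * y1) (h13 : x1 * y3 = x3 * y1) (g12 : z1 * y2 = z2 * y1) (g13 : z1 * y3 = z3 * y1) :
    x1 * z2 = x2 * z1 ∧ x1 * z3 = x3 * z1 ∧ x2 * z3 = x3 * z2 := by
  refine ⟨?_, ?_, ?_⟩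
  · apply mul_left_cancel₀ hy
    linear_combination (-x1) * g12 + z1 * h12
  · apply mul_left_cancel₀ hy
    linear_combination (-x1) * g13 + z1 * h13
  · apply mul_left_cancel₀ (mul_ne_zero hy hy)
    linear_combination (-(x1 * y2)) * g13 - (z3 * y1) * h12 + (x1 * y3) * g12 + (z2 * y1) * h13

/-- 2×2 matrices commuting with a non-scalar matrix commute with each other -/
theorem comm_of_comm {F : Type*} [Field F] {a b c : Matrix (Fin 2) (Fin 2) F}
    (hb : b 0 1 ≠ 0 ∨ b 1 0 ≠ 0 ∨ b 1 1 - b 0 0 ≠ 0) (hab : a * b = b * a) (hbc : b * c = c * b) :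
    a * c = c * a := by
  have e1 := congrFun (congrFun hab 0) 0
  have e2 := congrFun (congrFun hab 0) 1
  have e3 := congrFun (congrFun hab 1) 0
  have f1 := congrFun (congrFun hbc 0) 0
  have f2 := congrFun (congrFun hbc 0) 1
  have f3 := congrFun (congrFun hbc 1) 0
  simp only [Matrix.mul_apply, Fin.sum_univ_two] at e1 e2 e3 f1 f2 f3
  have E1 : a 0 1 * b 1 0 = a 1 0 * b 0 1 := by linear_combination e1
  have E2 : a 0 1 * (b 1 1 - b 0 0) = (a 1 1 - a 0 0) * b 0 1 := by linear_combination e2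
  have E3 : a 1 0 * (b 1 1 - b 0 0) = (a 1 1 - a 0 0) * b 1 0 := by linear_combination -e3
  have F1 : c 0 1 * b 1 0 = c 1 0 * b 0 1 := by linear_combination -f1
  have F2 : c 0 1 * (b 1 1 - b 0 0) = (c 1 1 - c 0 0) * b 0 1 := by linear_combination -f2
  have F3 : c 1 0 * (b 1 1 - b 0 0) = (c 1 1 - c 0 0) * b 1 0 := by linear_combination f3
  have key : a 0 1 * c 1 0 = a 1 0 * c 0 1 ∧ a 0 1 * (c 1 1 - c 0 0) = (a 1 1 - a 0 0) * c 0 1 ∧
      a 1 0 * (c 1 1 - c 0 0) = (a 1 1 - a 0 0) * c 1 0 := by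
    rcases hb with hb | hb | hb
    · exact par_one hb E1 E2 F1 F2
    · obtain ⟨h1, h2, h3⟩ := par_one hb E1.symm E3 F1.symm F3
      exact ⟨h1.symm, h3, h2⟩
    · obtain ⟨h1, h2, h3⟩ := par_one hb E2.symm E3.symm F2.symm F3.symm
      exact ⟨h3, h1.symm, h2.symm⟩
  obtain ⟨k1, k2, k3⟩ := key
  ext i j
  fin_cases i <;> fin_cases j <;> simp [Matrix.mul_apply, Fin.sum_univ_two]
  · linear_combination k1
  · linear_combination k2
  · linear_combination -k3
  · linear_combination -k1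

theorem isCA_sl2 {F : Type*} [Field F] [CharP F 2] : IsCA (Matrix.SpecialLinearGroup (Fin 2) F) := by
  intro a b c ha hb hc hab hbc
  have h1 : (b : Matrix (Fin 2) (Fin 2) F) 0 1 ≠ 0 ∨ (b : Matrix (Fin 2) (Fin 2) F) 1 0 ≠ 0 ∨
      (b : Matrix (Fin 2) (Fin 2) F) 1 1 - (b : Matrix (Fin 2) (Fin 2) F) 0 0 ≠ 0 := by
    by_contra hcon
    push Not at hcon
    obtain ⟨h1, h2, h3⟩ := hcon
    apply hb
    have hdet := b.2
    rw [Matrix.det_fin_two, h1, h2, sub_eq_zero.1 h3, zero_mul, sub_zero, ← sq] at hdet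
    have h4 : (b : Matrix (Fin 2) (Fin 2) F) 0 0 = 1 := by
      have h5 : ((b : Matrix (Fin 2) (Fin 2) F) 0 0 - 1) ^ 2 = 0 := by
        have h6 : (2 : F) = 0 := CharP.cast_eq_zero F 2
        linear_combination hdet + (1 - (b : Matrix (Fin 2) (Fin 2) F) 0 0) * h6
      exact sub_eq_zero.1 (pow_eq_zero_iff two_ne_zero |>.1 h5)
    ext i j
    fin_cases i <;> fin_cases j
    · simpa using h4
    · simpa using h1
    · simpa using h2
    · simpa using (sub_eq_zero.1 h3).trans h4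
  have h2 := congrArg Subtype.val hab.eq
  have h3 := congrArg Subtype.val hbc.eq
  apply Subtype.ext
  exact comm_of_comm h1 h2 h3

theorem IsCA.of_equiv {G H : Type*} [Group G] [Group H] (e : G ≃* H) (h : IsCA H) : IsCA G := by
  intro a b c ha hb hc hab hbc
  have h1 := h (e a) (e b) (e c) (by simpa using ha) (by simpa using hb) (by simpa using hc)
    (hab.map e) (hbc.map e)
  have h2 : e (a * c) = e (c * a) := by rw [map_mul, map_mul]; exact h1
  exact e.injective h2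

theorem isCA_psl2 {F : Type*} [Field F] [Fintype F] {f : ℕ} (hf : 1 ≤ f) (hF : Fintype.card F = 2 ^ f) :
    CharP F 2 ∧ IsCA (Matrix.ProjectiveSpecialLinearGroup (Fin 2) F) := by
  have : Fact (Nat.Prime 2) := ⟨Nat.prime_two⟩
  have hc : CharP F 2 := by
    obtain ⟨p, hp⟩ := CharP.exists F
    obtain ⟨n, hpp, hn⟩ := FiniteField.card F p
    rw [hF] at hn
    have h1 : 2 ∣ p ^ (n : ℕ) := by rw [← hn]; exact dvd_pow_self 2 (by omega)
    have h2 := (Nat.prime_dvd_prime_iff_eq Nat.prime_two hpp).1 (Nat.prime_two.dvd_of_dvd_pow h1)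
    rw [h2]; exact hp
  refine ⟨hc, ?_⟩
  obtain ⟨e⟩ := H21.nonempty_mulEquiv_psl2 (F := F)
  exact isCA_sl2.of_equiv e.symm

end Cfsg.Agent.H68.CA
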