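import Mathlib
import Cfsg.Agent.S0071
import Cfsg.Agent.Zass.SelfCent

/-!
# Simple groups in which nonabelian subgroups are self-normalising, part A: Sylow subgroups are abelian
-/

set_option autoImplicit false
set_option linter.unusedSectionVars false

namespace Cfsg.Agent.H68.SN

variable {G : Type*} [Group G]

/-- two elements do not commute -/
def NA (K : Subgroup G) : Prop := ∃ x ∈ K, ∃ y ∈ K, x * y ≠ y * x

/-- nonabelian subgroups are self-normalising -/
def HypSN (G : Type*) [Group G] : Prop := ∀ K : Subgroup G, NA K → ∀ g ∈ Subgroup.normalizer (K : Set G), g ∈ K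

theorem comm_of_not_NA {K : Subgroup G} (h : ¬ NA K) {x y : G} (hx : x ∈ K) (hy : y ∈ K) : x * y = y * x := by
  by_contra hne
  exact h ⟨x, hx, y, hy, hne⟩

theorem NA.mono {K L : Subgroup G} (h : NA K) (hKL : K ≤ L) : NA L := by
  obtain ⟨x, hx, y, hy, hne⟩ := h
  exact ⟨x, hKL hx, y, hKL hy, hne⟩

theorem NA.conj {K : Subgroup G} (h : NA K) (g : G) : NA (K.map (MulAut.conj g).toMonoidHom) := by
  obtain ⟨x, hx, y, hy, hne⟩ := h
  refine ⟨_, ⟨x, hx, rfl⟩, _, ⟨y, hy, rfl⟩, ?_⟩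
  intro h1
  apply hne
  apply (MulAut.conj g).injective
  rw [map_mul, map_mul]
  exact h1

theorem mem_sup_norm {Q K : Subgroup G} (hK : K ≤ Subgroup.normalizer (Q : Set G)) {y : G} (hy : y ∈ Q ⊔ K) :
    ∃ q ∈ Q, ∃ k ∈ K, y = q * k := by
  have h1 := Subgroup.coe_mul_of_right_le_normalizer_left Q K hK
  have h2 : y ∈ ((Q ⊔ K : Subgroup G) : Set G) := hy
  rw [h1] at h2
  obtain ⟨q, hq, k, hk, h3⟩ := Set.mem_mul.1 h2
  exact ⟨q, hq, k, hk, h3.symm⟩

/-- a self-normalising subgroup of a finite `p`-group is everything -/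
theorem eq_of_self_norm [Finite G] {p : ℕ} [Fact p.Prime] {P T : Subgroup G} (hP : IsPGroup p P) (hT : T ≤ P)
    (h : ∀ g ∈ P, g ∈ Subgroup.normalizer (T : Set G) → g ∈ T) : T = P := by
  by_contra hne
  have h1 : T.subgroupOf P < ⊤ := by
    rw [lt_top_iff_ne_top]
    intro h2
    exact hne (le_antisymm hT (Subgroup.subgroupOf_eq_top.1 h2))
  have h2 : Group.IsNilpotent P := hP.isNilpotent
  have h3 := Group.normalizerCondition_of_isNilpotent (G := P) (T.subgroupOf P) h1
  obtain ⟨g, hg1, hg2⟩ := SetLike.exists_of_lt h3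
  apply hg2
  rw [Subgroup.mem_subgroupOf]
  apply h g g.2
  rw [Subgroup.mem_normalizer_iff] at hg1 ⊢
  intro x
  constructor
  · intro hx
    have := (hg1 ⟨x, hT hx⟩).1 (Subgroup.mem_subgroupOf.2 hx)
    exact Subgroup.mem_subgroupOf.1 this
  · intro hx
    have hxP : x ∈ P := by
      have := P.mul_mem (P.mul_mem (P.inv_mem g.2) (hT hx)) g.2
      convert this using 1
      group
    have := (hg1 ⟨x, hxP⟩).2 (Subgroup.mem_subgroupOf.2 hx)
    exact Subgroup.mem_subgroupOf.1 this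

/-- a form of Burnside's transfer theorem relative to a normal subgroup -/
theorem exists_rel_complement {L : Type*} [Group L] [Finite L] {p : ℕ} [Fact p.Prime] (C : Subgroup L) [C.Normal]
    (R : Sylow p L) (h1 : ∀ g ∈ Subgroup.normalizer (((R : Subgroup L) ⊔ C : Subgroup L) : Set L), g ∈ (R : Subgroup L) ⊔ C)
    (h2 : ∀ x ∈ R, ∀ y ∈ R, x * y * x⁻¹ * y⁻¹ ∈ C) :
    ∃ X : Subgroup L, X.Normal ∧ C ≤ X ∧ (∀ g : L, (orderOf g).Coprime p → g ∈ X) ∧ X ⊓ (R : Subgroup L) ≤ C := by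
  classical
  set π := QuotientGroup.mk' C with hπ
  have hsurj : Function.Surjective π := QuotientGroup.mk'_surjective C
  set Rb : Sylow p (L ⧸ C) := R.mapSurjective hsurj with hRb
  have hRbc : (Rb : Subgroup (L ⧸ C)) = (R : Subgroup L).map π := rfl
  have hker : π.ker = C := QuotientGroup.ker_mk' C
  have hmem : ∀ g : L, π g ∈ (Rb : Subgroup (L ⧸ C)) → g ∈ (R : Subgroup L) ⊔ C := by
    intro g hg
    rw [hRbc] at hg
    obtain ⟨y, hy, hyg⟩ := hg
    have h3 : y⁻¹ * g ∈ C := by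
      rw [← hker, MonoidHom.mem_ker, map_mul, map_inv, hyg, inv_mul_cancel]
    have h4 : g = y * (y⁻¹ * g) := by group
    rw [h4]
    exact Subgroup.mul_mem_sup hy h3
  have hmem' : ∀ g : L, g ∈ (R : Subgroup L) ⊔ C → π g ∈ (Rb : Subgroup (L ⧸ C)) := by
    intro g hg
    rw [hRbc]
    have h3 : ((R : Subgroup L) ⊔ C).map π = (R : Subgroup L).map π := by
      rw [Subgroup.map_sup, (Subgroup.map_eq_bot_iff C).2 (by rw [hker]), sup_bot_eq]
    rw [← h3]
    exact ⟨g, hg, rfl⟩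
  have hP : Subgroup.normalizer ((Rb : Subgroup (L ⧸ C)) : Set (L ⧸ C)) ≤
      Subgroup.centralizer ((Rb : Subgroup (L ⧸ C)) : Set (L ⧸ C)) := by
    intro n hn
    obtain ⟨n, rfl⟩ := hsurj n
    have h3 : n ∈ (R : Subgroup L) ⊔ C := by
      apply h1
      rw [Subgroup.mem_normalizer_iff] at hn ⊢
      intro x
      constructor
      · intro hx
        apply hmem
        rw [map_mul, map_mul, map_inv]
        exact (hn (π x)).1 (hmem' x hx)
      · intro hx
        apply hmem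
        apply (hn (π x)).2
        rw [← map_inv, ← map_mul, ← map_mul]
        exact hmem' _ hx
    have h4 := hmem' n h3
    rw [hRbc] at h4
    obtain ⟨y, hy, hyn⟩ := h4
    rw [Subgroup.mem_centralizer_iff]
    intro z hz
    change z ∈ (Rb : Subgroup (L ⧸ C)) at hz
    rw [hRbc] at hz
    obtain ⟨w, hw, rfl⟩ := hz
    rw [← hyn, ← map_mul, ← map_mul]
    have h5 := h2 w hw y hy
    rw [← hker, MonoidHom.mem_ker] at h5
    have h6 : π (w * y) = π (w * y * w⁻¹ * y⁻¹ * (y * w)) := by congr 1; group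
    rw [h6, map_mul, h5, one_mul]
  have hc := MonoidHom.ker_transferSylow_isComplement' Rb hP
  set φ := (MonoidHom.transferSylow Rb hP).comp π with hφ
  refine ⟨φ.ker, inferInstance, ?_, ?_, ?_⟩
  · intro c hcC
    rw [MonoidHom.mem_ker, hφ, MonoidHom.comp_apply]
    have : π c = 1 := by rw [← MonoidHom.mem_ker, hker]; exact hcC
    rw [this, map_one]
  · intro g hg
    rw [MonoidHom.mem_ker]
    obtain ⟨k, hk⟩ := Rb.isPGroup' (φ g)
    have h3 : orderOf (φ g) ∣ p ^ k := orderOf_dvd_of_pow_eq_one hk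
    have h4 : orderOf (φ g) ∣ orderOf g := orderOf_map_dvd φ g
    have h5 : orderOf (φ g) ∣ 1 := by
      have := Nat.dvd_gcd h4 h3
      rwa [Nat.Coprime.gcd_eq_one (hg.pow_right k)] at this
    exact orderOf_eq_one_iff.1 (Nat.dvd_one.1 h5)
  · intro x hx
    obtain ⟨hx1, hx2⟩ := Subgroup.mem_inf.1 hx
    rw [← hker, MonoidHom.mem_ker]
    have h3 : π x ∈ (MonoidHom.transferSylow Rb hP).ker := by
      rw [MonoidHom.mem_ker]; exact hx1
    have h4 : π x ∈ (Rb : Subgroup (L ⧸ C)) := by rw [hRbc]; exact ⟨x, hx2, rfl⟩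
    have h5 := hc.disjoint
    exact Subgroup.disjoint_def.1 h5 h3 h4

/-- a simple group has no normal complement to a nonabelian Sylow subgroup -/
theorem no_complement [Finite G] [IsSimpleGroup G] {p : ℕ} [Fact p.Prime] (P : Sylow p G) (hne : (P : Subgroup G) ≠ ⊥)
    (hna : ¬ IsMulCommutative G) : ¬ ∃ N : Subgroup G, N.Normal ∧ N.IsComplement' (P : Subgroup G) := by
  rintro ⟨N, hN, hc⟩
  rcases IsSimpleGroup.eq_bot_or_eq_top_of_normal N hN with h1 | h1
  · subst h1
    have h2 : (P : Subgroup G) = ⊤ := Subgroup.isComplement'_bot_left.1 hc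
    have h3 : IsPGroup p G := by
      have := P.isPGroup'
      rw [h2] at this
      exact this.of_equiv Subgroup.topEquiv
    have h4 : Group.IsNilpotent G := h3.isNilpotent
    apply hna
    exact ⟨⟨(IsSimpleGroup.comm_iff_isSolvable (G := G)).2 inferInstance⟩⟩
  · subst h1
    exact hne (Subgroup.isComplement'_top_left.1 hc)

/-- the `p`-elements of an abelian subgroup -/
def pPart (p : ℕ) (C : Subgroup G) (hC : ¬ NA C) : Subgroup G where
  carrier := {c | c ∈ C ∧ ∃ k : ℕ, c ^ p ^ k = 1}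
  one_mem' := ⟨C.one_mem, 0, by simp⟩
  mul_mem' := by
    rintro a b ⟨ha, k, hk⟩ ⟨hb, l, hl⟩
    refine ⟨C.mul_mem ha hb, k + l, ?_⟩
    rw [(show Commute a b from comm_of_not_NA hC ha hb).mul_pow, pow_add, pow_mul, hk, one_pow, one_mul,
      mul_comm, pow_mul, hl, one_pow]
  inv_mem' := by
    rintro a ⟨ha, k, hk⟩
    exact ⟨C.inv_mem ha, k, by rw [inv_pow, hk, inv_one]⟩

theorem mem_pPart {p : ℕ} {C : Subgroup G} {hC : ¬ NA C} {x : G} :
    x ∈ pPart p C hC ↔ x ∈ C ∧ ∃ k : ℕ, x ^ p ^ k = 1 := Iff.rfl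

/-- Claim A: Sylow subgroups are abelian -/
theorem sylow_comm [Finite G] [IsSimpleGroup G] (hna : ¬ IsMulCommutative G) (H : HypSN G) {r : ℕ} [hr : Fact r.Prime]
    (R : Sylow r G) : ¬ NA (R : Subgroup G) := by
  classical
  intro hR
  have hall : ∀ S : Sylow r G, NA (S : Subgroup G) := by
    intro S
    obtain ⟨g, hg⟩ := MulAction.exists_smul_eq G R S
    have := hR.conj g
    rw [← hg]
    exact this
  have hRne : (R : Subgroup G) ≠ ⊥ := by
    intro h
    obtain ⟨x, hx, y, hy, hne⟩ := hR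
    rw [h, Subgroup.mem_bot] at hx hy
    exact hne (by rw [hx, hy])
  have h1 := no_complement R hRne hna
  rw [Cfsg.Agent.S0071.result] at h1
  push Not at h1
  obtain ⟨Q0, hQ0, g0, hg0, hg0c, hg0n⟩ := h1
  -- the family
  set 𝒮 : Set (Subgroup G) := {Q | IsPGroup r Q ∧ ∃ g ∈ Subgroup.normalizer (Q : Set G), (orderOf g).Coprime r ∧
    g ∉ Subgroup.centralizer (Q : Set G)} with h𝒮
  have hne : 𝒮.Nonempty := ⟨Q0, R.isPGroup'.to_le hQ0, g0, hg0, hg0c, hg0n⟩
  obtain ⟨Q, ⟨hQp, g, hgN, hgc, hgC⟩, hmax⟩ := (Set.toFinite 𝒮).exists_maximal hne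
  -- `Q` is abelian
  have hQa : ¬ NA Q := by
    intro hQ
    have h2 : g ∈ Q := H Q hQ g hgN
    obtain ⟨k, hk⟩ := hQp ⟨g, h2⟩
    have h3 : g ^ r ^ k = 1 := congrArg Subtype.val hk
    have h5 : orderOf g ∣ 1 := by
      have := Nat.dvd_gcd (dvd_refl (orderOf g)) (orderOf_dvd_of_pow_eq_one h3)
      rwa [Nat.Coprime.gcd_eq_one (hgc.pow_right k)] at this
    have h6 : g = 1 := orderOf_eq_one_iff.1 (Nat.dvd_one.1 h5)
    exact hgC (by rw [h6]; exact Subgroup.one_mem _)
  set C := Subgroup.centralizer (Q : Set G) with hC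
  have hQC : Q ≤ C := by
    intro x hx
    rw [hC, Subgroup.mem_centralizer_iff]
    intro y hy
    exact comm_of_not_NA hQa hy hx
  have hNC : ∀ n ∈ Subgroup.normalizer (Q : Set G), ∀ c, c ∈ C → n * c * n⁻¹ ∈ C := by
    intro n hn c hc
    rw [hC, Subgroup.mem_centralizer_iff] at hc ⊢
    intro y hy
    have h2 : n⁻¹ * y * n ∈ Q := ((Subgroup.mem_normalizer_iff'').1 hn y).1 hy
    have h3 := hc _ h2
    calc y * (n * c * n⁻¹) = n * ((n⁻¹ * y * n) * c) * n⁻¹ := by group
      _ = n * (c * (n⁻¹ * y * n)) * n⁻¹ := by rw [h3]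
      _ = _ := by group
  have hNC' : ∀ n ∈ Subgroup.normalizer (Q : Set G), n ∈ Subgroup.normalizer (C : Set G) := by
    intro n hn
    rw [Subgroup.mem_normalizer_iff]
    intro x
    constructor
    · exact hNC n hn x
    · intro hx
      have := hNC n⁻¹ (Subgroup.inv_mem _ hn) _ hx
      convert this using 1
      group
  have hCa : ¬ NA C := fun h2 => hgC (H C h2 g (hNC' g hgN))
  -- all `r`-elements of `C` lie in `Q`
  have hCr : ∀ x ∈ C, (∃ k : ℕ, x ^ r ^ k = 1) → x ∈ Q := by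
    have hle : Q ≤ pPart r C hCa := by
      intro x hx
      obtain ⟨k, hk⟩ := hQp ⟨x, hx⟩
      exact ⟨hQC hx, k, congrArg Subtype.val hk⟩
    have hmem : pPart r C hCa ∈ 𝒮 := by
      refine ⟨?_, g, ?_, hgc, ?_⟩
      · rintro ⟨x, hx, k, hk⟩
        exact ⟨k, Subtype.ext hk⟩
      · have key : ∀ n ∈ Subgroup.normalizer (Q : Set G), ∀ x ∈ pPart r C hCa, n * x * n⁻¹ ∈ pPart r C hCa := by
          rintro n hn x ⟨hx, k, hk⟩
          refine ⟨hNC n hn x hx, k, ?_⟩
          rw [conj_pow, hk, mul_one, mul_inv_cancel]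
        rw [Subgroup.mem_normalizer_iff]
        intro x
        constructor
        · exact key g hgN x
        · intro hx
          have := key g⁻¹ (Subgroup.inv_mem _ hgN) _ hx
          convert this using 1
          group
      · intro h2
        apply hgC
        rw [Subgroup.mem_centralizer_iff] at h2 ⊢
        intro y hy
        exact h2 y (hle hy)
    have h2 : pPart r C hCa ≤ Q := hmax hmem hle
    intro x hx hk
    exact h2 ⟨hx, hk⟩
  obtain ⟨S, hS⟩ := hQp.exists_le_sylow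
  have hSna := hall S
  -- nonabelian subgroups of `S` are everything
  have hfull : ∀ T : Subgroup G, T ≤ S → NA T → T = S := by
    intro T hT hTna
    exact eq_of_self_norm S.isPGroup' hT (fun x _ hx => H T hTna x hx)
  -- `S ≤ N(Q)`
  have hSN : (S : Subgroup G) ≤ Subgroup.normalizer (Q : Set G) := by
    set T := Subgroup.normalizer (Q : Set G) ⊓ (S : Subgroup G) with hT
    have hTna : NA T := by
      by_contra hTa
      have h2 : Q = S := by
        refine eq_of_self_norm S.isPGroup' hS ?_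
        intro x hx hxN
        apply hCr x _
        · obtain ⟨k, hk⟩ := S.isPGroup' ⟨x, hx⟩
          exact ⟨k, congrArg Subtype.val hk⟩
        rw [hC, Subgroup.mem_centralizer_iff]
        intro y hy
        exact comm_of_not_NA hTa (Subgroup.mem_inf.2 ⟨Subgroup.le_normalizer hy, hS hy⟩) (Subgroup.mem_inf.2 ⟨hxN, hx⟩)
      exact hQa (h2 ▸ hSna)
    have h2 := hfull T inf_le_right hTna
    rw [← h2]
    exact inf_le_left
  -- commutators of `S` lie in `Q`
  have hSS : ∀ x ∈ S, ∀ y ∈ S, x * y * x⁻¹ * y⁻¹ ∈ C := by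
    obtain ⟨x, hxS, hxQ⟩ : ∃ x ∈ (S : Subgroup G), x ∉ Q := by
      by_contra hcon
      push Not at hcon
      exact hQa (hSna.mono hcon)
    have hxC : x ∉ C := by
      intro hxC
      apply hxQ
      obtain ⟨k, hk⟩ := S.isPGroup' ⟨x, hxS⟩
      exact hCr x hxC ⟨k, congrArg Subtype.val hk⟩
    have hT : Q ⊔ Subgroup.zpowers x = S := by
      apply hfull
      · exact sup_le hS (Subgroup.zpowers_le.2 hxS)
      · rw [hC, Subgroup.mem_centralizer_iff] at hxC
        push Not at hxC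
        obtain ⟨y, hy, hyx⟩ := hxC
        exact ⟨y, Subgroup.mem_sup_left hy, x, Subgroup.mem_sup_right (Subgroup.mem_zpowers x), hyx⟩
    have hdec : ∀ y ∈ (S : Subgroup G), ∃ q ∈ Q, ∃ k : ℤ, y = q * x ^ k := by
      intro y hy
      rw [← hT] at hy
      obtain ⟨q, hq, z, hz, h3⟩ := mem_sup_norm (Subgroup.zpowers_le.2 (hSN hxS)) hy
      obtain ⟨k, rfl⟩ := Subgroup.mem_zpowers_iff.1 hz
      exact ⟨q, hq, k, h3⟩
    intro a ha b hb
    obtain ⟨q, hq, k, rfl⟩ := hdec a ha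
    obtain ⟨q', hq', l, rfl⟩ := hdec b hb
    apply hQC
    have hconj : ∀ (m : ℤ), ∀ z ∈ Q, x ^ m * z * (x ^ m)⁻¹ ∈ Q := by
      intro m z hz
      exact (Subgroup.mem_normalizer_iff.1 (Subgroup.zpow_mem _ (hSN hxS) m) z).1 hz
    have h3 : q * x ^ k * (q' * x ^ l) * (q * x ^ k)⁻¹ * (q' * x ^ l)⁻¹ =
        q * (x ^ k * q' * (x ^ k)⁻¹) * (x ^ l * q⁻¹ * (x ^ l)⁻¹) * q'⁻¹ := by
      have h4 : x ^ k * x ^ l = x ^ l * x ^ k := by rw [← zpow_add, ← zpow_add, add_comm]
      calc q * x ^ k * (q' * x ^ l) * (q * x ^ k)⁻¹ * (q' * x ^ l)⁻¹ =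
          q * (x ^ k * q' * (x ^ k)⁻¹) * (x ^ k * x ^ l) * (x ^ k)⁻¹ * q⁻¹ * (x ^ l)⁻¹ * q'⁻¹ := by group
        _ = q * (x ^ k * q' * (x ^ k)⁻¹) * (x ^ l * x ^ k) * (x ^ k)⁻¹ * q⁻¹ * (x ^ l)⁻¹ * q'⁻¹ := by rw [h4]
        _ = _ := by group
    rw [h3]
    exact Q.mul_mem (Q.mul_mem (Q.mul_mem hq (hconj k _ hq')) (hconj l _ (Q.inv_mem hq))) (Q.inv_mem hq')
  -- the final contradiction
  set L := Subgroup.normalizer (Q : Set G) with hL
  have hCL : C ≤ L := by
    intro c hc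
    rw [hL, Subgroup.mem_normalizer_iff]
    rw [hC, Subgroup.mem_centralizer_iff] at hc
    intro x
    constructor
    · intro hx
      have := hc x hx
      rw [← this, mul_inv_cancel_right]
      exact hx
    · intro hx
      have h3 := hc _ hx
      have h4 : c * x * c⁻¹ = x := by
        have h5 : c * x * c⁻¹ * c = c * (c * x * c⁻¹) := h3
        have h6 : c * x = c * (c * x * c⁻¹) := by rw [← h5]; group
        exact (mul_left_cancel h6).symm
      rwa [h4] at hx
  have hSCna : NA ((S : Subgroup G) ⊔ C) := hSna.mono le_sup_left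
  have hSCL : (S : Subgroup G) ⊔ C ≤ L := sup_le hSN hCL
  have hCn : (C.subgroupOf L).Normal := by
    constructor
    rintro ⟨c, hcL⟩ hc ⟨n, hn⟩
    exact hNC n hn c hc
  have hsub : ((S.subtype hSN : Sylow r L) : Subgroup L) ⊔ C.subgroupOf L = ((S : Subgroup G) ⊔ C).subgroupOf L := by
    rw [Subgroup.subgroupOf_sup hSN hCL]
    rfl
  obtain ⟨X, hXn, hCX, hX1, hX2⟩ := exists_rel_complement (C.subgroupOf L) (S.subtype hSN) (by
    rw [hsub]
    intro l hl
    rw [Subgroup.mem_subgroupOf]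
    apply H _ hSCna
    rw [Subgroup.mem_normalizer_iff] at hl ⊢
    intro x
    constructor
    · intro hx
      exact (hl ⟨x, hSCL hx⟩).1 hx
    · intro hx
      have hxL : x ∈ L := by
        have := L.mul_mem (L.mul_mem (L.inv_mem l.2) (hSCL hx)) l.2
        convert this using 1
        group
      exact (hl ⟨x, hxL⟩).2 hx) (by
    intro x hx y hy
    exact hSS x hx y hy)
  set X' := X.map L.subtype with hX'
  have hXna : NA X' := by
    rw [Subgroup.mem_centralizer_iff] at hgC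
    push Not at hgC
    obtain ⟨q, hq, hqg⟩ := hgC
    refine ⟨q, ⟨⟨q, hCL (hQC hq)⟩, hCX (hQC hq), rfl⟩, g, ⟨⟨g, hgN⟩, hX1 _ ?_, rfl⟩, hqg⟩
    rw [Subgroup.orderOf_mk]
    exact hgc
  have hSX : (S : Subgroup G) ≤ X' := by
    intro x hx
    apply H X' hXna
    have key : ∀ n : L, ∀ z ∈ X', (n : G) * z * (n : G)⁻¹ ∈ X' := by
      rintro n _ ⟨z, hz, rfl⟩
      exact ⟨n * z * n⁻¹, hXn.conj_mem z hz n, rfl⟩
    rw [Subgroup.mem_normalizer_iff]
    intro z
    constructor
    · exact key ⟨x, hSN hx⟩ z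
    · intro hz
      have := key (⟨x, hSN hx⟩⁻¹) _ hz
      convert this using 1
      simp only [InvMemClass.coe_inv, inv_inv]
      group
  apply hCa
  refine hSna.mono ?_
  intro x hx
  obtain ⟨z, hz, hzx⟩ := hSX hx
  have h3 : z ∈ X ⊓ ((S.subtype hSN : Sylow r L) : Subgroup L) := by
    refine Subgroup.mem_inf.2 ⟨hz, ?_⟩
    show (z : G) ∈ (S : Subgroup G)
    have : (z : G) = x := hzx
    rw [this]; exact hx
  have h4 : (z : G) ∈ C := hX2 h3
  have : (z : G) = x := hzx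
  rwa [this] at h4

end Cfsg.Agent.H68.SN
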