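import Mathlib
import Cfsg.Agent.H68.SelfNormA

/-!
# Simple groups in which nonabelian subgroups are self-normalising, part B: centralisers are abelian
-/

set_option autoImplicit false
set_option linter.unusedSectionVars false

namespace Cfsg.Agent.H68.SN

theorem cyclic_structure {K : Type*} [Group K] [Finite K] (H : HypSN K) (hna : ∃ a b : K, a * b ≠ b * a) {p : ℕ}
    [hp : Fact p.Prime] (R : Sylow p K) (hR : ¬ NA (R : Subgroup K)) {x : K} (hx : ∀ y, x * y = y * x)
    (hxo : orderOf x = p) : IsCyclic R ∧ x ∈ (R : Subgroup K) ∧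
      ∀ n ∈ Subgroup.normalizer ((R : Subgroup K) : Set K), n ∈ Subgroup.centralizer ((R : Subgroup K) : Set K) := by
  classical
  have hxR : x ∈ (R : Subgroup K) := by
    have hpz : IsPGroup p (Subgroup.zpowers x) := by
      apply IsPGroup.of_card (n := 1)
      rw [Nat.card_zpowers, hxo, pow_one]
    obtain ⟨S, hS⟩ := hpz.exists_le_sylow
    obtain ⟨g, hg⟩ := MulAction.exists_smul_eq K S R
    rw [← hg]
    refine ⟨x, hS (Subgroup.mem_zpowers x), ?_⟩
    show g * x * g⁻¹ = x
    rw [← hx g, mul_inv_cancel_right]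
  -- transfer
  have hcomm : ∀ a b : (R : Subgroup K), a * b = b * a := fun a b => Subtype.ext (comm_of_not_NA hR a.2 b.2)
  set ϕ : (R : Subgroup K) →* Abelianization (R : Subgroup K) := Abelianization.of with hϕ
  have hϕinj : Function.Injective ϕ := by
    rw [← MonoidHom.ker_eq_bot_iff, hϕ, Abelianization.ker_of]
    rw [commutator_def, Subgroup.commutator_eq_bot_iff_le_centralizer]
    intro a _
    rw [Subgroup.mem_centralizer_iff]
    intro b _
    exact hcomm b a
  have hAp : IsPGroup p (Abelianization (R : Subgroup K)) :=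
    R.isPGroup'.of_surjective ϕ (QuotientGroup.mk_surjective)
  set V := MonoidHom.transfer ϕ with hV
  have hVx : V x ≠ 1 := by
    have h1 := MonoidHom.transfer_eq_pow ϕ x (fun k g₀ _ => by
      have : x ^ k * g₀ = g₀ * x ^ k := ((show Commute x g₀ from hx g₀).pow_left k).eq
      rw [mul_assoc, this, inv_mul_cancel_left])
    rw [hV, h1]
    intro h2
    have h3 := hϕinj (h2.trans (map_one ϕ).symm)
    have h4 : x ^ (R : Subgroup K).index = 1 := congrArg Subtype.val h3
    have h5 := orderOf_dvd_of_pow_eq_one h4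
    rw [hxo] at h5
    exact R.not_dvd_index h5
  set X := V.ker with hX
  have hxX : x ∉ X := fun h => hVx h
  have hXa : ¬ NA X := by
    intro h
    apply hxX
    apply H X h
    rw [Subgroup.normalizer_eq_top X]
    trivial
  have hX' : ∀ g : K, (orderOf g).Coprime p → g ∈ X := by
    intro g hg
    rw [hX, MonoidHom.mem_ker]
    obtain ⟨k, hk⟩ := hAp (V g)
    have h3 : orderOf (V g) ∣ p ^ k := orderOf_dvd_of_pow_eq_one hk
    have h4 : orderOf (V g) ∣ orderOf g := orderOf_map_dvd V g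
    have h5 : orderOf (V g) ∣ 1 := by
      have := Nat.dvd_gcd h4 h3
      rwa [Nat.Coprime.gcd_eq_one (hg.pow_right k)] at this
    exact orderOf_eq_one_iff.1 (Nat.dvd_one.1 h5)
  -- a normal complement
  obtain ⟨N, hN, hc⟩ : ∃ N : Subgroup K, N.Normal ∧ N.IsComplement' (R : Subgroup K) := by
    rw [Cfsg.Agent.S0071.result]
    intro Q hQ g hg hgc
    rw [Subgroup.mem_centralizer_iff]
    intro q hq
    have hgX := hX' g hgc
    set z := g * q * g⁻¹ * q⁻¹ with hz
    have hzQ : z ∈ Q := Q.mul_mem ((Subgroup.mem_normalizer_iff.1 hg q).1 hq) (Q.inv_mem hq)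
    have hzX : z ∈ X := by
      have h1 : z = g * (q * g⁻¹ * q⁻¹) := by rw [hz]; group
      rw [h1]
      exact X.mul_mem hgX ((inferInstance : X.Normal).conj_mem _ (X.inv_mem hgX) q)
    have hzg : g * z = z * g := comm_of_not_NA hXa hgX hzX
    have hpow : ∀ n : ℕ, g ^ n * q * (g ^ n)⁻¹ = z ^ n * q := by
      intro n
      induction n with
      | zero => simp
      | succ n ih =>
        have h1 : g ^ (n + 1) * q * (g ^ (n + 1))⁻¹ = g * (g ^ n * q * (g ^ n)⁻¹) * g⁻¹ := by
          rw [pow_succ']; group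
        rw [h1, ih]
        have h2 : g * z ^ n = z ^ n * g := ((show Commute g z from hzg).pow_right n).eq
        calc g * (z ^ n * q) * g⁻¹ = (g * z ^ n) * q * g⁻¹ := by group
          _ = z ^ n * (g * q * g⁻¹ * q⁻¹) * q := by rw [h2]; group
          _ = z ^ (n + 1) * q := by rw [← hz, pow_succ]
    have h1 := hpow (orderOf g)
    rw [pow_orderOf_eq_one, one_mul, inv_one, mul_one] at h1
    have h2 : z ^ orderOf g = 1 := (mul_eq_right.1 h1.symm)
    obtain ⟨k, hk⟩ := (R.isPGroup'.to_le hQ) ⟨z, hzQ⟩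
    have h3 : z ^ p ^ k = 1 := congrArg Subtype.val hk
    have h4 : orderOf z ∣ 1 := by
      have := Nat.dvd_gcd (orderOf_dvd_of_pow_eq_one h2) (orderOf_dvd_of_pow_eq_one h3)
      rwa [Nat.Coprime.gcd_eq_one (hgc.pow_right k)] at this
    have h5 : z = 1 := orderOf_eq_one_iff.1 (Nat.dvd_one.1 h4)
    rw [hz, mul_inv_eq_one, mul_inv_eq_iff_eq_mul] at h5
    exact h5.symm
  have hNcard : (Nat.card N).Coprime p := by
    have h1 : Nat.card N = (R : Subgroup K).index := hc.index_eq_card.symm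
    rw [h1, Nat.coprime_comm]
    exact (Nat.Prime.coprime_iff_not_dvd hp.out).2 R.not_dvd_index
  have hNX : N ≤ X := by
    intro n hn
    apply hX'
    have h1 : orderOf (⟨n, hn⟩ : N) ∣ Nat.card N := orderOf_dvd_natCard _
    rw [Subgroup.orderOf_mk] at h1
    exact Nat.Coprime.coprime_dvd_left h1 hNcard
  have hNa : ¬ NA N := fun h => hXa (h.mono hNX)
  have hdec : ∀ k : K, ∃ n ∈ N, ∃ r ∈ (R : Subgroup K), k = n * r := by
    intro k
    obtain ⟨⟨n, r⟩, h⟩ := hc.2 k
    exact ⟨n, n.2, r, r.2, h.symm⟩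
  have hNR : ∀ z, z ∈ N → z ∈ (R : Subgroup K) → z = 1 := fun z h1 h2 => Subgroup.disjoint_def.1 hc.disjoint h1 h2
  obtain ⟨n, hn, y, hy, hny⟩ : ∃ n ∈ N, ∃ y ∈ (R : Subgroup K), n * y ≠ y * n := by
    by_contra hcon
    push Not at hcon
    obtain ⟨a, b, hab⟩ := hna
    apply hab
    obtain ⟨n1, hn1, r1, hr1, rfl⟩ := hdec a
    obtain ⟨n2, hn2, r2, hr2, rfl⟩ := hdec b
    have e1 : r1 * n2 = n2 * r1 := (hcon n2 hn2 r1 hr1).symm
    have e2 : r2 * n1 = n1 * r2 := (hcon n1 hn1 r2 hr2).symm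
    have e3 : n1 * n2 = n2 * n1 := comm_of_not_NA hNa hn1 hn2
    have e4 : r1 * r2 = r2 * r1 := comm_of_not_NA hR hr1 hr2
    calc n1 * r1 * (n2 * r2) = n1 * (r1 * n2) * r2 := by group
      _ = (n1 * n2) * (r1 * r2) := by rw [e1]; group
      _ = (n2 * n1) * (r2 * r1) := by rw [e3, e4]
      _ = n2 * (n1 * r2) * r1 := by group
      _ = n2 * r2 * (n1 * r1) := by rw [← e2]; group
  set K1 := N ⊔ Subgroup.zpowers y with hK1
  have hK1na : NA K1 := ⟨n, Subgroup.mem_sup_left hn, y, Subgroup.mem_sup_right (Subgroup.mem_zpowers y), hny⟩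
  have hyN : Subgroup.zpowers y ≤ Subgroup.normalizer (N : Set K) := by
    rw [Subgroup.normalizer_eq_top N]; exact le_top
  have hRy : ∀ ρ ∈ (R : Subgroup K), ρ ∈ Subgroup.zpowers y := by
    intro ρ hρ
    have key : ∀ ρ ∈ (R : Subgroup K), ∀ z ∈ K1, ρ * z * ρ⁻¹ ∈ K1 := by
      intro ρ hρ z hz
      obtain ⟨n', hn', w, hw, rfl⟩ := mem_sup_norm hyN hz
      have hwR : w ∈ (R : Subgroup K) := (Subgroup.zpowers_le.2 hy) hw
      have h1 : ρ * w = w * ρ := comm_of_not_NA hR hρ hwR
      have h2 : ρ * (n' * w) * ρ⁻¹ = (ρ * n' * ρ⁻¹) * w := by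
        calc ρ * (n' * w) * ρ⁻¹ = ρ * n' * ρ⁻¹ * (ρ * w) * ρ⁻¹ := by group
          _ = _ := by rw [h1]; group
      rw [h2]
      exact K1.mul_mem (Subgroup.mem_sup_left (hN.conj_mem n' hn' ρ)) (Subgroup.mem_sup_right hw)
    have h1 : ρ ∈ K1 := by
      apply H K1 hK1na
      rw [Subgroup.mem_normalizer_iff]
      intro z
      constructor
      · exact key ρ hρ z
      · intro hz
        have := key ρ⁻¹ ((R : Subgroup K).inv_mem hρ) _ hz
        convert this using 1
        group
    obtain ⟨n', hn', w, hw, h2⟩ := mem_sup_norm hyN h1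
    have hwR : w ∈ (R : Subgroup K) := (Subgroup.zpowers_le.2 hy) hw
    have h3 : n' ∈ (R : Subgroup K) := by
      have : n' = ρ * w⁻¹ := by rw [h2]; group
      rw [this]
      exact (R : Subgroup K).mul_mem hρ ((R : Subgroup K).inv_mem hwR)
    rw [hNR n' hn' h3, one_mul] at h2
    rw [h2]; exact hw
  refine ⟨?_, hxR, ?_⟩
  · refine ⟨⟨⟨y, hy⟩, ?_⟩⟩
    rintro ⟨ρ, hρ⟩
    obtain ⟨k, hk⟩ := Subgroup.mem_zpowers_iff.1 (hRy ρ hρ)
    exact Subgroup.mem_zpowers_iff.2 ⟨k, Subtype.ext hk⟩
  · intro m hm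
    obtain ⟨a, ha, ρ, hρ, rfl⟩ := hdec m
    have haN : a ∈ Subgroup.normalizer ((R : Subgroup K) : Set K) := by
      have h1 : a = a * ρ * ρ⁻¹ := by group
      rw [h1]
      exact Subgroup.mul_mem _ hm (Subgroup.inv_mem _ (Subgroup.le_normalizer hρ))
    rw [Subgroup.mem_centralizer_iff]
    intro r hr
    have h1 : a * r * a⁻¹ * r⁻¹ = 1 := by
      apply hNR
      · have : a * r * a⁻¹ * r⁻¹ = a * (r * a⁻¹ * r⁻¹) := by group
        rw [this]
        exact N.mul_mem ha (hN.conj_mem _ (N.inv_mem ha) r)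
      · exact (R : Subgroup K).mul_mem ((Subgroup.mem_normalizer_iff.1 haN r).1 hr) ((R : Subgroup K).inv_mem hr)
    rw [mul_inv_eq_one, mul_inv_eq_iff_eq_mul] at h1
    have h2 : r * ρ = ρ * r := comm_of_not_NA hR hr hρ
    rw [← mul_assoc, ← h1, mul_assoc, h2, mul_assoc]

variable {G : Type*} [Group G]

theorem HypSN.sub (H : HypSN G) (C : Subgroup G) : HypSN C := by
  intro K hK g hg
  have h1 : NA (K.map C.subtype) := by
    obtain ⟨x, hx, y, hy, hne⟩ := hK
    exact ⟨x, ⟨x, hx, rfl⟩, y, ⟨y, hy, rfl⟩, fun h => hne (Subtype.ext h)⟩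
  have h2 : (g : G) ∈ K.map C.subtype := by
    apply H _ h1
    have key : ∀ g ∈ Subgroup.normalizer (K : Set C), ∀ z ∈ K.map C.subtype, (g : G) * z * (g : G)⁻¹ ∈ K.map C.subtype := by
      rintro g hg _ ⟨z, hz, rfl⟩
      exact ⟨g * z * g⁻¹, (Subgroup.mem_normalizer_iff.1 hg z).1 hz, rfl⟩
    rw [Subgroup.mem_normalizer_iff]
    intro z
    constructor
    · exact key g hg z
    · intro hz
      have := key g⁻¹ (Subgroup.inv_mem _ hg) _ hz
      convert this using 1
      simp only [InvMemClass.coe_inv, inv_inv]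
      group
  obtain ⟨z, hz, hzg⟩ := h2
  have : z = g := Subtype.ext hzg
  rwa [← this]

/-- Claim B: centralisers are abelian -/
theorem centralizer_comm [Finite G] [IsSimpleGroup G] (hna : ¬ IsMulCommutative G) (H : HypSN G) {x0 : G}
    (hx0 : x0 ≠ 1) : ¬ NA (Subgroup.centralizer {x0}) := by
  classical
  intro hC0
  -- an element of prime order
  obtain ⟨p, hp, hpd⟩ := Nat.exists_prime_and_dvd (fun h => hx0 (orderOf_eq_one_iff.1 h))
  have hfp : Fact p.Prime := ⟨hp⟩
  set x := x0 ^ (orderOf x0 / p) with hx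
  have hxo : orderOf x = p := orderOf_pow_orderOf_div (orderOf_pos x0).ne' hpd
  have hx1 : x ≠ 1 := by
    intro h
    rw [h, orderOf_one] at hxo
    exact hp.one_lt.ne hxo
  set C := Subgroup.centralizer {x} with hC
  have hCna : NA C := by
    refine hC0.mono ?_
    intro y hy
    rw [Subgroup.mem_centralizer_singleton_iff] at hy ⊢
    exact ((show Commute y x0 from hy).pow_right _).eq
  have hxC : x ∈ C := Subgroup.mem_centralizer_singleton_iff.2 rfl
  obtain ⟨R⟩ : Nonempty (Sylow p C) := inferInstance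
  set RG := (R : Subgroup C).map C.subtype with hRG
  have hRGp : IsPGroup p RG := R.isPGroup'.map _
  obtain ⟨S, hS⟩ := hRGp.exists_le_sylow
  have hSa := sylow_comm hna H S
  have hRGa : ¬ NA RG := fun h => hSa (h.mono hS)
  have hRa : ¬ NA (R : Subgroup C) := by
    rintro ⟨a, ha, b, hb, hne⟩
    exact hRGa ⟨a, ⟨a, ha, rfl⟩, b, ⟨b, hb, rfl⟩, fun h => hne (Subtype.ext h)⟩
  obtain ⟨hcyc, hxR, hnorm⟩ := cyclic_structure (K := C) (H.sub C) (by
    obtain ⟨a, ha, b, hb, hne⟩ := hCna
    exact ⟨⟨a, ha⟩, ⟨b, hb⟩, fun h => hne (congrArg Subtype.val h)⟩) R hRa (x := ⟨x, hxC⟩) (by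
    intro y
    apply Subtype.ext
    exact (Subgroup.mem_centralizer_singleton_iff.1 y.2).symm) (by rw [Subgroup.orderOf_mk]; exact hxo)
  -- the normaliser of `RG` lies in `C`
  have hNC : ∀ n ∈ Subgroup.normalizer (RG : Set G), n ∈ C := by
    intro n hn
    have hxRG : x ∈ RG := ⟨⟨x, hxC⟩, hxR, rfl⟩
    have h1 : n * x * n⁻¹ ∈ RG := (Subgroup.mem_normalizer_iff.1 hn x).1 hxRG
    have h2 : n * x * n⁻¹ ∈ Subgroup.zpowers x := by
      have hcyc' : IsCyclic RG := by
        have e : (R : Subgroup C) ≃* RG := (R : Subgroup C).equivMapOfInjective _ C.subtype_injective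
        exact isCyclic_of_surjective e e.surjective
      have hft : Fintype RG := Fintype.ofFinite _
      have h3 := IsCyclic.card_pow_eq_one_le (α := RG) (n := p) hp.pos
      set T : Finset RG := Finset.univ.filter (fun a => a ^ p = 1) with hT
      set U : Finset RG := Finset.univ.filter (fun a : RG => (a : G) ∈ Subgroup.zpowers x) with hU
      have hUT : U ⊆ T := by
        intro a ha
        rw [hU, Finset.mem_filter] at ha
        rw [hT, Finset.mem_filter]
        refine ⟨Finset.mem_univ _, ?_⟩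
        obtain ⟨k, hk⟩ := Subgroup.mem_zpowers_iff.1 ha.2
        apply Subtype.ext
        show (a : G) ^ p = 1
        rw [← hk, ← zpow_natCast, ← zpow_mul, mul_comm, zpow_mul, zpow_natCast, ← hxo, pow_orderOf_eq_one, one_zpow]
      have hUc : p ≤ U.card := by
        have h4 : Nat.card (Subgroup.zpowers x) = p := by rw [Nat.card_zpowers, hxo]
        have hle : Subgroup.zpowers x ≤ RG := Subgroup.zpowers_le.2 hxRG
        have h5 : Nat.card (Subgroup.zpowers x) ≤ Nat.card U := by
          apply Nat.card_le_card_of_injective (fun a : Subgroup.zpowers x => (⟨⟨a, hle a.2⟩, by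
            rw [hU, Finset.mem_filter]; exact ⟨Finset.mem_univ _, a.2⟩⟩ : U))
          intro a b hab
          apply Subtype.ext
          exact congrArg (fun z : U => ((z : RG) : G)) hab
        rw [h4, Nat.card_eq_fintype_card, Fintype.card_coe] at h5
        exact h5
      have hUTe : U = T := Finset.eq_of_subset_of_card_le hUT (h3.trans hUc)
      have h6 : (⟨n * x * n⁻¹, h1⟩ : RG) ∈ T := by
        rw [hT, Finset.mem_filter]
        refine ⟨Finset.mem_univ _, ?_⟩
        apply Subtype.ext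
        show (n * x * n⁻¹) ^ p = 1
        rw [conj_pow, ← hxo, pow_orderOf_eq_one, mul_one, mul_inv_cancel]
      rw [← hUTe, hU, Finset.mem_filter] at h6
      exact h6.2
    -- so `n` normalises `C`
    have h3 : Subgroup.zpowers (n * x * n⁻¹) = Subgroup.zpowers x := by
      apply Subgroup.eq_of_le_of_card_ge (Subgroup.zpowers_le.2 h2)
      rw [Nat.card_zpowers, Nat.card_zpowers]
      have : orderOf (n * x * n⁻¹) = orderOf x := orderOf_injective (MulAut.conj n).toMonoidHom (MulAut.conj n).injective x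
      rw [this]
    have hCz : ∀ c : G, c ∈ C ↔ ∀ z ∈ Subgroup.zpowers x, c * z = z * c := by
      intro c
      constructor
      · intro hc z hz
        obtain ⟨k, rfl⟩ := Subgroup.mem_zpowers_iff.1 hz
        exact ((show Commute c x from Subgroup.mem_centralizer_singleton_iff.1 hc).zpow_right k).eq
      · intro h
        exact Subgroup.mem_centralizer_singleton_iff.2 (h x (Subgroup.mem_zpowers x))
    apply H C hCna
    rw [Subgroup.mem_normalizer_iff]
    intro c
    constructor
    · intro hc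
      rw [hCz]
      intro z hz
      rw [← h3] at hz
      obtain ⟨k, rfl⟩ := Subgroup.mem_zpowers_iff.1 hz
      have h5 : c * x ^ k = x ^ k * c := (hCz c).1 hc _ (Subgroup.zpow_mem _ (Subgroup.mem_zpowers x) k)
      rw [conj_zpow]
      calc n * c * n⁻¹ * (n * x ^ k * n⁻¹) = n * (c * x ^ k) * n⁻¹ := by group
        _ = n * (x ^ k * c) * n⁻¹ := by rw [h5]
        _ = _ := by group
    · intro hc
      rw [Subgroup.mem_centralizer_singleton_iff]
      have h5 := (hCz _).1 hc (n * x * n⁻¹) h2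
      have h6 : n * (c * x) * n⁻¹ = n * (x * c) * n⁻¹ := by
        calc n * (c * x) * n⁻¹ = n * c * n⁻¹ * (n * x * n⁻¹) := by group
          _ = n * x * n⁻¹ * (n * c * n⁻¹) := h5
          _ = _ := by group
      exact mul_left_cancel (mul_right_cancel h6)
  have hNcent : ∀ n ∈ Subgroup.normalizer (RG : Set G), n ∈ Subgroup.centralizer (RG : Set G) := by
    intro n hn
    have hnC := hNC n hn
    have h1 : (⟨n, hnC⟩ : C) ∈ Subgroup.normalizer ((R : Subgroup C) : Set C) := by
      have key : ∀ m : C, (m : G) ∈ Subgroup.normalizer (RG : Set G) → ∀ z ∈ (R : Subgroup C), m * z * m⁻¹ ∈ (R : Subgroup C) := by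
        intro m hm z hz
        obtain ⟨w, hw, hwz⟩ := (Subgroup.mem_normalizer_iff.1 hm z).1 ⟨z, hz, rfl⟩
        have : w = m * z * m⁻¹ := Subtype.ext hwz
        rwa [← this]
      rw [Subgroup.mem_normalizer_iff]
      intro z
      constructor
      · exact key ⟨n, hnC⟩ hn z
      · intro hz
        have := key (⟨n, hnC⟩⁻¹) (Subgroup.inv_mem _ hn) _ hz
        convert this using 1
        group
    have h2 := hnorm _ h1
    rw [Subgroup.mem_centralizer_iff] at h2 ⊢
    rintro _ ⟨z, hz, rfl⟩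
    exact congrArg Subtype.val (h2 z hz)
  -- `RG` is a Sylow subgroup
  have hRS : RG = S := by
    refine eq_of_self_norm S.isPGroup' hS ?_
    intro g hgS hgN
    have hgC := hNC g hgN
    have h1 : (⟨g, hgC⟩ : C) ∈ Subgroup.normalizer ((R : Subgroup C) : Set C) := by
      apply Subgroup.centralizer_le_normalizer
      rw [Subgroup.mem_centralizer_iff]
      intro z hz
      apply Subtype.ext
      exact (Subgroup.mem_centralizer_iff.1 (hNcent g hgN)) z ⟨z, hz, rfl⟩
    have h2 : IsPGroup p (Subgroup.zpowers (⟨g, hgC⟩ : C)) := by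
      obtain ⟨k, hk⟩ := S.isPGroup' ⟨g, hgS⟩
      have hk1 : g ^ p ^ k = 1 := congrArg Subtype.val hk
      have hk' : (⟨g, hgC⟩ : C) ^ p ^ k = 1 := Subtype.ext hk1
      rw [IsPGroup.iff_card]
      obtain ⟨j, -, hj⟩ := (Nat.dvd_prime_pow hp).1 (orderOf_dvd_of_pow_eq_one hk')
      exact ⟨j, by rw [Nat.card_zpowers, hj]⟩
    have h3 := h2.inf_normalizer_sylow R
    have h4 : (⟨g, hgC⟩ : C) ∈ Subgroup.zpowers (⟨g, hgC⟩ : C) ⊓ (R : Subgroup C) := by
      rw [← h3]
      exact Subgroup.mem_inf.2 ⟨Subgroup.mem_zpowers _, h1⟩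
    exact ⟨_, (Subgroup.mem_inf.1 h4).2, rfl⟩
  have hSne : (S : Subgroup G) ≠ ⊥ := by
    intro h
    have : x ∈ (S : Subgroup G) := hS ⟨⟨x, hxC⟩, hxR, rfl⟩
    rw [h, Subgroup.mem_bot] at this
    exact hx1 this
  apply no_complement S hSne hna
  have hP : Subgroup.normalizer ((S : Subgroup G) : Set G) ≤ Subgroup.centralizer ((S : Subgroup G) : Set G) := by
    rw [← hRS]
    exact hNcent
  exact ⟨_, inferInstance, MonoidHom.ker_transferSylow_isComplement' S hP⟩

end Cfsg.Agent.H68.SN
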