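import Mathlib
import Cfsg.Agent.H68.SelfNormB
import Cfsg.Agent.H68.SL2CA
import Cfsg.Agent.Frob.Aut

/-!
# Simple groups in which nonabelian subgroups are self-normalising, part C
-/

set_option autoImplicit false
set_option linter.unusedSectionVars false

namespace Cfsg.Agent.H68.SN

open Cfsg.Agent.SC Cfsg.Agent.H68.CA Cfsg.Agent.H34

variable {G : Type*} [Group G]

theorem isCA_of_hypSN [Finite G] [IsSimpleGroup G] (hna : ¬ IsMulCommutative G) (H : HypSN G) : IsCA G := by
  intro a b c ha hb hc hab hbc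
  exact comm_of_not_NA (centralizer_comm hna H hb) (Subgroup.mem_centralizer_singleton_iff.2 hab)
    (Subgroup.mem_centralizer_singleton_iff.2 hbc.symm)

theorem D_comm [Finite G] {A : Subgroup G} (h : ES A) {u : G} (huu : u * u = 1) (hu : u ∉ Nn A) {a b : G}
    (ha : a ∈ D A u) (hb : b ∈ D A u) : a * b = b * a := by
  obtain ⟨-, hinv⟩ := h.D_facts huu hu
  have h1 := hinv _ ((D A u).mul_mem ha hb)
  have h2 : u * (a * b) * u⁻¹ = (u * a * u⁻¹) * (u * b * u⁻¹) := by group
  rw [h2, hinv a ha, hinv b hb, mul_inv_rev] at h1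
  have h3 : (a⁻¹ * b⁻¹)⁻¹ = (b⁻¹ * a⁻¹)⁻¹ := by rw [h1]
  simpa using h3.symm

/-- primality of `|N/A|` -/
theorem prime_e [Finite G] {A : Subgroup G} (h : ES A) (H : HypSN G) : (e A).Prime := by
  classical
  obtain ⟨g, hg⟩ : ∃ g, g ∉ Nn A := by
    by_contra hcon
    push Not at hcon
    exact h.ne_top (eq_top_iff.2 fun g _ => hcon g)
  obtain ⟨u, huu, hu, -⟩ := h.exists_inv_coset hg
  obtain ⟨hcard, hinv⟩ := h.D_facts huu hu
  obtain ⟨q, hq, hqe⟩ := Nat.exists_prime_and_dvd (h.one_lt).ne'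
  have hfq : Fact q.Prime := ⟨hq⟩
  rw [← hcard] at hqe
  obtain ⟨⟨d, hd⟩, hdo⟩ := exists_prime_orderOf_dvd_card' q hqe
  rw [Subgroup.orderOf_mk] at hdo
  have hd1 : d ≠ 1 := by
    intro h1
    rw [h1, orderOf_one] at hdo
    exact hq.one_lt.ne hdo
  have hdN : d ∈ Nn A := (mem_D.1 hd).1
  have hzN : Subgroup.zpowers d ≤ Subgroup.normalizer (A : Set G) := Subgroup.zpowers_le.2 hdN
  have hdA : d ∉ A := fun h1 => hd1 (h.inf_eq huu hu h1 (mem_D.1 hd).2)
  set K := A ⊔ Subgroup.zpowers d with hK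
  have hKna : NA K := by
    obtain ⟨t, ht, -, ht1⟩ := h.exists_inv
    refine ⟨d, Subgroup.mem_sup_right (Subgroup.mem_zpowers d), t, Subgroup.mem_sup_left ht, ?_⟩
    intro h1
    exact hdA (h.free ht ht1 h1)
  have hDK : ∀ x ∈ D A u, x ∈ Subgroup.zpowers d := by
    intro x hx
    have key : ∀ x ∈ D A u, ∀ z ∈ K, x * z * x⁻¹ ∈ K := by
      intro x hx z hz
      obtain ⟨a, ha, w, hw, rfl⟩ := mem_sup_norm hzN hz
      have hwD : w ∈ D A u := (Subgroup.zpowers_le.2 hd) hw
      have h1 := D_comm h huu hu hx hwD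
      have h2 : x * (a * w) * x⁻¹ = (x * a * x⁻¹) * w := by
        calc x * (a * w) * x⁻¹ = x * a * x⁻¹ * (x * w) * x⁻¹ := by group
          _ = _ := by rw [h1]; group
      rw [h2]
      exact K.mul_mem (Subgroup.mem_sup_left ((Subgroup.mem_normalizer_iff.1 (mem_D.1 hx).1 a).1 ha))
        (Subgroup.mem_sup_right hw)
    have hxK : x ∈ K := by
      apply H K hKna
      rw [Subgroup.mem_normalizer_iff]
      intro z
      constructor
      · exact key x hx z
      · intro hz
        have := key x⁻¹ ((D A u).inv_mem hx) _ hz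
        convert this using 1
        group
    obtain ⟨a, ha, w, hw, h1⟩ := mem_sup_norm hzN hxK
    have hwD : w ∈ D A u := (Subgroup.zpowers_le.2 hd) hw
    have h2 : a ∈ D A u := by
      have : a = x * w⁻¹ := by rw [h1]; group
      rw [this]
      exact (D A u).mul_mem hx ((D A u).inv_mem hwD)
    have h3 : a = 1 := h.inf_eq huu hu ha (mem_D.1 h2).2
    rw [h1, h3, one_mul]
    exact hw
  have h1 : D A u = Subgroup.zpowers d := le_antisymm hDK (Subgroup.zpowers_le.2 hd)
  rw [← hcard, h1, Nat.card_zpowers, hdo]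
  exact hq

theorem forward [Finite G] [IsSimpleGroup G] (hna : ¬ IsMulCommutative G) (H : HypSN G) (h2 : 2 ∣ Nat.card G) :
    ∃ (F : Type) (_ : Field F) (_ : Fintype F) (f : ℕ), 2 ≤ f ∧ Fintype.card F = 2 ^ f ∧ (2 ^ f - 1).Prime ∧
      Nonempty (G ≃* Matrix.ProjectiveSpecialLinearGroup (Fin 2) F) := by
  have hCA := isCA_of_hypSN hna H
  have hp2 : Fact (Nat.Prime 2) := ⟨Nat.prime_two⟩
  obtain ⟨t, ht⟩ := exists_prime_orderOf_dvd_card' 2 h2
  obtain ⟨F, iF, iFF, f, hf2, hF, hcA, hG⟩ := psl_of_even' hna hCA t ht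
  have h := es_centralizer hna hCA t ht
  refine ⟨F, iF, iFF, f, hf2, hF, ?_, hG⟩
  have h3 := prime_e h H
  rw [h.card_J] at hcA
  rw [← hcA, Nat.add_sub_cancel]
  exact h3

/-- in `SL₂` of characteristic 2, an element commuting with a conjugate `w` of itself that is not an involution
forces `w = v^{±1}` -/
theorem sl2_conj {F : Type*} [Field F] [CharP F 2] {v w g : Matrix.SpecialLinearGroup (Fin 2) F} (hv : v * v ≠ 1)
    (hw : w = g * v * g⁻¹) (hc : v * w = w * v) : w = v ∨ w = v⁻¹ := by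
  have h2 : (2 : F) = 0 := CharP.cast_eq_zero F 2
  have htr : (w : Matrix (Fin 2) (Fin 2) F) 0 0 + (w : Matrix (Fin 2) (Fin 2) F) 1 1 =
      (v : Matrix (Fin 2) (Fin 2) F) 0 0 + (v : Matrix (Fin 2) (Fin 2) F) 1 1 := by
    have h1 : Matrix.trace (w : Matrix (Fin 2) (Fin 2) F) = Matrix.trace (v : Matrix (Fin 2) (Fin 2) F) := by
      rw [hw, Matrix.SpecialLinearGroup.coe_mul, Matrix.SpecialLinearGroup.coe_mul, Matrix.trace_mul_comm,
        ← mul_assoc, ← Matrix.SpecialLinearGroup.coe_mul, inv_mul_cancel, Matrix.SpecialLinearGroup.coe_one, one_mul]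
    rwa [Matrix.trace_fin_two, Matrix.trace_fin_two] at h1
  have hc' := congrArg (Subtype.val) hc
  have e1 := congrFun (congrFun hc' 0) 0
  have e2 := congrFun (congrFun hc' 0) 1
  have e3 := congrFun (congrFun hc' 1) 0
  simp only [Matrix.SpecialLinearGroup.coe_mul, Matrix.mul_apply, Fin.sum_univ_two] at e1 e2 e3
  have hdv := v.2
  have hdw := w.2
  rw [Matrix.det_fin_two] at hdv hdw
  set v00 := (v : Matrix (Fin 2) (Fin 2) F) 0 0
  set v01 := (v : Matrix (Fin 2) (Fin 2) F) 0 1
  set v10 := (v : Matrix (Fin 2) (Fin 2) F) 1 0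
  set v11 := (v : Matrix (Fin 2) (Fin 2) F) 1 1
  set w00 := (w : Matrix (Fin 2) (Fin 2) F) 0 0
  set w01 := (w : Matrix (Fin 2) (Fin 2) F) 0 1
  set w10 := (w : Matrix (Fin 2) (Fin 2) F) 1 0
  set w11 := (w : Matrix (Fin 2) (Fin 2) F) 1 1
  have ht : v00 + v11 ≠ 0 := by
    intro ht
    apply hv
    apply Subtype.ext
    ext i j
    fin_cases i <;> fin_cases j
    · show ((v * v : Matrix.SpecialLinearGroup (Fin 2) F) : Matrix (Fin 2) (Fin 2) F) 0 0 = (1 : Matrix (Fin 2) (Fin 2) F) 0 0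
      simp only [Matrix.SpecialLinearGroup.coe_mul, Matrix.mul_apply, Fin.sum_univ_two, Matrix.one_apply_eq]
      show v00 * v00 + v01 * v10 = 1
      linear_combination v00 * ht - hdv - h2
    · show ((v * v : Matrix.SpecialLinearGroup (Fin 2) F) : Matrix (Fin 2) (Fin 2) F) 0 1 = (1 : Matrix (Fin 2) (Fin 2) F) 0 1
      simp only [Matrix.SpecialLinearGroup.coe_mul, Matrix.mul_apply, Fin.sum_univ_two]
      show v00 * v01 + v01 * v11 = _
      rw [Matrix.one_apply_ne (by decide)]
      linear_combination v01 * ht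
    · show ((v * v : Matrix.SpecialLinearGroup (Fin 2) F) : Matrix (Fin 2) (Fin 2) F) 1 0 = (1 : Matrix (Fin 2) (Fin 2) F) 1 0
      simp only [Matrix.SpecialLinearGroup.coe_mul, Matrix.mul_apply, Fin.sum_univ_two]
      show v10 * v00 + v11 * v10 = _
      rw [Matrix.one_apply_ne (by decide)]
      linear_combination v10 * ht
    · show ((v * v : Matrix.SpecialLinearGroup (Fin 2) F) : Matrix (Fin 2) (Fin 2) F) 1 1 = (1 : Matrix (Fin 2) (Fin 2) F) 1 1
      simp only [Matrix.SpecialLinearGroup.coe_mul, Matrix.mul_apply, Fin.sum_univ_two, Matrix.one_apply_eq]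
      show v10 * v01 + v11 * v11 = 1
      linear_combination v11 * ht - hdv - h2
  have hw01 : w01 = v01 := by
    apply mul_left_cancel₀ ht
    linear_combination e2 + (w01 * v11 - v01 * w11) * h2 + v01 * htr
  have hw10 : w10 = v10 := by
    apply mul_left_cancel₀ ht
    linear_combination e3 + (w10 * v00 - v10 * w00) * h2 + v10 * htr
  have hprod : (w00 - v00) * (w00 - v11) = 0 := by
    rw [hw01, hw10] at hdw
    linear_combination hdv - hdw + w00 * htr
  rcases mul_eq_zero.1 hprod with h | h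
  · left
    have h1 : w00 = v00 := sub_eq_zero.1 h
    have h3 : w11 = v11 := by linear_combination htr - h1
    apply Subtype.ext
    ext i j
    fin_cases i <;> fin_cases j
    · exact h1
    · exact hw01
    · exact hw10
    · exact h3
  · right
    have h1 : w00 = v11 := sub_eq_zero.1 h
    have h3 : w11 = v00 := by linear_combination htr - h1
    rw [eq_inv_iff_mul_eq_one]
    apply Subtype.ext
    ext i j
    fin_cases i <;> fin_cases j
    · show ((w * v : Matrix.SpecialLinearGroup (Fin 2) F) : Matrix (Fin 2) (Fin 2) F) 0 0 = (1 : Matrix (Fin 2) (Fin 2) F) 0 0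
      simp only [Matrix.SpecialLinearGroup.coe_mul, Matrix.mul_apply, Fin.sum_univ_two, Matrix.one_apply_eq]
      show w00 * v00 + w01 * v10 = 1
      rw [h1, hw01]
      linear_combination hdv + (v01 * v10) * h2
    · show ((w * v : Matrix.SpecialLinearGroup (Fin 2) F) : Matrix (Fin 2) (Fin 2) F) 0 1 = (1 : Matrix (Fin 2) (Fin 2) F) 0 1
      simp only [Matrix.SpecialLinearGroup.coe_mul, Matrix.mul_apply, Fin.sum_univ_two]
      show w00 * v01 + w01 * v11 = _
      rw [Matrix.one_apply_ne (by decide), h1, hw01]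
      linear_combination (v01 * v11) * h2
    · show ((w * v : Matrix.SpecialLinearGroup (Fin 2) F) : Matrix (Fin 2) (Fin 2) F) 1 0 = (1 : Matrix (Fin 2) (Fin 2) F) 1 0
      simp only [Matrix.SpecialLinearGroup.coe_mul, Matrix.mul_apply, Fin.sum_univ_two]
      show w10 * v00 + w11 * v10 = _
      rw [Matrix.one_apply_ne (by decide), h3, hw10]
      linear_combination (v00 * v10) * h2
    · show ((w * v : Matrix.SpecialLinearGroup (Fin 2) F) : Matrix (Fin 2) (Fin 2) F) 1 1 = (1 : Matrix (Fin 2) (Fin 2) F) 1 1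
      simp only [Matrix.SpecialLinearGroup.coe_mul, Matrix.mul_apply, Fin.sum_univ_two, Matrix.one_apply_eq]
      show w10 * v01 + w11 * v11 = 1
      rw [h3, hw10]
      linear_combination hdv + (v10 * v01) * h2

end Cfsg.Agent.H68.SN
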