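import Mathlib
import Cfsg.Agent.H68.SelfNormC

/-!
# `PSL₂(2ⁿ)`, `2ⁿ - 1` prime: nonabelian subgroups are self-normalising
-/

set_option autoImplicit false
set_option linter.unusedSectionVars false

namespace Cfsg.Agent.H68.SN

open Cfsg.Agent.SC Cfsg.Agent.H68.CA Cfsg.Agent.H34

variable {G : Type*} [Group G]

theorem exists_V [Finite G] (M : Subgroup G) (m : ℕ) : ∀ X : Subgroup G, Nat.card X = m → Group.IsSolvable X → X ≠ ⊥ →
    (∀ m ∈ M, ∀ x ∈ X, m * x * m⁻¹ ∈ X) →
    ∃ V : Subgroup G, V ≤ X ∧ V ≠ ⊥ ∧ ¬ NA V ∧ ∀ m ∈ M, ∀ v ∈ V, m * v * m⁻¹ ∈ V := by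
  classical
  induction m using Nat.strong_induction_on with
  | _ m ih =>
  intro X hm hX hne hXM
  by_cases hna : NA X
  · have hle : ⁅X, X⁆ ≤ X := Subgroup.commutator_le_self X
    have hlt : ⁅X, X⁆ < X := by
      refine lt_of_le_of_ne hle ?_
      intro h
      have hnt : Nontrivial X := (Subgroup.nontrivial_iff_ne_bot X).2 hne
      have h1 := Group.IsSolvable.commutator_lt_top_of_nontrivial (G := X)
      apply h1.ne
      apply Subgroup.map_injective X.subtype_injective
      rw [Subgroup.map_subtype_commutator, h, ← MonoidHom.range_eq_map, Subgroup.range_subtype]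
    have hne' : ⁅X, X⁆ ≠ ⊥ := by
      intro h
      rw [Subgroup.commutator_eq_bot_iff_le_centralizer] at h
      obtain ⟨x, hx, y, hy, hxy⟩ := hna
      exact hxy (Subgroup.mem_centralizer_iff.1 (h hy) x hx)
    have hs : Group.IsSolvable (⁅X, X⁆ : Subgroup G) :=
      Group.isSolvable_of_isSolvable_injective (f := Subgroup.inclusion hle) (Subgroup.inclusion_injective hle)
    have hinv : ∀ m ∈ M, ∀ x ∈ ⁅X, X⁆, m * x * m⁻¹ ∈ ⁅X, X⁆ := by
      intro m hm x hx
      have h1 : (⁅X, X⁆).map (MulAut.conj m).toMonoidHom ≤ ⁅X, X⁆ := by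
        rw [Subgroup.map_commutator]
        have h2 : X.map (MulAut.conj m).toMonoidHom ≤ X := by
          rintro _ ⟨y, hy, rfl⟩
          exact hXM m hm y hy
        exact Subgroup.commutator_mono h2 h2
      exact h1 ⟨x, hx, rfl⟩
    have hcard : Nat.card (⁅X, X⁆ : Subgroup G) < m := by
      rw [← hm]
      by_contra hcon
      exact hlt.ne (Subgroup.eq_of_le_of_card_ge hle (not_lt.1 hcon))
    obtain ⟨V, hV1, hV2, hV3, hV4⟩ := ih _ hcard _ rfl hs hne' hinv
    exact ⟨V, hV1.trans hle, hV2, hV3, hV4⟩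
  · exact ⟨X, le_refl X, hne, hna, hXM⟩

section

variable {A : Subgroup G}

theorem ES.conj_J [Finite G] (h : ES A) {s t : G} (hs : s ∈ J A) (ht : t ∈ J A) : ∃ n ∈ Nn A, n * s * n⁻¹ = t := by
  classical
  obtain ⟨hsA, hss, hs1⟩ := hs
  have key : ∀ n : Nn A, (n : G) * s * (n : G)⁻¹ ∈ J A := by
    intro n
    refine ⟨(Subgroup.mem_normalizer_iff.1 n.2 s).1 hsA, ?_, conj_ne_one hs1⟩
    calc (n : G) * s * (n : G)⁻¹ * ((n : G) * s * (n : G)⁻¹) = n * (s * s) * (n : G)⁻¹ := by group
      _ = 1 := by rw [hss]; group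
  let f : Nn A ⧸ A.subgroupOf (Nn A) → J A := fun c => ⟨_, key c.out⟩
  have hf : Function.Injective f := by
    intro c d hcd
    have h1 : (c.out : G) * s * (c.out : G)⁻¹ = (d.out : G) * s * (d.out : G)⁻¹ := congrArg Subtype.val hcd
    have h2 : ((c.out : G)⁻¹ * d.out) * s = s * ((c.out : G)⁻¹ * d.out) := by
      calc ((c.out : G)⁻¹ * d.out) * s = (c.out : G)⁻¹ * ((d.out : G) * s * (d.out : G)⁻¹) * d.out := by group
        _ = (c.out : G)⁻¹ * ((c.out : G) * s * (c.out : G)⁻¹) * d.out := by rw [h1]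
        _ = _ := by group
    have h3 := h.free hsA hs1 h2
    have h4 : (QuotientGroup.mk c.out : Nn A ⧸ A.subgroupOf (Nn A)) = QuotientGroup.mk d.out :=
      QuotientGroup.eq.2 h3
    rwa [QuotientGroup.out_eq', QuotientGroup.out_eq'] at h4
  have hb : Function.Bijective f := (Nat.bijective_iff_injective_and_card f).2 ⟨hf, h.card_IC_eq.1.symm⟩
  obtain ⟨c, hc⟩ := hb.2 ⟨t, ht⟩
  exact ⟨c.out, c.out.2, congrArg Subtype.val hc⟩

theorem ES.exists_zpow [Finite G] (hp : (e A).Prime) {m : G} (hm : m ∈ Nn A) (hmA : m ∉ A) {n : G}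
    (hn : n ∈ Nn A) : ∃ (k : ℤ), ∃ a ∈ A, n = m ^ k * a := by
  have hfp : Fact (e A).Prime := ⟨hp⟩
  set g : Nn A ⧸ A.subgroupOf (Nn A) := QuotientGroup.mk ⟨m, hm⟩ with hg
  have hg1 : g ≠ 1 := by
    intro h
    rw [hg, QuotientGroup.eq_one_iff] at h
    exact hmA h
  have h1 : (QuotientGroup.mk ⟨n, hn⟩ : Nn A ⧸ A.subgroupOf (Nn A)) ∈ Subgroup.zpowers g :=
    mem_zpowers_of_prime_card (p := e A) rfl hg1
  obtain ⟨k, hk⟩ := Subgroup.mem_zpowers_iff.1 h1
  rw [hg, ← QuotientGroup.mk_zpow] at hk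
  have h2 := QuotientGroup.eq.1 hk
  have h3 : (m ^ k)⁻¹ * n ∈ A := by
    have := Subgroup.mem_subgroupOf.1 h2
    simpa using this
  exact ⟨k, _, h3, by group⟩

theorem ES.maximal [Finite G] (h : ES A) {M : Subgroup G} (hM : Nn A ≤ M) : M = Nn A ∨ M = ⊤ := by
  by_cases hne : M = Nn A
  · exact Or.inl hne
  right
  obtain ⟨m, hm, hmN⟩ : ∃ m ∈ M, m ∉ Nn A := by
    by_contra hcon
    push Not at hcon
    exact hne (le_antisymm hcon hM)
  have hal : ∀ g, g ∉ Nn A → (QuotientGroup.mk g : G ⧸ Nn A) ≠ al A := by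
    intro g hg h1
    apply hg
    rw [← smul_al_iff, smul_al, h1]
  rw [eq_top_iff]
  intro g _
  by_cases hg : g ∈ Nn A
  · exact hM hg
  obtain ⟨u, hu, -⟩ := h.ker_reg (QuotientGroup.mk m) (QuotientGroup.mk g) (hal m hmN) (hal g hg)
  have h1 : (QuotientGroup.mk ((u : G) * m) : G ⧸ Nn A) = QuotientGroup.mk g := hu
  have h2 := QuotientGroup.eq.1 h1
  have h3 : g = (u : G) * m * (((u : G) * m)⁻¹ * g) := by group
  rw [h3]
  exact M.mul_mem (M.mul_mem (hM (Subgroup.le_normalizer u.2)) hm) (hM h2)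

theorem ES.le_of_mem [Finite G] [IsSimpleGroup G] (h : ES A) (hp : (e A).Prime) {M : Subgroup G} {m t : G} (hm : m ∈ M)
    (hmN : m ∈ Nn A) (hmA : m ∉ A) (ht : t ∈ M) (htJ : t ∈ J A) : Nn A ≤ M := by
  have hJ : ∀ s ∈ J A, s ∈ M := by
    intro s hs
    obtain ⟨n, hn, hns⟩ := ES.conj_J h htJ hs
    obtain ⟨k, a, ha, hna⟩ := ES.exists_zpow hp hmN hmA hn
    have h1 : a * t = t * a := h.sc.comm ha htJ.1
    have h2 : n * t * n⁻¹ = m ^ k * t * (m ^ k)⁻¹ := by
      rw [hna]
      calc m ^ k * a * t * (m ^ k * a)⁻¹ = m ^ k * (a * t) * a⁻¹ * (m ^ k)⁻¹ := by group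
        _ = _ := by rw [h1]; group
    rw [← hns, h2]
    exact M.mul_mem (M.mul_mem (M.zpow_mem hm k) ht) (M.inv_mem (M.zpow_mem hm k))
  have hA : A ≤ M := by
    intro a ha
    by_cases ha1 : a = 1
    · rw [ha1]; exact M.one_mem
    · exact hJ a ⟨ha, h.all_inv a ha, ha1⟩
  intro n hn
  obtain ⟨k, a, ha, hna⟩ := ES.exists_zpow hp hmN hmA hn
  rw [hna]
  exact M.mul_mem (M.zpow_mem hm k) (hA ha)

end

theorem map_conj (M : Subgroup G) (X : Subgroup M) (hX : X.Normal) :
    ∀ m ∈ M, ∀ x ∈ X.map M.subtype, m * x * m⁻¹ ∈ X.map M.subtype := by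
  rintro m hm _ ⟨x, hx, rfl⟩
  exact ⟨⟨m, hm⟩ * x * ⟨m, hm⟩⁻¹, hX.conj_mem x hx ⟨m, hm⟩, rfl⟩

set_option maxHeartbeats 400000 in
theorem backward [Finite G] [IsSimpleGroup G] (hna : ¬ IsMulCommutative G) (hCA : IsCA G)
    (hconj : ∀ v w g : G, v * v ≠ 1 → w = g * v * g⁻¹ → v * w = w * v → w = v ∨ w = v⁻¹)
    (hprime : ∀ t : G, orderOf t = 2 → (e (Subgroup.centralizer {t})).Prime)
    (hFT : ∀ X : Subgroup G, Odd (Nat.card X) → Group.IsSolvable X) : HypSN G := by
  classical
  have hp2 : Fact (Nat.Prime 2) := ⟨Nat.prime_two⟩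
  intro K hK g hg
  set M := Subgroup.normalizer (K : Set G) with hM
  have hKM : K ≤ M := Subgroup.le_normalizer
  have hMna : NA M := hK.mono hKM
  have hMne : M ≠ ⊥ := by
    intro h
    obtain ⟨x, hx, y, hy, hne⟩ := hMna
    rw [h, Subgroup.mem_bot] at hx hy
    exact hne (by rw [hx, hy])
  by_cases hV : ∃ V : Subgroup G, V ≠ ⊥ ∧ ¬ NA V ∧ ∀ m ∈ M, ∀ v ∈ V, m * v * m⁻¹ ∈ V
  · obtain ⟨V, hVne, hVa, hVM⟩ := hV
    obtain ⟨v, hv, hv1⟩ : ∃ v ∈ V, v ≠ 1 := by
      by_contra hcon
      push Not at hcon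
      exact hVne ((Subgroup.eq_bot_iff_forall V).2 hcon)
    set B := Subgroup.centralizer {v} with hB
    have hBs : SelfCent B := hCA.selfCent hv1
    have hvB : v ∈ B := Subgroup.mem_centralizer_singleton_iff.2 rfl
    have hVB : V ≤ B := fun x hx => Subgroup.mem_centralizer_singleton_iff.2 (comm_of_not_NA hVa hx hv)
    have hMN : M ≤ Nn B := fun m hm => hBs.mem_normalizer hvB hv1 (hVB (hVM m hm v hv))
    obtain ⟨k, hk, hkB⟩ : ∃ k ∈ K, k ∉ B := by
      by_contra hcon
      push Not at hcon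
      obtain ⟨x, hx, y, hy, hne⟩ := hK
      exact hne (hBs.comm (hcon x hx) (hcon y hy))
    by_cases h2B : 2 ∣ Nat.card B
    · -- even case
      obtain ⟨t, ht⟩ := exists_prime_orderOf_dvd_card' 2 h2B
      have htG : orderOf (t : G) = 2 := by rw [Subgroup.orderOf_coe]; exact ht
      have ht1 : (t : G) ≠ 1 := by
        intro h
        rw [h, orderOf_one] at htG
        omega
      have hBt : Subgroup.centralizer {(t : G)} = B := hBs t t.2 ht1
      have h : ES B := by rw [← hBt]; exact es_centralizer hna hCA t htG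
      have hp : (e B).Prime := by rw [← hBt]; exact hprime t htG
      obtain ⟨x, hx, y, hy, hxy⟩ := hK
      set z := x * y * x⁻¹ * y⁻¹ with hz
      have hzK : z ∈ K := K.mul_mem (K.mul_mem (K.mul_mem hx hy) (K.inv_mem hx)) (K.inv_mem hy)
      have hzB : z ∈ B := by
        obtain ⟨i, a, ha, hxi⟩ := ES.exists_zpow hp (hMN (hKM hk)) hkB (hMN (hKM hx))
        obtain ⟨j, b, hb, hyj⟩ := ES.exists_zpow hp (hMN (hKM hk)) hkB (hMN (hKM hy))
        have hkN : ∀ i : ℤ, ∀ c ∈ B, k ^ i * c * (k ^ i)⁻¹ ∈ B := fun i c hc =>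
          (Subgroup.mem_normalizer_iff.1 ((Nn B).zpow_mem (hMN (hKM hk)) i) c).1 hc
        have h1 : k ^ i * k ^ j = k ^ j * k ^ i := by rw [← zpow_add, ← zpow_add, add_comm]
        have h2 : z = (k ^ i * a * (k ^ i)⁻¹) * (k ^ j * (k ^ i * b * a⁻¹ * (k ^ i)⁻¹) * (k ^ j)⁻¹) *
            (k ^ j * b⁻¹ * (k ^ j)⁻¹) := by
          rw [hz, hxi, hyj]
          calc k ^ i * a * (k ^ j * b) * (k ^ i * a)⁻¹ * (k ^ j * b)⁻¹ =
              (k ^ i * a * (k ^ i)⁻¹) * (k ^ i * k ^ j) * b * a⁻¹ * (k ^ i)⁻¹ * b⁻¹ * (k ^ j)⁻¹ := by group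
            _ = (k ^ i * a * (k ^ i)⁻¹) * (k ^ j * k ^ i) * b * a⁻¹ * (k ^ i)⁻¹ * b⁻¹ * (k ^ j)⁻¹ := by rw [h1]
            _ = _ := by group
        rw [h2]
        refine B.mul_mem (B.mul_mem (hkN i a ha) (hkN j _ ?_)) (hkN j _ (B.inv_mem hb))
        have h3 : k ^ i * b * a⁻¹ * (k ^ i)⁻¹ = k ^ i * (b * a⁻¹) * (k ^ i)⁻¹ := by group
        rw [h3]
        exact hkN i _ (B.mul_mem hb (B.inv_mem ha))
      have hz1 : z ≠ 1 := by
        intro h1
        apply hxy
        rw [hz, mul_inv_eq_one, mul_inv_eq_iff_eq_mul] at h1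
        exact h1
      have hle := ES.le_of_mem h hp hk (hMN (hKM hk)) hkB hzK ⟨hzB, h.all_inv z hzB, hz1⟩
      exact hle (hMN hg)
    · -- odd case
      have hodd : ∀ b ∈ B, b * b = 1 → b = 1 := by
        intro b hb hbb
        by_contra hb1
        apply h2B
        have h1 : orderOf (⟨b, hb⟩ : B) = 2 := orderOf_eq_prime (by rw [sq]; exact Subtype.ext hbb)
          (fun h3 => hb1 (congrArg Subtype.val h3))
        rw [← h1]
        exact orderOf_dvd_natCard _
      have hinv : ∀ m ∈ Nn B, m ∉ B → ∀ b ∈ B, m * b * m⁻¹ = b⁻¹ := by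
        intro m hm hmB b hb
        by_cases hb1 : b = 1
        · rw [hb1]; simp
        have hbb : b * b ≠ 1 := fun h1 => hb1 (hodd b hb h1)
        have h1 : m * b * m⁻¹ ∈ B := (Subgroup.mem_normalizer_iff.1 hm b).1 hb
        rcases hconj b (m * b * m⁻¹) m hbb rfl (hBs.comm hb h1) with h2 | h2
        · exfalso
          apply hmB
          rw [← hBs b hb hb1, Subgroup.mem_centralizer_singleton_iff]
          exact mul_inv_eq_iff_eq_mul.1 h2
        · exact h2
      have hkN := hMN (hKM hk)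
      have hki := hinv k hkN hkB
      have hkk : k * k = 1 := by
        have h1 : k * k ∈ B := by
          rw [hB, Subgroup.mem_centralizer_singleton_iff]
          have h2 := hki v hvB
          have h3 := hki v⁻¹ (B.inv_mem hvB)
          have h4 : k * k * v * (k * k)⁻¹ = v := by
            calc k * k * v * (k * k)⁻¹ = k * (k * v * k⁻¹) * k⁻¹ := by group
              _ = v := by rw [h2, h3, inv_inv]
          exact mul_inv_eq_iff_eq_mul.1 h4
        have h2 := hki (k * k) h1
        have h3 : k * (k * k) * k⁻¹ = k * k := by group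
        rw [h3] at h2
        apply hodd _ h1
        nth_rewrite 2 [h2]
        group
      have hBK : ∀ b ∈ B, b ∈ M → b ∈ K := by
        intro b hb hbM
        have h1 : b * k * b⁻¹ ∈ K := (Subgroup.mem_normalizer_iff.1 hbM k).1 hk
        have h2 : b * b ∈ K := by
          have h3 := hki b⁻¹ (B.inv_mem hb)
          rw [inv_inv] at h3
          have h4 : b * b = b * k * b⁻¹ * k⁻¹ := by
            calc b * b = b * (k * b⁻¹ * k⁻¹) := by rw [h3]
              _ = _ := by group
          rw [h4]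
          exact K.mul_mem h1 (K.inv_mem hk)
        -- odd order
        have h5 : Odd (orderOf b) := by
          rw [← Nat.not_even_iff_odd, even_iff_two_dvd]
          intro h6
          apply h2B
          refine h6.trans ?_
          have := orderOf_dvd_natCard (⟨b, hb⟩ : B)
          rwa [Subgroup.orderOf_mk] at this
        obtain ⟨j, hj⟩ := h5
        have h6 : b = (b * b) ^ (j + 1) := by
          have h7 : b ^ (2 * j + 1) = 1 := by rw [← hj, pow_orderOf_eq_one]
          rw [← sq, ← pow_mul]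
          have h8 : 2 * (j + 1) = (2 * j + 1) + 1 := by ring
          rw [h8, pow_succ, h7, one_mul]
        rw [h6]
        exact K.pow_mem h2 _
      by_cases hgB : g ∈ B
      · exact hBK g hgB hg
      · have hgi := hinv g (hMN hg) hgB
        have h1 : g * k ∈ B := by
          rw [hB, Subgroup.mem_centralizer_singleton_iff]
          have h2 := hki v hvB
          have h3 := hgi v⁻¹ (B.inv_mem hvB)
          have h4 : g * k * v * (g * k)⁻¹ = v := by
            calc g * k * v * (g * k)⁻¹ = g * (k * v * k⁻¹) * g⁻¹ := by group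
              _ = v := by rw [h2, h3, inv_inv]
          exact mul_inv_eq_iff_eq_mul.1 h4
        have h2 := hBK _ h1 (M.mul_mem hg (hKM hk))
        have h3 : g = g * k * k⁻¹ := by group
        rw [h3]
        exact K.mul_mem h2 (K.inv_mem hk)
  · -- `M` has no nontrivial abelian normal subgroup
    have hMtop : M = ⊤ := by
      have h2M : 2 ∣ Nat.card M := by
        by_contra h2
        apply hV
        have hodd : Odd (Nat.card M) := by
          rw [← Nat.not_even_iff_odd, even_iff_two_dvd]; exact h2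
        obtain ⟨V, hV1, hV2, hV3, hV4⟩ := exists_V M _ M rfl (hFT M hodd) hMne
          (fun m hm x hx => M.mul_mem (M.mul_mem hm hx) (M.inv_mem hm))
        exact ⟨V, hV2, hV3, hV4⟩
      obtain ⟨t, ht⟩ := exists_prime_orderOf_dvd_card' 2 h2M
      have htG : orderOf (t : G) = 2 := by rw [Subgroup.orderOf_coe]; exact ht
      have ht1 : (t : G) ≠ 1 := by
        intro h
        rw [h, orderOf_one] at htG
        omega
      have htt : (t : G) * t = 1 := by rw [← sq, ← htG, pow_orderOf_eq_one]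
      set A := Subgroup.centralizer {(t : G)} with hA
      have h : ES A := es_centralizer hna hCA t htG
      have hp : (e A).Prime := hprime t htG
      have htA : (t : G) ∈ A := Subgroup.mem_centralizer_singleton_iff.2 rfl
      by_cases hm : ∃ m ∈ M, m ∈ Nn A ∧ m ∉ A
      · obtain ⟨m, hm, hmN, hmA⟩ := hm
        have hle := ES.le_of_mem h hp hm hmN hmA t.2 ⟨htA, htt, ht1⟩
        rcases ES.maximal h hle with h1 | h1
        · exfalso
          apply hV
          refine ⟨A, ?_, ?_, ?_⟩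
          · intro h2
            rw [h2, Subgroup.mem_bot] at htA
            exact ht1 htA
          · rintro ⟨x, hx, y, hy, hne⟩
            exact hne (h.sc.comm hx hy)
          · intro m hm a ha
            rw [h1] at hm
            exact (Subgroup.mem_normalizer_iff.1 hm a).1 ha
        · exact h1
      · exfalso
        push Not at hm
        have hpz : IsPGroup 2 (Subgroup.zpowers t) := by
          apply IsPGroup.of_card (n := 1)
          rw [Nat.card_zpowers, ht, pow_one]
        obtain ⟨S, hS⟩ := hpz.exists_le_sylow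
        set SG := (S : Subgroup M).map M.subtype with hSG
        have hSGp : IsPGroup 2 SG := S.isPGroup'.map _
        have htS : (t : G) ∈ SG := ⟨t, hS (Subgroup.mem_zpowers t), rfl⟩
        have hSGne : SG ≠ ⊥ := by
          intro h2
          rw [h2, Subgroup.mem_bot] at htS
          exact ht1 htS
        have hSA : SG ≤ A := by
          obtain ⟨z, hz, hzo, hzc⟩ := exists_center_order hSGp hSGne
          have hz1 : z ≠ 1 := by
            rintro rfl
            rw [orderOf_one] at hzo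
            omega
          have hzA : z ∈ A := Subgroup.mem_centralizer_singleton_iff.2 (hzc t htS).symm
          intro x hx
          rw [← h.sc z hzA hz1, Subgroup.mem_centralizer_singleton_iff]
          exact hzc x hx
        have hP : Subgroup.normalizer ((S : Subgroup M) : Set M) ≤ Subgroup.centralizer ((S : Subgroup M) : Set M) := by
          intro n hn
          have h3 : (n : G) * t * (n : G)⁻¹ ∈ A :=
            hSA ⟨n * t * n⁻¹, (Subgroup.mem_normalizer_iff.1 hn t).1 (hS (Subgroup.mem_zpowers t)), rfl⟩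
          have h4 : (n : G) ∈ A := hm n n.2 (h.sc.mem_normalizer htA ht1 h3)
          rw [Subgroup.mem_centralizer_iff]
          intro x hx
          apply Subtype.ext
          exact h.sc.comm (hSA ⟨x, hx, rfl⟩) h4
        have hc := MonoidHom.ker_transferSylow_isComplement' S hP
        set X := (MonoidHom.transferSylow S hP).ker with hX
        have hXodd : Odd (Nat.card X) := by
          rw [← Nat.not_even_iff_odd, even_iff_two_dvd]
          exact MonoidHom.not_dvd_card_ker_transferSylow S hP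
        set XG := X.map M.subtype with hXG
        have hXGcard : Nat.card XG = Nat.card X :=
          (Nat.card_congr (X.equivMapOfInjective _ M.subtype_injective).toEquiv).symm
        by_cases hX1 : XG = ⊥
        · have hXb : X = ⊥ := by
            have := (Subgroup.map_eq_bot_iff_of_injective X M.subtype_injective).1 hX1
            exact this
          rw [hXb] at hc
          have h4 : (S : Subgroup M) = ⊤ := Subgroup.isComplement'_bot_left.1 hc
          obtain ⟨x, hx, y, hy, hne⟩ := hMna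
          apply hne
          refine h.sc.comm (hSA ⟨⟨x, hx⟩, ?_, rfl⟩) (hSA ⟨⟨y, hy⟩, ?_, rfl⟩)
          · rw [h4]; trivial
          · rw [h4]; trivial
        · apply hV
          obtain ⟨V, hV1, hV2, hV3, hV4⟩ := exists_V M _ XG rfl (hFT XG (by rw [hXGcard]; exact hXodd)) hX1
            (map_conj M X inferInstance)
          exact ⟨V, hV2, hV3, hV4⟩
    have hKn : K.Normal := Subgroup.normalizer_eq_top_iff.1 hMtop
    rcases IsSimpleGroup.eq_bot_or_eq_top_of_normal K hKn with h1 | h1
    · exfalso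
      obtain ⟨x, hx, y, hy, hne⟩ := hK
      rw [h1, Subgroup.mem_bot] at hx hy
      exact hne (by rw [hx, hy])
    · rw [h1]; trivial

end Cfsg.Agent.H68.SN
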