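import Mathlib
import Cfsg.Agent.H68.SelfNormD
import Cfsg.Agent.H81.SL2Card
import Cfsg.Agent.ClassBase.RelHom

/-!
# Simple groups in which nonabelian subgroups are self-normalising: the classification
-/

set_option autoImplicit false
set_option linter.unusedSectionVars false

namespace Cfsg.Agent.H68.SN

open Cfsg.Agent.SC Cfsg.Agent.H68.CA Cfsg.Agent.H34

theorem char_two {F : Type*} [Field F] [Fintype F] {f : ℕ} (hf : 1 ≤ f) (hF : Fintype.card F = 2 ^ f) : CharP F 2 :=
  (isCA_psl2 hf hF).1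

theorem card_psl2 {F : Type*} [Field F] [Fintype F] {f : ℕ} (hf : 1 ≤ f) (hF : Fintype.card F = 2 ^ f) :
    Nat.card (Matrix.ProjectiveSpecialLinearGroup (Fin 2) F) = 2 ^ f * ((2 ^ f - 1) * (2 ^ f + 1)) := by
  have := char_two hf hF
  obtain ⟨e⟩ := H21.nonempty_mulEquiv_psl2 (F := F)
  rw [← Nat.card_congr e.toEquiv, Cfsg.Agent.H81.card_sl2, hF]

theorem pow_eq_of_prod {a b : ℕ} (ha : 1 ≤ a) (hb : 1 ≤ b) (h : a * ((a - 1) * (a + 1)) = b * ((b - 1) * (b + 1))) :
    a = b := by
  obtain ⟨a, rfl⟩ := Nat.exists_eq_add_of_le ha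
  obtain ⟨b, rfl⟩ := Nat.exists_eq_add_of_le hb
  rw [Nat.add_sub_cancel_left, Nat.add_sub_cancel_left] at h
  rcases lt_trichotomy a b with h1 | h1 | h1
  · exfalso
    have : (1 + a) * (a * (1 + a + 1)) < (1 + b) * (b * (1 + b + 1)) := by
      apply Nat.mul_lt_mul_of_lt_of_le (by omega) (Nat.mul_le_mul (by omega) (by omega)) (Nat.mul_pos (by omega) (by omega))
    omega
  · rw [h1]
  · exfalso
    have : (1 + b) * (b * (1 + b + 1)) < (1 + a) * (a * (1 + a + 1)) := by
      apply Nat.mul_lt_mul_of_lt_of_le (by omega) (Nat.mul_le_mul (by omega) (by omega)) (Nat.mul_pos (by omega) (by omega))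
    omega

variable {G : Type*} [Group G]

/-- the backward direction -/
theorem hypSN_of_psl [Finite G] [IsSimpleGroup G] (hna : ¬ IsMulCommutative G) {F : Type} [Field F] [Fintype F] {n : ℕ}
    (hn : 2 ≤ n) (hF : Fintype.card F = 2 ^ n) (hp : (2 ^ n - 1).Prime)
    (φ : G ≃* Matrix.ProjectiveSpecialLinearGroup (Fin 2) F)
    (hFT : ∀ X : Subgroup G, Odd (Nat.card X) → Group.IsSolvable X) : HypSN G := by
  have hchar := char_two (by omega) hF
  obtain ⟨ψ⟩ := H21.nonempty_mulEquiv_psl2 (F := F)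
  set θ := φ.trans ψ.symm with hθ
  have hCA : IsCA G := (isCA_psl2 (by omega) hF).2.of_equiv φ
  refine backward hna hCA ?_ ?_ hFT
  · intro v w g hv hw hc
    have h1 := sl2_conj (v := θ v) (w := θ w) (g := θ g) (by
      rw [← map_mul]
      intro h
      exact hv (θ.injective (h.trans (map_one θ).symm))) (by rw [hw, map_mul, map_mul, map_inv]) (by
      rw [← map_mul, hc, map_mul])
    rcases h1 with h1 | h1
    · exact Or.inl (θ.injective h1)
    · right
      apply θ.injective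
      rw [h1, map_inv]
  · intro t ht
    obtain ⟨F', iF, iFF, f, hf2, hF', hcA, ⟨φ'⟩⟩ := psl_of_even' hna hCA t ht
    have h := es_centralizer hna hCA t ht
    have h1 : Nat.card G = 2 ^ n * ((2 ^ n - 1) * (2 ^ n + 1)) := by
      rw [Nat.card_congr φ.toEquiv, card_psl2 (by omega) hF]
    have h2 : Nat.card G = 2 ^ f * ((2 ^ f - 1) * (2 ^ f + 1)) := by
      rw [Nat.card_congr φ'.toEquiv, card_psl2 (by omega) hF']
    have h3 : 2 ^ n = 2 ^ f := pow_eq_of_prod Nat.one_le_two_pow Nat.one_le_two_pow (h1.symm.trans h2)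
    rw [h.card_J, ← h3] at hcA
    have h4 : e (Subgroup.centralizer {t}) = 2 ^ n - 1 := by omega
    rw [h4]
    exact hp

theorem classification [Finite G] [IsSimpleGroup G] (hna : ¬ IsMulCommutative G) (h2 : 2 ∣ Nat.card G)
    (hFT : ∀ X : Subgroup G, Odd (Nat.card X) → Group.IsSolvable X) :
    (∀ H : Subgroup G, ¬ IsMulCommutative H → Subgroup.normalizer (H : Set G) = H) ↔
    ∃ n : ℕ, 2 ≤ n ∧ (2 ^ n - 1).Prime ∧ Nonempty (G ≃* Matrix.ProjectiveSpecialLinearGroup (Fin 2) (GaloisField 2 n)) := by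
  have hNA : ∀ H : Subgroup G, NA H ↔ ¬ IsMulCommutative H := by
    intro H
    constructor
    · rintro ⟨x, hx, y, hy, hne⟩ hc
      exact hne (congrArg Subtype.val (hc.is_comm.comm (⟨x, hx⟩ : H) ⟨y, hy⟩))
    · intro h
      by_contra hcon
      exact h ⟨⟨fun x y => Subtype.ext (comm_of_not_NA hcon x.2 y.2)⟩⟩
  have : Fact (Nat.Prime 2) := ⟨Nat.prime_two⟩
  constructor
  · intro h
    have H : HypSN G := by
      intro K hK g hg
      rw [h K ((hNA K).1 hK)] at hg
      exact hg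
    obtain ⟨F, iF, iFF, f, hf2, hF, hp, ⟨φ⟩⟩ := forward hna H h2
    refine ⟨f, hf2, hp, ?_⟩
    have : Fintype (GaloisField 2 f) := Fintype.ofFinite _
    have hcard : Fintype.card (GaloisField 2 f) = 2 ^ f := by
      rw [← Nat.card_eq_fintype_card, GaloisField.card 2 f (by omega)]
    exact ⟨φ.trans (ClassBase.pslCongr (FiniteField.ringEquivOfCardEq (hF.trans hcard.symm)))⟩
  · rintro ⟨n, hn, hp, ⟨φ⟩⟩ H hH
    have : Fintype (GaloisField 2 n) := Fintype.ofFinite _
    have hcard : Fintype.card (GaloisField 2 n) = 2 ^ n := by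
      rw [← Nat.card_eq_fintype_card, GaloisField.card 2 n (by omega)]
    have h := hypSN_of_psl hna hn hcard hp φ hFT
    exact le_antisymm (fun g hg => h H ((hNA H).2 hH) g hg) Subgroup.le_normalizer

end Cfsg.Agent.H68.SN
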