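import Cfsg.Agent.H68.HomoBlk3
import Cfsg.Agent.H4.CharKer

/-!
# Homocyclic Sylow `2`-subgroups: a nontrivial linear character
-/

set_option autoImplicit false
set_option linter.unusedSectionVars false
set_option linter.style.haveILetI false

universe u

namespace Cfsg.Agent.H68.HB

open scoped ComplexConjugate BigOperators
open Cfsg Cfsg.Agent.CharBase Cfsg.Agent.Blk Cfsg.Agent.H4

variable {G : Type u} [Group G] [Finite G]

namespace Hyp

variable {P : Sylow 2 G} {g : G}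

set_option maxHeartbeats 1000000 in
open Classical in
/-- **Brauer**: a homocyclic Sylow `2`-subgroup of rank two and exponent at least four -/
theorem exists_linear (h : Hyp P g) (h16 : 16 ∣ Nat.card (P : Subgroup G))
    (h4 : ∃ x : (P : Subgroup G), x * x ≠ 1) :
    ∃ χ : IrrCharacter G, (χ : G → ℂ) 1 = 1 ∧ χ ≠ oneIrr G := by
  haveI : Fact (Nat.Prime 2) := ⟨Nat.prime_two⟩
  obtain ⟨M, hM⟩ := H4.exists_isPModular 2
  haveI : M.IsPrime := isPrime_of_isPModular hM
  haveI := Fintype.ofFinite (P : Subgroup G)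
  haveI := Fintype.ofFinite (IrrCharacter G)
  haveI := Fintype.ofFinite (IrrCharacter (P : Subgroup G))
  obtain ⟨a, ha1, ha2⟩ := h.exists_mults
  set B := principalBlock M G with hB
  set one' := oneIrr (P : Subgroup G) with hone'
  have h1B : oneIrr G ∈ B := oneIrr_mem_principalBlock
  have hW : ∀ χ l, W χ l = ((a χ one' - a χ l : ℤ) : ℂ) := by
    intro χ l
    rw [W_eq, ha1, ha1]; push_cast; rfl
  have hWone : ∀ l, l ≠ one' → a (oneIrr G) one' - a (oneIrr G) l = 1 := by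
    intro l hl
    have h1 : W (oneIrr G) l = 1 := by
      rw [W_eq]
      have e1 : (fun x : (P : Subgroup G) => (oneIrr G : G → ℂ) x) = (one' : ↥(P : Subgroup G) → ℂ) := rfl
      rw [e1, ← hone', classInner_irr, classInner_irr, if_pos rfl, if_neg (Ne.symm hl), sub_zero]
    rw [hW] at h1
    exact_mod_cast h1
  -- the vectors
  let X := {l : IrrCharacter (P : Subgroup G) // l ≠ one'}
  let w : X → IrrCharacter G → ℤ := fun l χ =>
    if χ ∈ B ∧ χ ≠ oneIrr G then a χ one' - a χ l.1 else 0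
  have hwne : ∀ (l : X) χ, w l χ ≠ 0 → χ ∈ B ∧ χ ≠ oneIrr G ∧ w l χ = a χ one' - a χ l.1 := by
    intro l χ hne
    by_cases hc : χ ∈ B ∧ χ ≠ oneIrr G
    · exact ⟨hc.1, hc.2, if_pos hc⟩
    · exact absurd (if_neg hc) hne
  have hsplit : ∀ (l : X) (F : IrrCharacter G → ℂ),
      ∑ χ : IrrCharacter G, (if χ ∈ B then W χ l.1 * F χ else 0) =
      F (oneIrr G) + ∑ χ : IrrCharacter G, (w l χ : ℂ) * F χ := by
    intro l F
    rw [← Finset.add_sum_erase Finset.univ _ (Finset.mem_univ (oneIrr G)), if_pos h1B, hW,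
      hWone _ l.2, ← Finset.add_sum_erase Finset.univ (fun χ => (w l χ : ℂ) * F χ)
      (Finset.mem_univ (oneIrr G))]
    have e1 : w l (oneIrr G) = 0 := if_neg (fun hc => hc.2 rfl)
    rw [e1, Int.cast_one, one_mul, Int.cast_zero, zero_mul, zero_add]
    congr 1
    refine Finset.sum_congr rfl fun χ hχ => ?_
    have hχ1 : χ ≠ oneIrr G := Finset.ne_of_mem_erase hχ
    by_cases hb : χ ∈ B
    · rw [if_pos hb, hW]
      have : w l χ = a χ one' - a χ l.1 := if_pos ⟨hb, hχ1⟩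
      rw [this]
    · rw [if_neg hb]
      have : w l χ = 0 := if_neg (fun hc => hb hc.1)
      rw [this, Int.cast_zero, zero_mul]
  have hWconj : ∀ χ l, conj (W χ l) = ((a χ one' - a χ l : ℤ) : ℂ) := by
    intro χ l
    rw [hW, map_intCast]
  have hgram : ∀ k l : X, 1 + ∑ χ : IrrCharacter G, w l χ * w k χ =
      3 + (if k.1 = l.1 then 1 else 0) + (if h.tw k.1 = l.1 then 1 else 0) +
        (if h.tw (h.tw k.1) = l.1 then 1 else 0) := by
    intro k l
    have h1 := h.gram hM k.2 l.2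
    have h2 := hsplit l (fun χ => conj (W χ k.1))
    have h3 := h2.symm.trans h1
    have h4 : conj (W (oneIrr G) k.1) = 1 := by
      rw [hWconj, hWone _ k.2, Int.cast_one]
    have h5 : ∀ χ : IrrCharacter G, (w l χ : ℂ) * conj (W χ k.1) = ((w l χ * w k χ : ℤ) : ℂ) := by
      intro χ
      by_cases hne : w l χ = 0
      · rw [hne]; simp
      · obtain ⟨g1, g2, -⟩ := hwne l χ hne
        have : w k χ = a χ one' - a χ k.1 := if_pos ⟨g1, g2⟩
        rw [hWconj, this]; push_cast; ring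
    rw [h4, Finset.sum_congr rfl fun χ _ => h5 χ] at h3
    have h6 : ((1 + ∑ χ : IrrCharacter G, w l χ * w k χ : ℤ) : ℂ) =
      ((3 + (if k.1 = l.1 then 1 else 0) + (if h.tw k.1 = l.1 then 1 else 0) +
        (if h.tw (h.tw k.1) = l.1 then 1 else 0) : ℤ) : ℂ) := by
      push_cast
      rw [← h3]
      push_cast
      rfl
    exact_mod_cast h6
  let R : X → X → Prop := fun x y => y.1 = x.1 ∨ h.tw y.1 = x.1 ∨ h.tw (h.tw y.1) = x.1
  have htw2 : ∀ l : X, h.tw (h.tw l.1) ≠ l.1 := by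
    intro l h1
    apply h.tw_ne l.2
    have h2 := h.tw3 l.1
    rwa [h1] at h2
  have hn : ∀ x : X, ∑ t : IrrCharacter G, w x t ^ 2 = 3 := by
    intro x
    have h1 := hgram x x
    rw [if_pos rfl, if_neg (h.tw_ne x.2), if_neg (htw2 x)] at h1
    have h2 : ∑ t : IrrCharacter G, w x t ^ 2 = ∑ t : IrrCharacter G, w x t * w x t :=
      Finset.sum_congr rfl fun t _ => by ring
    rw [h2]; linarith
  have hin : ∀ x y : X, ¬ R x y → ∑ t : IrrCharacter G, w x t * w y t = 2 := by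
    intro x y hR
    have hR' : ¬ (y.1 = x.1) ∧ ¬ (h.tw y.1 = x.1) ∧ ¬ (h.tw (h.tw y.1) = x.1) :=
      ⟨fun h1 => hR (Or.inl h1), fun h1 => hR (Or.inr (Or.inl h1)), fun h1 => hR (Or.inr (Or.inr h1))⟩
    have h1 := hgram y x
    rw [if_neg hR'.1, if_neg hR'.2.1, if_neg hR'.2.2] at h1
    linarith
  have hatw : ∀ χ l, a χ (h.tw l) = a χ l := by
    intro χ l
    have h1 := h.a_tw χ l
    rw [ha1, ha1] at h1
    exact_mod_cast h1
  have hsame : ∀ x y : X, R x y → w x = w y := by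
    intro x y hR
    have h1 : ∀ χ, a χ x.1 = a χ y.1 := by
      intro χ
      rcases hR with h1 | h1 | h1
      · rw [h1]
      · rw [← h1, hatw]
      · rw [← h1, hatw, hatw]
    funext χ
    simp only [w, h1]
  have hmore : ∀ a b c d : X, ∃ x, ¬ R x a ∧ ¬ R x b ∧ ¬ R x c ∧ ¬ R x d := by
    intro x1 x2 x3 x4
    let cl : IrrCharacter (P : Subgroup G) → Finset (IrrCharacter (P : Subgroup G)) :=
      fun l => {l, h.tw l, h.tw (h.tw l)}
    have hcl : ∀ l, (cl l).card ≤ 3 := fun l => Finset.card_le_three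
    let U : Finset (IrrCharacter (P : Subgroup G)) :=
      {one'} ∪ (cl x1.1 ∪ (cl x2.1 ∪ (cl x3.1 ∪ cl x4.1)))
    have hU : U.card ≤ 13 := by
      have e1 := Finset.card_union_le (cl x3.1) (cl x4.1)
      have e2 := Finset.card_union_le (cl x2.1) (cl x3.1 ∪ cl x4.1)
      have e3 := Finset.card_union_le (cl x1.1) (cl x2.1 ∪ (cl x3.1 ∪ cl x4.1))
      have e4 := Finset.card_union_le ({one'} : Finset _) (cl x1.1 ∪ (cl x2.1 ∪ (cl x3.1 ∪ cl x4.1)))
      have e5 : ({one'} : Finset (IrrCharacter (P : Subgroup G))).card = 1 := Finset.card_singleton _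
      have := hcl x1.1
      have := hcl x2.1
      have := hcl x3.1
      have := hcl x4.1
      show ({one'} ∪ (cl x1.1 ∪ (cl x2.1 ∪ (cl x3.1 ∪ cl x4.1))) : Finset _).card ≤ 13
      omega
    have hU2 : ∃ l, l ∉ U := by
      by_contra hcon
      push Not at hcon
      have h1 : (Finset.univ : Finset (IrrCharacter (P : Subgroup G))) ⊆ U := fun l _ => hcon l
      have h2 := Finset.card_le_card h1
      rw [Finset.card_univ, H74.ab_card h.comm'] at h2
      have := Nat.le_of_dvd Nat.card_pos h16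
      omega
    obtain ⟨l, hl⟩ := hU2
    simp only [U, cl, Finset.mem_union, Finset.mem_insert, Finset.mem_singleton, not_or] at hl
    obtain ⟨l1, ⟨l2, l3, l4⟩, ⟨l5, l6, l7⟩, ⟨l8, l9, l10⟩, ⟨l11, l12, l13⟩⟩ := hl
    refine ⟨⟨l, l1⟩, ?_, ?_, ?_, ?_⟩
    · rintro (h1 | h1 | h1)
      · exact l2 h1.symm
      · exact l3 h1.symm
      · exact l4 h1.symm
    · rintro (h1 | h1 | h1)
      · exact l5 h1.symm
      · exact l6 h1.symm
      · exact l7 h1.symm
    · rintro (h1 | h1 | h1)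
      · exact l8 h1.symm
      · exact l9 h1.symm
      · exact l10 h1.symm
    · rintro (h1 | h1 | h1)
      · exact l11 h1.symm
      · exact l12 h1.symm
      · exact l13 h1.symm
  obtain ⟨μ', hμ1, hμ2⟩ := h.exists_mu h4
  let μ : X := ⟨μ', hμ1⟩
  obtain ⟨c1, c2, hc12, s1, s2, hs1, hs2, hc⟩ := sunflower R w hn hin hsame hmore μ
  have hs1ne : s1 ≠ 0 := by rcases hs1 with h1 | h1 <;> rw [h1] <;> norm_num
  have hs2ne : s2 ≠ 0 := by rcases hs2 with h1 | h1 <;> rw [h1] <;> norm_num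
  have hs1sq : s1 * s1 = 1 := by rcases hs1 with h1 | h1 <;> rw [h1] <;> norm_num
  have hs2sq : s2 * s2 = 1 := by rcases hs2 with h1 | h1 <;> rw [h1] <;> norm_num
  obtain ⟨c3, h13, h23, hs3, h3⟩ := third (hn μ) hc12 (by rw [(hc μ).1]; exact hs1ne)
    (by rw [(hc μ).2]; exact hs2ne)
  set s3 := w μ c3 with hs3def
  have hs3ne : s3 ≠ 0 := by rcases hs3 with h1 | h1 <;> rw [h1] <;> norm_num
  have hs3sq : s3 * s3 = 1 := by rcases hs3 with h1 | h1 <;> rw [h1] <;> norm_num
  obtain ⟨m1B, m11, -⟩ := hwne μ c1 (by rw [(hc μ).1]; exact hs1ne)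
  obtain ⟨m2B, m21, -⟩ := hwne μ c2 (by rw [(hc μ).2]; exact hs2ne)
  obtain ⟨m3B, m31, m3e⟩ := hwne μ c3 hs3ne
  -- sum formula
  have hsum3 : ∀ F : IrrCharacter G → ℂ, ∑ χ : IrrCharacter G, (w μ χ : ℂ) * F χ =
      s1 * F c1 + s2 * F c2 + s3 * F c3 := by
    intro F
    have e1 : ∑ χ : IrrCharacter G, (w μ χ : ℂ) * F χ = ∑ χ ∈ ({c1, c2, c3} : Finset (IrrCharacter G)),
        (w μ χ : ℂ) * F χ := by
      symm
      apply Finset.sum_subset (Finset.subset_univ _)
      intro χ _ hχ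
      simp only [Finset.mem_insert, Finset.mem_singleton, not_or] at hχ
      by_cases hne : w μ χ = 0
      · rw [hne]; simp
      · rcases h3 χ hne with h1 | h1 | h1
        · exact absurd h1 hχ.1
        · exact absurd h1 hχ.2.1
        · exact absurd h1 hχ.2.2
    rw [e1, Finset.sum_insert, Finset.sum_insert, Finset.sum_singleton, (hc μ).1, (hc μ).2]
    · ring
    · simp only [Finset.mem_singleton]; exact h23
    · simp only [Finset.mem_insert, Finset.mem_singleton, not_or]; exact ⟨hc12, h13⟩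
  -- an involution
  obtain ⟨t, ht⟩ : ∃ t : (P : Subgroup G), orderOf t = 2 := by
    apply exists_prime_orderOf_dvd_card' 2
    exact Dvd.dvd.trans (by norm_num) h16
  have htt : t * t = 1 := by
    have := pow_orderOf_eq_one t
    rwa [ht, sq] at this
  have ht1 : t ≠ 1 := by
    intro h1
    rw [h1, orderOf_one] at ht
    omega
  -- the basic vanishing principle
  have hvan : ∀ F : IrrCharacter G → ℂ,
      (∀ x : (P : Subgroup G), x ≠ 1 → (x * x = 1 ∨ ∑ χ : IrrCharacter G, (if χ ∈ B then (χ : G → ℂ) x * F χ else 0) = 0)) →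
      F (oneIrr G) + (s1 * F c1 + s2 * F c2 + s3 * F c3) = 0 := by
    intro F hF
    rw [← hsum3, ← hsplit μ F, sum_W]
    have : ∀ x : (P : Subgroup G), (1 - conj ((μ.1 : ↥(P : Subgroup G) → ℂ) x)) *
      ∑ χ : IrrCharacter G, (if χ ∈ B then (χ : G → ℂ) x * F χ else 0) = 0 := by
      intro x
      by_cases hx : x = 1
      · rw [hx, h.lin]; simp
      · rcases hF x hx with h1 | h1
        · have : (μ.1 : ↥(P : Subgroup G) → ℂ) x = 1 := hμ2 x h1
          rw [this]; simp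
        · rw [h1, mul_zero]
    rw [Finset.sum_eq_zero fun x _ => this x, mul_zero]
  -- degrees
  have hE0 : (1 : ℂ) + (s1 * (c1 : G → ℂ) 1 + s2 * (c2 : G → ℂ) 1 + s3 * (c3 : G → ℂ) 1) = 0 := by
    have h1 := hvan (fun χ => (χ : G → ℂ) 1) (by
      intro x hx
      right
      have h2 := h.column hM x 1 hx
      rw [if_neg] at h2
      · refine Eq.trans (Finset.sum_congr rfl fun χ _ => ?_) h2
        have h3 : conj ((χ : G → ℂ) ((1 : (P : Subgroup G)) : G)) = (χ : G → ℂ) 1 := by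
          rw [OneMemClass.coe_one, H75.deg_spec, Complex.conj_natCast]
        rw [h3]
      · rintro (h1 | h1 | h1)
        · exact hx h1.symm
        · apply hx
          apply h.sig.injective
          rw [← h1, map_one]
        · apply hx
          apply h.sig.injective
          apply h.sig.injective
          rw [← h1, map_one, map_one])
    exact h1
  have hE1 : (1 : ℂ) + (s1 * ((c1 : G → ℂ) t * (c1 : G → ℂ) t / (c1 : G → ℂ) 1) +
      s2 * ((c2 : G → ℂ) t * (c2 : G → ℂ) t / (c2 : G → ℂ) 1) +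
      s3 * ((c3 : G → ℂ) t * (c3 : G → ℂ) t / (c3 : G → ℂ) 1)) = 0 := by
    have h1 := hvan (fun χ => (χ : G → ℂ) t * (χ : G → ℂ) t / (χ : G → ℂ) 1) (by
      intro x hx
      by_cases hxx : x * x = 1
      · exact Or.inl hxx
      · exact Or.inr (h.const_zero hM hxx htt))
    have h2 : (oneIrr G : G → ℂ) t * (oneIrr G : G → ℂ) t / (oneIrr G : G → ℂ) 1 = 1 := by
      simp
    rw [← h2]
    exact h1
  -- values of `c1`, `c2`
  have hval : ∀ (c : IrrCharacter G) (s : ℤ), c ∈ B → c ≠ oneIrr G → (∀ x : X, w x c = s) →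
      (∀ x : (P : Subgroup G), x ≠ 1 → (c : G → ℂ) x = s) ∧
      (c : G → ℂ) 1 = ((a c one' - s : ℤ) : ℂ) * Nat.card (P : Subgroup G) + s := by
    intro c s hcB hc1 hws
    have h1 : ∀ l, (a c l : ℂ) = ((a c one' - s : ℤ) : ℂ) + if l = one' then (s : ℂ) else 0 := by
      intro l
      split_ifs with hl
      · rw [hl]; push_cast; ring
      · have h2 := hws ⟨l, hl⟩
        have h3 : w ⟨l, hl⟩ c = a c one' - a c l := if_pos ⟨hcB, hc1⟩
        rw [h3] at h2
        rw [← h2]; push_cast; ring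
    have h2 : ∀ x : (P : Subgroup G), (c : G → ℂ) x = ((a c one' - s : ℤ) : ℂ) *
        ∑ l : IrrCharacter (P : Subgroup G), (l : ↥(P : Subgroup G) → ℂ) x + s := by
      intro x
      rw [ha2 c x]
      simp only [h1, add_mul, Finset.sum_add_distrib, ← Finset.mul_sum]
      congr 1
      simp only [ite_mul, zero_mul, Finset.sum_ite_eq', Finset.mem_univ, if_true]
      rw [hone', oneIrr_apply, mul_one]
    constructor
    · intro x hx
      rw [h2, h.sum_irr hx, mul_zero, zero_add]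
    · have h5 := h2 1
      rw [OneMemClass.coe_one] at h5
      rw [h5]
      have h6 : ∑ l : IrrCharacter (P : Subgroup G), (l : ↥(P : Subgroup G) → ℂ) 1 = Nat.card (P : Subgroup G) := by
        rw [Finset.sum_congr rfl fun l _ => h.lin l, Finset.sum_const, nsmul_eq_mul, mul_one,
          Finset.card_univ, H74.ab_card h.comm']
      rw [h6]
  obtain ⟨v1, d1⟩ := hval c1 s1 m1B m11 (fun x => (hc x).1)
  obtain ⟨v2, d2⟩ := hval c2 s2 m2B m21 (fun x => (hc x).2)
  -- value of `c3` at `t`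
  have hv3 : (c3 : G → ℂ) t = -3 * s3 := by
    have hR0 : ∀ l : X, ¬ R l μ → w l c3 = 0 := by
      intro l hR
      by_contra hne
      have h5 := (prod_two (hn l) (hn μ) (hin l μ hR)).1
      have h6 : ({c1, c2, c3} : Finset (IrrCharacter G)) ⊆
          (Finset.univ.filter fun t => w μ t ≠ 0) ∩ (Finset.univ.filter fun t => w l t ≠ 0) := by
        intro χ hχ
        simp only [Finset.mem_insert, Finset.mem_singleton] at hχ
        simp only [Finset.mem_inter, Finset.mem_filter, Finset.mem_univ, true_and]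
        rcases hχ with rfl | rfl | rfl
        · rw [(hc μ).1, (hc l).1]; exact ⟨hs1ne, hs1ne⟩
        · rw [(hc μ).2, (hc l).2]; exact ⟨hs2ne, hs2ne⟩
        · exact ⟨hs3ne, hne⟩
      have h7 := Finset.card_le_card h6
      rw [h5, Finset.card_eq_three.mpr ⟨c1, c2, c3, hc12, h13, h23, rfl⟩] at h7
      omega
    have h1 : ∀ l : IrrCharacter (P : Subgroup G), (a c3 l : ℂ) * (l : ↥(P : Subgroup G) → ℂ) t =
        (a c3 one' : ℂ) * (l : ↥(P : Subgroup G) → ℂ) t +
        if l ∈ ({μ.1, h.tw μ.1, h.tw (h.tw μ.1)} : Finset (IrrCharacter (P : Subgroup G))) then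
          - (s3 : ℂ) * (l : ↥(P : Subgroup G) → ℂ) t else 0 := by
      intro l
      have hmem : l ∈ ({μ.1, h.tw μ.1, h.tw (h.tw μ.1)} : Finset (IrrCharacter (P : Subgroup G))) ↔
        (μ.1 = l ∨ h.tw μ.1 = l ∨ h.tw (h.tw μ.1) = l) := by
        simp only [Finset.mem_insert, Finset.mem_singleton, eq_comm]
      simp only [hmem]
      split_ifs with hl
      · have e1 : a c3 l = a c3 μ.1 := by
          rcases hl with rfl | rfl | rfl
          · rfl
          · rw [hatw]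
          · rw [hatw, hatw]
        have e2 : a c3 μ.1 = a c3 one' - s3 := by linarith [m3e, hs3def]
        rw [e1, e2]; push_cast; ring
      · by_cases hl1 : l = one'
        · rw [hl1, add_zero]
        · have e1 := hR0 ⟨l, hl1⟩ hl
          have e2 : w ⟨l, hl1⟩ c3 = a c3 one' - a c3 l := if_pos ⟨m3B, m31⟩
          rw [e2] at e1
          have e3 : a c3 l = a c3 one' := by linarith
          rw [e3, add_zero]
    rw [ha2 c3 t, Finset.sum_congr rfl fun l _ => h1 l, Finset.sum_add_distrib, ← Finset.mul_sum,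
      h.sum_irr ht1, mul_zero, zero_add, Finset.sum_ite_mem, Finset.univ_inter, Finset.sum_insert,
      Finset.sum_insert, Finset.sum_singleton]
    · have e1 : (μ.1 : ↥(P : Subgroup G) → ℂ) t = 1 := hμ2 t htt
      have e2 : (h.tw μ.1 : ↥(P : Subgroup G) → ℂ) t = 1 := hμ2 (h.sig t) (by rw [← map_mul, htt, map_one])
      have e3 : (h.tw (h.tw μ.1) : ↥(P : Subgroup G) → ℂ) t = 1 :=
        hμ2 (h.sig (h.sig t)) (by rw [← map_mul, ← map_mul, htt, map_one, map_one])
      rw [e1, e2, e3]; ring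
    · simp only [Finset.mem_singleton]
      exact fun h1 => h.tw_ne ((h.tw_eq_one_iff _).not.mpr μ.2) h1.symm
    · simp only [Finset.mem_insert, Finset.mem_singleton, not_or]
      exact ⟨fun h1 => h.tw_ne μ.2 h1.symm, fun h1 => htw2 μ h1.symm⟩
  -- the numbers
  obtain ⟨q, hq⟩ := h16
  obtain ⟨n1, hn1⟩ : ∃ n : ℤ, s1 * (c1 : G → ℂ) 1 = 1 + 16 * (n : ℂ) := by
    refine ⟨s1 * (a c1 one' - s1) * q, ?_⟩
    have e1 : (s1 : ℂ) * s1 = 1 := by exact_mod_cast hs1sq
    rw [d1, hq]; push_cast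
    linear_combination e1
  obtain ⟨n2, hn2⟩ : ∃ n : ℤ, s2 * (c2 : G → ℂ) 1 = 1 + 16 * (n : ℂ) := by
    refine ⟨s2 * (a c2 one' - s2) * q, ?_⟩
    have e1 : (s2 : ℂ) * s2 = 1 := by exact_mod_cast hs2sq
    rw [d2, hq]; push_cast
    linear_combination e1
  have hc1z : (c1 : G → ℂ) 1 ≠ 0 := irr_one_ne_zero c1.2
  have hc2z : (c2 : G → ℂ) 1 ≠ 0 := irr_one_ne_zero c2.2
  have hc3z : (c3 : G → ℂ) 1 ≠ 0 := irr_one_ne_zero c3.2
  have hfin : n1 = 0 ∧ n2 = 0 := by
    apply num_end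
    have g1 : (s1 : ℂ) * s1 = 1 := by exact_mod_cast hs1sq
    have g2 : (s2 : ℂ) * s2 = 1 := by exact_mod_cast hs2sq
    have g3 : (s3 : ℂ) * s3 = 1 := by exact_mod_cast hs3sq
    rw [v1 t ht1, v2 t ht1, hv3, g1, g2] at hE1
    have k1 : (s1 : ℂ) * (1 / (c1 : G → ℂ) 1) = 1 / (s1 * (c1 : G → ℂ) 1) := by
      have : (s1 : ℂ) ≠ 0 := by intro h0; rw [h0, zero_mul] at g1; exact zero_ne_one g1
      field_simp
      linear_combination g1
    have k2 : (s2 : ℂ) * (1 / (c2 : G → ℂ) 1) = 1 / (s2 * (c2 : G → ℂ) 1) := by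
      have : (s2 : ℂ) ≠ 0 := by intro h0; rw [h0, zero_mul] at g2; exact zero_ne_one g2
      field_simp
      linear_combination g2
    have k3 : (s3 : ℂ) * (-3 * s3 * (-3 * s3) / (c3 : G → ℂ) 1) = 9 / (s3 * (c3 : G → ℂ) 1) := by
      have : (s3 : ℂ) ≠ 0 := by intro h0; rw [h0, zero_mul] at g3; exact zero_ne_one g3
      field_simp
      linear_combination 9 * (s3 * s3 + 1) * g3
    rw [k1, k2, k3] at hE1
    have hA : (s1 : ℂ) * (c1 : G → ℂ) 1 ≠ 0 := mul_ne_zero (by exact_mod_cast hs1ne) hc1z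
    have hBB : (s2 : ℂ) * (c2 : G → ℂ) 1 ≠ 0 := mul_ne_zero (by exact_mod_cast hs2ne) hc2z
    have hC : (s3 : ℂ) * (c3 : G → ℂ) 1 ≠ 0 := mul_ne_zero (by exact_mod_cast hs3ne) hc3z
    rw [hn1, hn2] at hE0
    rw [hn1, hn2] at hE1
    rw [hn1] at hA
    rw [hn2] at hBB
    generalize (s3 : ℂ) * (c3 : G → ℂ) 1 = z at hE0 hE1 hC
    have hz : z = -(1 + (1 + 16 * (n1 : ℂ)) + (1 + 16 * (n2 : ℂ))) := by linear_combination hE0
    have hfin : (3 + 16 * ((n1 : ℂ) + n2)) * (1 + 16 * (n1 : ℂ) + (1 + 16 * (n2 : ℂ)) + (1 + 16 * (n1 : ℂ)) * (1 + 16 * (n2 : ℂ))) =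
      9 * ((1 + 16 * (n1 : ℂ)) * (1 + 16 * (n2 : ℂ))) := by
      have e1 : (1 + 16 * (n1 : ℂ)) * (1 + 16 * (n2 : ℂ)) * z + (1 + 16 * (n2 : ℂ)) * z +
          (1 + 16 * (n1 : ℂ)) * z + 9 * ((1 + 16 * (n1 : ℂ)) * (1 + 16 * (n2 : ℂ))) = 0 := by
        have e2 := congrArg (fun y => y * ((1 + 16 * (n1 : ℂ)) * (1 + 16 * (n2 : ℂ)) * z)) hE1
        simp only [zero_mul] at e2
        rw [← e2]
        field_simp
        ring
      rw [hz] at e1
      linear_combination -e1
    exact_mod_cast hfin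
  refine ⟨c1, ?_, m11⟩
  rw [hfin.1, Int.cast_zero, mul_zero, add_zero] at hn1
  rcases hs1 with h1 | h1
  · rw [h1, Int.cast_one, one_mul] at hn1
    exact hn1
  · exfalso
    rw [h1, H75.deg_spec] at hn1
    have : ((-1 * (H75.deg c1 : ℤ) : ℤ) : ℂ) = ((1 : ℤ) : ℂ) := by
      push_cast; push_cast at hn1; exact hn1
    have h2 : (-1 * (H75.deg c1 : ℤ) : ℤ) = 1 := by exact_mod_cast this
    omega

end Hyp

end Cfsg.Agent.H68.HB
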