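import Cfsg.Agent.H69.ZStar
import Cfsg.Agent.H68.HomoBlk4
import Cfsg.Prelude.Def_CaseTheorems

/-!
# Elementary facts on involutions of simple groups
-/

set_option autoImplicit false
set_option linter.unusedSectionVars false
set_option linter.style.haveILetI false

open scoped commutatorElement

namespace Cfsg.Agent.H68.ST

open Cfsg

variable {G : Type*} [Group G] [Finite G]

theorem comm_of_central_elt [IsSimpleGroup G] {z : G} (hz1 : z ≠ 1) (hz : ∀ g : G, z * g = g * z)
    (a b : G) : a * b = b * a := by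
  have h1 : Subgroup.center G = ⊤ := by
    rcases (inferInstance : (Subgroup.center G).Normal).eq_bot_or_eq_top with h | h
    · exfalso
      apply hz1
      have : z ∈ Subgroup.center G := Subgroup.mem_center_iff.mpr fun g => (hz g).symm
      rwa [h, Subgroup.mem_bot] at this
    · exact h
  have h2 : b ∈ Subgroup.center G := by rw [h1]; trivial
  exact Subgroup.mem_center_iff.mp h2 a

/-- a simple nonabelian group has no isolated involution -/
theorem not_isolated [IsSimpleGroup G] (hG : ¬ IsMulCommutative G) (z : G) :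
    ¬ Cfsg.IsIsolatedInvolution z := by
  intro hz
  obtain ⟨N, hN, hodd, hc⟩ := H69.isolated_zstar hz
  have hz1 : z ≠ 1 := by
    intro h
    have := hz.1
    rw [h, orderOf_one] at this
    omega
  rcases hN.eq_bot_or_eq_top with h | h
  · apply hG
    refine ⟨⟨fun a b => comm_of_central_elt hz1 (fun g => ?_) a b⟩⟩
    have h1 := hc g
    rw [h, Subgroup.mem_bot, mul_inv_eq_one, mul_inv_eq_iff_eq_mul] at h1
    exact h1
  · rw [h, Subgroup.card_top] at hodd
    have h1 : 2 ∣ Nat.card G := by rw [← hz.1]; exact orderOf_dvd_natCard z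
    exact (Nat.not_even_iff_odd.mpr hodd) (even_iff_two_dvd.mpr h1)

/-- a simple nonabelian group has no subgroup of index two -/
theorem index_ne_two [IsSimpleGroup G] (hG : ¬ IsMulCommutative G) (H : Subgroup G) :
    H.index ≠ 2 := by
  intro h
  have hn : H.Normal := Subgroup.normal_of_index_eq_two h
  rcases hn.eq_bot_or_eq_top with h1 | h1
  · rw [h1, Subgroup.index_bot] at h
    haveI : Fact (Nat.Prime 2) := ⟨Nat.prime_two⟩
    have : IsCyclic G := isCyclic_of_prime_card h
    apply hG
    refine ⟨⟨fun a b => ?_⟩⟩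
    obtain ⟨c, hc⟩ := this.exists_generator
    obtain ⟨i, rfl⟩ := Subgroup.mem_zpowers_iff.mp (hc a)
    obtain ⟨j, rfl⟩ := Subgroup.mem_zpowers_iff.mp (hc b)
    rw [← zpow_add, ← zpow_add, add_comm]
  · rw [h1, Subgroup.index_top] at h
    omega

omit [Finite G] in
/-- two distinct commuting involutions generate a group of order four -/
theorem exists_four {z t : G} (hz1 : z ≠ 1) (ht1 : t ≠ 1) (hz : z * z = 1) (ht : t * t = 1)
    (hzt : z ≠ t) (hc : z * t = t * z) :
    ∃ A : Subgroup G, IsMulCommutative A ∧ (∀ a ∈ A, a ^ 2 = 1) ∧ Nat.card A = 4 ∧ z ∈ A ∧ t ∈ A := by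
  classical
  have e1 : z * (z * t) = t := by rw [← mul_assoc, hz, one_mul]
  have e2 : t * (z * t) = z := by rw [hc, ← mul_assoc, ht, one_mul]
  have e3 : z * t * z = t := by rw [hc, mul_assoc, hz, mul_one]
  have e4 : z * t * t = z := by rw [mul_assoc, ht, mul_one]
  have e5 : z * t * (z * t) = 1 := by rw [← mul_assoc, e3, ht]
  let A : Subgroup G :=
    { carrier := {1, z, t, z * t}
      one_mem' := by simp
      mul_mem' := by
        rintro a b (rfl | rfl | rfl | rfl) (rfl | rfl | rfl | rfl) <;>
          simp [hz, ht, hc.symm, e1, e2, e3, e4, e5]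
      inv_mem' := by
        rintro a (rfl | rfl | rfl | rfl)
        · simp
        · rw [inv_eq_of_mul_eq_one_left hz]; simp
        · rw [inv_eq_of_mul_eq_one_left ht]; simp
        · rw [inv_eq_of_mul_eq_one_left e5]; simp }
  have hmem : ∀ a, a ∈ A ↔ (a = 1 ∨ a = z ∨ a = t ∨ a = z * t) := fun a => Iff.rfl
  refine ⟨A, ⟨⟨?_⟩⟩, ?_, ?_, ?_, ?_⟩
  · rintro ⟨a, ha⟩ ⟨b, hb⟩
    apply Subtype.ext
    show a * b = b * a
    rcases ha with rfl | rfl | rfl | rfl <;> rcases hb with rfl | rfl | rfl | rfl <;>
      simp [hz, ht, hc.symm, e1, e2, e3, e4, e5]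
  · rintro a (rfl | rfl | rfl | rfl)
    · simp
    · rw [sq, hz]
    · rw [sq, ht]
    · rw [sq, e5]
  · have h1 : Nat.card A = Nat.card (({1, z, t, z * t} : Finset G) : Set G) := by
      apply Nat.card_congr
      apply Equiv.setCongr
      ext a
      rw [Finset.mem_coe]
      simp only [Finset.mem_insert, Finset.mem_singleton]
      exact hmem a
    rw [h1, Nat.card_eq_card_toFinset, Finset.toFinset_coe]
    rw [Finset.card_insert_of_notMem, Finset.card_insert_of_notMem, Finset.card_insert_of_notMem,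
      Finset.card_singleton]
    · simp only [Finset.mem_singleton]
      intro h; exact hz1 (by simpa using h.symm)
    · simp only [Finset.mem_insert, Finset.mem_singleton, not_or]
      exact ⟨hzt, fun h => ht1 (by simpa using h.symm)⟩
    · simp only [Finset.mem_insert, Finset.mem_singleton, not_or]
      refine ⟨Ne.symm hz1, Ne.symm ht1, fun h => hzt ?_⟩
      have h2 : z * (z * t) = z * 1 := by rw [← h]
      rw [e1, mul_one] at h2
      exact h2.symm
  · exact Or.inr (Or.inl rfl)
  · exact Or.inr (Or.inr (Or.inl rfl))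

omit [Finite G] in
/-- in a group of `2`-rank at most one commuting involutions are equal -/
theorem eq_of_rank_one (h : PRankLE 2 1 G) {z t : G} (hz1 : z ≠ 1) (ht1 : t ≠ 1) (hz : z * z = 1)
    (ht : t * t = 1) (hc : z * t = t * z) : z = t := by
  by_contra hzt
  obtain ⟨A, hA, h2, h4, -⟩ := exists_four hz1 ht1 hz ht hzt hc
  have := h A hA h2
  rw [h4] at this
  norm_num at this

/-- a simple nonabelian group of even order has `2`-rank at least two -/
theorem not_rank_one [IsSimpleGroup G] (hG : ¬ IsMulCommutative G) (h2 : 2 ∣ Nat.card G) :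
    ¬ PRankLE 2 1 G := by
  intro h
  haveI : Fact (Nat.Prime 2) := ⟨Nat.prime_two⟩
  obtain ⟨z, hz⟩ := exists_prime_orderOf_dvd_card' 2 h2
  have hzz : z * z = 1 := by rw [← sq, ← hz, pow_orderOf_eq_one]
  have hz1 : z ≠ 1 := by
    intro h1
    rw [h1, orderOf_one] at hz
    omega
  refine not_isolated hG z ⟨hz, fun g hg => ?_⟩
  symm
  apply eq_of_rank_one h hz1 _ hzz _ hg
  · intro h1
    apply hz1
    have : z = g⁻¹ * (g * z * g⁻¹) * g := by group
    rw [this, h1]; group
  · calc g * z * g⁻¹ * (g * z * g⁻¹) = g * (z * z) * g⁻¹ := by group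
      _ = 1 := by rw [hzz]; group

theorem commutator_top [IsSimpleGroup G] (hG : ¬ IsMulCommutative G) : commutator G = ⊤ := by
  rcases (inferInstance : (commutator G).Normal).eq_bot_or_eq_top with h | h
  · exfalso
    apply hG
    refine ⟨⟨fun a b => ?_⟩⟩
    have h1 : ⁅a, b⁆ ∈ commutator G := by
      rw [commutator_def]
      exact Subgroup.commutator_mem_commutator (Subgroup.mem_top a) (Subgroup.mem_top b)
    rw [h, Subgroup.mem_bot, commutatorElement_eq_one_iff_mul_comm] at h1
    exact h1
  · exact h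

/-- **Brauer**: a simple nonabelian group has no homocyclic Sylow `2`-subgroup of rank two and
exponent at least four -/
theorem not_homocyclic [IsSimpleGroup G] (hG : ¬ IsMulCommutative G) (S : Sylow 2 G) {n : ℕ}
    (hn : 2 ≤ n) (e : (S : Subgroup G) ≃* Multiplicative (ZMod (2 ^ n) × ZMod (2 ^ n))) : False := by
  haveI : Fact (Nat.Prime 2) := ⟨Nat.prime_two⟩
  have hcard : Nat.card (S : Subgroup G) = 2 ^ n * 2 ^ n := by
    rw [Nat.card_congr e.toEquiv, Nat.card_congr Multiplicative.toAdd, Nat.card_prod, Nat.card_zmod]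
  have h4 : (4 : ℕ) ∣ 2 ^ n := by
    have := pow_dvd_pow 2 hn
    simpa using this
  have h16 : 16 ∣ Nat.card (S : Subgroup G) := by
    rw [hcard]
    exact mul_dvd_mul h4 h4
  have h2G : 2 ∣ Nat.card G :=
    (Dvd.dvd.trans (by norm_num) h16).trans (Subgroup.card_subgroup_dvd_card _)
  have hne : ∃ a b : G, a * b ≠ b * a := by
    by_contra hcon
    push Not at hcon
    exact hG ⟨⟨hcon⟩⟩
  obtain ⟨g, h⟩ := HB.exists_hyp S (by omega) e (Transfer.not_hasNPC_of_isSimpleGroup hne h2G)
  obtain ⟨χ, h1, h2⟩ := h.exists_linear h16 ⟨e.symm (Multiplicative.ofAdd (1, 0)), by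
    intro h0
    have h3 := congrArg e h0
    rw [map_mul, map_one, MulEquiv.apply_symm_apply] at h3
    have h5 : ((1 : ZMod (2 ^ n)) + 1) = 0 := congrArg (fun x => (Multiplicative.toAdd x).1) h3
    have h6 : ((2 : ℕ) : ZMod (2 ^ n)) = 0 := by
      rw [← h5]; norm_num
    rw [ZMod.natCast_eq_zero_iff] at h6
    have := Nat.le_of_dvd (by norm_num) (h4.trans h6)
    omega⟩
  exact H79.commutator_ne_top_of_linear (CharBase.irr_isCharacter χ) h1
    (fun h3 => h2 (Subtype.ext h3)) (commutator_top hG)

end Cfsg.Agent.H68.ST
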