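import Mathlib

set_option autoImplicit false

/-!
Average number of fixed points of a `p`-group acting irreducibly on an abelian `p'`-group (owner: helper68).
-/

namespace Cfsg.Agent.H68.AvgFix

open scoped BigOperators

section
variable {P V : Type*} [Group P] [CommGroup V]

theorem rho_mul (ρ : P →* Monoid.End V) (a b : P) (v : V) : ρ (a * b) v = ρ a (ρ b v) := by
  rw [map_mul]; rfl

theorem rho_one (ρ : P →* Monoid.End V) (v : V) : ρ 1 v = v := by
  rw [map_one]; rfl

/-- kernel of the action -/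
def ker (ρ : P →* Monoid.End V) : Subgroup P where
  carrier := {g | ∀ v, ρ g v = v}
  mul_mem' := by
    intro a b ha hb v
    rw [rho_mul, hb, ha]
  one_mem' := rho_one ρ
  inv_mem' := by
    intro a ha v
    calc ρ a⁻¹ v = ρ a⁻¹ (ρ a v) := by rw [ha]
      _ = v := by rw [← rho_mul, inv_mul_cancel, rho_one]

theorem ker_normal (ρ : P →* Monoid.End V) : (ker ρ).Normal := by
  constructor
  intro n hn g v
  rw [rho_mul, rho_mul, hn, ← rho_mul, mul_inv_cancel, rho_one]

theorem zpow_fix {ρ : P →* Monoid.End V} {a : P} {v : V} (h : ρ a v = v) (n : ℤ) :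
    ρ (a ^ n) v = v := by
  let S : Subgroup P :=
    { carrier := {g | ρ g v = v}
      mul_mem' := by
        intro a b ha hb
        show ρ (a * b) v = v
        rw [rho_mul, hb, ha]
      one_mem' := rho_one ρ v
      inv_mem' := by
        intro a (ha : ρ a v = v)
        show ρ a⁻¹ v = v
        calc ρ a⁻¹ v = ρ a⁻¹ (ρ a v) := by rw [ha]
          _ = v := by rw [← rho_mul, inv_mul_cancel, rho_one] }
  exact S.zpow_mem (show a ∈ S from h) n

/-- the fixed point subgroup of one element -/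
def fix (ρ : P →* Monoid.End V) (x : P) : Subgroup V where
  carrier := {v | ρ x v = v}
  mul_mem' := by
    intro a b ha hb
    show ρ x (a * b) = a * b
    rw [map_mul, show ρ x a = a from ha, show ρ x b = b from hb]
  one_mem' := map_one (ρ x)
  inv_mem' := by
    intro a (ha : ρ x a = a)
    show ρ x a⁻¹ = a⁻¹
    rw [map_inv, ha]

theorem mem_fix {ρ : P →* Monoid.End V} {x : P} {v : V} : v ∈ fix ρ x ↔ ρ x v = v := Iff.rfl

/-- the geometric sum of a fixed-point-free `p`-element vanishes -/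
theorem norm_eq_one (ρ : P →* Monoid.End V) (p : ℕ) [hp : Fact p.Prime] (z : P)
    (hzp : z ^ p ∈ ker ρ) (hz : ∀ v, ρ z v = v → v = 1) (d : ℤ) (hd : ¬ (p : ℤ) ∣ d) (v : V) :
    ∏ j ∈ Finset.range p, ρ (z ^ (d * (j : ℤ))) v = 1 := by
  set w := ∏ j ∈ Finset.range p, ρ (z ^ (d * (j : ℤ))) v with hw
  have h1 : ρ (z ^ d) w = w := by
    have h2 : ρ (z ^ d) w * v = w * v := by
      have h3 : ρ (z ^ d) w = ∏ j ∈ Finset.range p, ρ (z ^ (d * ((j + 1 : ℕ) : ℤ))) v := by
        rw [hw, map_prod]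
        refine Finset.prod_congr rfl fun j _ => ?_
        rw [← rho_mul, ← zpow_add]
        congr 2
        push_cast; ring_nf
      have h4 : (∏ j ∈ Finset.range p, ρ (z ^ (d * ((j + 1 : ℕ) : ℤ))) v) * ρ (z ^ (d * ((0 : ℕ) : ℤ))) v =
          ∏ j ∈ Finset.range (p + 1), ρ (z ^ (d * (j : ℤ))) v := by
        rw [Finset.prod_range_succ' (fun j => ρ (z ^ (d * (j : ℤ))) v)]
      have h5 : ρ (z ^ (d * ((0 : ℕ) : ℤ))) v = v := by simp [rho_one]
      have h6 : ρ (z ^ (d * (p : ℤ))) v = v := by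
        rw [mul_comm, zpow_mul, zpow_natCast]
        exact (ker ρ).zpow_mem hzp d v
      rw [h5] at h4
      rw [h3, h4, Finset.prod_range_succ, h6]
    exact mul_right_cancel h2
  have h2 : ρ z w = w := by
    have hco : IsCoprime d (p : ℤ) :=
      ((Nat.prime_iff_prime_int.mp hp.out).coprime_iff_not_dvd.mpr hd).symm
    obtain ⟨a, b, hab⟩ := hco
    have h3 : z = (z ^ d) ^ a * (z ^ p) ^ b := by
      rw [← zpow_natCast, ← zpow_mul, ← zpow_mul, ← zpow_add, mul_comm d a, mul_comm (p : ℤ) b, hab,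
        zpow_one]
    have h4 : ρ ((z ^ p) ^ b) w = w := (ker ρ).zpow_mem hzp b w
    calc ρ z w = ρ ((z ^ d) ^ a * (z ^ p) ^ b) w := by rw [← h3]
      _ = ρ ((z ^ d) ^ a) w := by rw [rho_mul, h4]
      _ = w := zpow_fix h1 a
  exact hz w h2

/-- `x ^ j` acts on `C_V(x z^i)` as `z^{-ij}`. -/
theorem pow_act (ρ : P →* Monoid.End V) {x z : P} (hcomm : ∀ v, ρ x (ρ z v) = ρ z (ρ x v)) {i : ℤ} {v : V}
    (hv : ρ (x * z ^ i) v = v) (j : ℕ) : ρ (x ^ j) v = ρ (z ^ (-i * (j : ℤ))) v := by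
  have hc : ∀ n : ℤ, ∀ v, ρ x (ρ (z ^ n) v) = ρ (z ^ n) (ρ x v) := by
    intro n v
    let S : Subgroup P :=
      { carrier := {g | ∀ v, ρ x (ρ g v) = ρ g (ρ x v)}
        mul_mem' := by
          intro a b ha hb v
          rw [rho_mul, ha, hb, ← rho_mul]
        one_mem' := by intro v; rw [rho_one, rho_one]
        inv_mem' := by
          intro a ha v
          calc ρ x (ρ a⁻¹ v) = ρ a⁻¹ (ρ a (ρ x (ρ a⁻¹ v))) := by
                rw [← rho_mul ρ a⁻¹ a, inv_mul_cancel, rho_one]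
            _ = ρ a⁻¹ (ρ x (ρ a (ρ a⁻¹ v))) := by rw [ha]
            _ = ρ a⁻¹ (ρ x v) := by rw [← rho_mul ρ a a⁻¹, mul_inv_cancel, rho_one] }
    exact S.zpow_mem (show z ∈ S from hcomm) n v
  have h1 : ρ x v = ρ (z ^ (-i)) v := by
    have h2 : ρ (z ^ i) (ρ x v) = v := by rw [← hc, ← rho_mul]; exact hv
    calc ρ x v = ρ (z ^ (-i)) (ρ (z ^ i) (ρ x v)) := by
          rw [← rho_mul, ← zpow_add, neg_add_cancel, zpow_zero, rho_one]
      _ = ρ (z ^ (-i)) v := by rw [h2]
  induction j with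
  | zero => simp
  | succ j ih =>
    rw [pow_succ', rho_mul, ih, hc, h1, ← rho_mul, ← zpow_add]
    have : -i * (j : ℤ) + -i = -i * ((j + 1 : ℕ) : ℤ) := by push_cast; ring
    rw [this]

/-- the product of the fixed point subgroups over a coset of a fixed-point-free central element of order `p` -/
theorem prod_card_fix_le [Finite V] (ρ : P →* Monoid.End V) (p : ℕ) [hp : Fact p.Prime] {x z : P}
    (hV : ¬ p ∣ Nat.card V) (hcomm : ∀ v, ρ x (ρ z v) = ρ z (ρ x v))
    (hzp : z ^ p ∈ ker ρ) (hz : ∀ v, ρ z v = v → v = 1) :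
    ∏ i ∈ Finset.range p, Nat.card (fix ρ (x * z ^ i)) ≤ Nat.card V := by
  classical
  let Φ : (∀ i : Fin p, fix ρ (x * z ^ (i : ℕ))) → V := fun v => ∏ i : Fin p, (v i : V)
  have hT : ∀ (v : ∀ i : Fin p, fix ρ (x * z ^ (i : ℕ))) (k : Fin p),
      ∏ j ∈ Finset.range p, ρ (z ^ (((k : ℕ) : ℤ) * (j : ℤ)) * x ^ j) (Φ v) = (v k : V) ^ p := by
    intro v k
    have h1 : ∀ j ∈ Finset.range p, ρ (z ^ (((k : ℕ) : ℤ) * (j : ℤ)) * x ^ j) (Φ v) =
        ∏ i : Fin p, ρ (z ^ ((((k : ℕ) : ℤ) - ((i : ℕ) : ℤ)) * (j : ℤ))) (v i : V) := by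
      intro j _
      rw [map_prod]
      refine Finset.prod_congr rfl fun i _ => ?_
      have h2 : ρ (x * z ^ (((i : ℕ)) : ℤ)) (v i : V) = v i := by
        rw [zpow_natCast]; exact (v i).2
      rw [rho_mul, pow_act ρ hcomm h2, ← rho_mul, ← zpow_add]
      congr 2
      ring_nf
    rw [Finset.prod_congr rfl h1, Finset.prod_comm]
    rw [Finset.prod_eq_single k]
    · simp only [sub_self, zero_mul, zpow_zero, rho_one, Finset.prod_const, Finset.card_range]
    · intro i _ hik
      refine norm_eq_one ρ p z hzp hz _ ?_ _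
      intro hdvd
      apply hik
      have h3 : ((k : ℕ) : ℤ) - ((i : ℕ) : ℤ) = 0 := by
        apply Int.eq_zero_of_abs_lt_dvd hdvd
        rw [abs_lt]
        have hk := k.2
        have hi := i.2
        constructor <;> omega
      apply Fin.ext
      omega
    · intro h
      exact absurd (Finset.mem_univ k) h
  have hinj : Function.Injective Φ := by
    intro v w hvw
    funext k
    apply Subtype.ext
    have h1 := hT v k
    rw [hvw, hT w k] at h1
    have hco : (Nat.card V).Coprime p := ((Nat.Prime.coprime_iff_not_dvd hp.out).mpr hV).symm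
    exact (powCoprime hco).injective h1.symm
  have h1 := Nat.card_le_card_of_injective Φ hinj
  rw [Nat.card_pi] at h1
  rw [Finset.prod_range (fun i => Nat.card (fix ρ (x * z ^ i)))]
  exact h1

end

/-- **Lemma A**: a `p`-group acting irreducibly and nontrivially on an abelian `p'`-group `V`. -/
theorem irr {P V : Type*} [Group P] [Finite P] [Fintype P] [CommGroup V] [Finite V] (p : ℕ) [hp : Fact p.Prime]
    (hP : IsPGroup p P) (hV : ¬ p ∣ Nat.card V) (ρ : P →* Monoid.End V)
    (hirr : ∀ W : Subgroup V, (∀ g, ∀ w ∈ W, ρ g w ∈ W) → W = ⊥ ∨ W = ⊤)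
    (hnt : ∃ g v, ρ g v ≠ v) :
    (∏ x : P, Nat.card (fix ρ x)) ^ p ≤ Nat.card V ^ Nat.card P := by
  classical
  haveI := ker_normal ρ
  -- a central element of order `p` modulo the kernel
  obtain ⟨z, hz1, hz2, hz3⟩ : ∃ z : P, z ∉ ker ρ ∧ z ^ p ∈ ker ρ ∧
      ∀ g : P, g * z * g⁻¹ * z⁻¹ ∈ ker ρ := by
    have hnt2 : Nontrivial (P ⧸ ker ρ) := by
      rw [QuotientGroup.nontrivial_iff]
      intro h
      obtain ⟨g, v, hgv⟩ := hnt
      apply hgv
      have : g ∈ ker ρ := by rw [h]; exact Subgroup.mem_top g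
      exact this v
    have hQ : IsPGroup p (P ⧸ ker ρ) := hP.to_quotient _
    have h1 := hQ.center_nontrivial
    have hZ : IsPGroup p (Subgroup.center (P ⧸ ker ρ)) := hQ.to_subgroup _
    have h2 : p ∣ Nat.card (Subgroup.center (P ⧸ ker ρ)) := by
      obtain ⟨n, hn⟩ := IsPGroup.iff_card.1 hZ
      have h3 : 1 < Nat.card (Subgroup.center (P ⧸ ker ρ)) := Finite.one_lt_card
      rw [hn] at h3 ⊢
      apply dvd_pow_self
      rintro rfl
      simp at h3
    obtain ⟨⟨q, hqc⟩, hq⟩ := exists_prime_orderOf_dvd_card' p h2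
    obtain ⟨z, rfl⟩ := QuotientGroup.mk'_surjective (ker ρ) q
    have hq' : orderOf (QuotientGroup.mk' (ker ρ) z) = p := by
      rw [← hq, ← Subgroup.orderOf_coe]
    refine ⟨z, ?_, ?_, ?_⟩
    · intro h
      have : QuotientGroup.mk' (ker ρ) z = 1 := (QuotientGroup.eq_one_iff z).mpr h
      rw [this, orderOf_one] at hq'
      exact hp.out.one_lt.ne hq'
    · have h3 := pow_orderOf_eq_one (QuotientGroup.mk' (ker ρ) z)
      rw [hq', ← map_pow] at h3
      exact (QuotientGroup.eq_one_iff _).mp h3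
    · intro g
      rw [Subgroup.mem_center_iff] at hqc
      have h3 := hqc (QuotientGroup.mk' (ker ρ) g)
      apply (QuotientGroup.eq_one_iff _).mp
      show QuotientGroup.mk' (ker ρ) (g * z * g⁻¹ * z⁻¹) = 1
      rw [map_mul, map_mul, map_mul, map_inv, map_inv, h3]
      group
  have hcomm : ∀ g v, ρ g (ρ z v) = ρ z (ρ g v) := by
    intro g v
    have h1 := hz3 g (ρ z (ρ g v))
    rw [← rho_mul, ← rho_mul] at h1
    have h2 : g * z * g⁻¹ * z⁻¹ * z * g = g * z := by group
    rw [h2, rho_mul] at h1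
    exact h1
  -- `z` has no fixed points
  have hzf : ∀ v, ρ z v = v → v = 1 := by
    rcases hirr (fix ρ z) (by
      intro g w hw
      show ρ z (ρ g w) = ρ g w
      rw [← hcomm, show ρ z w = w from hw]) with h | h
    · intro v hv
      have : v ∈ fix ρ z := hv
      rw [h] at this
      exact Subgroup.mem_bot.mp this
    · exfalso
      apply hz1
      intro v
      have : v ∈ fix ρ z := by rw [h]; exact Subgroup.mem_top v
      exact this
  -- count
  have h1 : ∀ i : ℕ, ∏ x : P, Nat.card (fix ρ (x * z ^ i)) = ∏ x : P, Nat.card (fix ρ x) := by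
    intro i
    exact Fintype.prod_equiv (Equiv.mulRight (z ^ i)) _ _ (fun x => rfl)
  calc (∏ x : P, Nat.card (fix ρ x)) ^ p = ∏ i ∈ Finset.range p, ∏ x : P, Nat.card (fix ρ (x * z ^ i)) := by
        rw [Finset.prod_congr rfl (fun i _ => h1 i), Finset.prod_const, Finset.card_range]
    _ = ∏ x : P, ∏ i ∈ Finset.range p, Nat.card (fix ρ (x * z ^ i)) := Finset.prod_comm
    _ ≤ ∏ _x : P, Nat.card V := Finset.prod_le_prod' fun x _ =>
        prod_card_fix_le ρ p hV (hcomm x) hz2 hzf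
    _ = Nat.card V ^ Nat.card P := by
        rw [Finset.prod_const, Finset.card_univ, Nat.card_eq_fintype_card (α := P)]

end Cfsg.Agent.H68.AvgFix
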