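import Cfsg.Agent.H68.AvgFixA
import Cfsg.Agent.Cop.Basic

set_option autoImplicit false

/-!
Average number of fixed points of a `p`-group acting on a `p'`-group, ambient form (owner: helper68).
-/

namespace Cfsg.Agent.H68.AvgFix

open scoped BigOperators Pointwise
open Subgroup

section
variable {G : Type*} [Group G] [Finite G]

theorem relIndex_mul_card {U K : Subgroup G} (h : U ≤ K) : U.relIndex K * Nat.card U = Nat.card K := by
  have h1 := Subgroup.relIndex_mul_relIndex ⊥ U K bot_le h
  rw [relIndex_bot_left, relIndex_bot_left, mul_comm] at h1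
  exact h1

theorem sec_card {Q K U : Subgroup G} (hQK : Q ≤ normalizer (K : Set G))
    (hcop : (Nat.card Q).Coprime (Nat.card K)) (hs : Group.IsSolvable Q)
    (hUK : U ≤ K) (hKU : K ≤ normalizer (U : Set G)) (hQU : Q ≤ normalizer (U : Set G))
    (htriv : ∀ a ∈ Q, ∀ k ∈ K, a * k * a⁻¹ * k⁻¹ ∈ U) :
    Nat.card ↥(K ⊓ centralizer (Q : Set G)) * Nat.card U =
      Nat.card K * Nat.card ↥(U ⊓ centralizer (Q : Set G)) := by
  have h1 : (K ⊓ centralizer (Q : Set G)) ⊔ U = K := by
    apply le_antisymm (sup_le inf_le_left hUK)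
    intro k hk
    obtain ⟨c, hc, hc'⟩ := Cop.fixed_points_quotient Q K hQK hcop (Or.inl hs) U hUK hKU hQU k hk
      (fun a ha => htriv a ha k hk)
    have h2 : k = c * (k⁻¹ * c)⁻¹ := by group
    rw [h2]
    exact mul_mem (Subgroup.mem_sup_left hc) (Subgroup.mem_sup_right (inv_mem hc'))
  have h2 : U.relIndex ((K ⊓ centralizer (Q : Set G)) ⊔ U) = U.relIndex (K ⊓ centralizer (Q : Set G)) :=
    Cop.relIndex_sup_eq (inf_le_left.trans hKU)
  rw [h1] at h2
  have h3 : U ⊓ (K ⊓ centralizer (Q : Set G)) = U ⊓ centralizer (Q : Set G) := by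
    rw [← inf_assoc, inf_eq_left.mpr hUK]
  have h4 : (U ⊓ (K ⊓ centralizer (Q : Set G))).relIndex (K ⊓ centralizer (Q : Set G)) *
      Nat.card ↥(U ⊓ (K ⊓ centralizer (Q : Set G))) = Nat.card ↥(K ⊓ centralizer (Q : Set G)) :=
    relIndex_mul_card inf_le_right
  rw [inf_relIndex_right, h3] at h4
  have h5 := relIndex_mul_card hUK
  rw [← h4, ← h5, h2]
  ring

/-- the left hand side -/
noncomputable def lhs {P : Type*} [Group P] [Fintype P] (θ : P →* G) (p : ℕ) (K : Subgroup G) : ℕ :=
  (∏ x : P, Nat.card ↥(K ⊓ centralizer {θ x})) ^ p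

/-- the right hand side -/
noncomputable def rhs {P : Type*} [Group P] [Fintype P] (θ : P →* G) (p : ℕ) (K : Subgroup G) : ℕ :=
  Nat.card K ^ Nat.card P * Nat.card ↥(K ⊓ centralizer (θ.range : Set G)) ^ ((p - 1) * Nat.card P)

theorem range_isPGroup {P : Type*} [Group P] {p : ℕ} (hP : IsPGroup p P) (θ : P →* G) :
    IsPGroup p θ.range := by
  rintro ⟨y, x, rfl⟩
  obtain ⟨k, hk⟩ := hP x
  exact ⟨k, Subtype.ext (by show θ x ^ p ^ k = 1; rw [← map_pow, hk, map_one])⟩

theorem coprime_of_isPGroup {p : ℕ} [hp : Fact p.Prime] {Q K : Subgroup G} (hQ : IsPGroup p Q)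
    (hK : ¬ p ∣ Nat.card K) : (Nat.card Q).Coprime (Nat.card K) := by
  obtain ⟨n, hn⟩ := IsPGroup.iff_card.1 hQ
  rw [hn]
  exact Nat.Coprime.pow_left _ ((Nat.Prime.coprime_iff_not_dvd hp.out).mpr hK)

theorem isSolvable_of_isPGroup {p : ℕ} [hp : Fact p.Prime] {Q : Subgroup G} (hQ : IsPGroup p Q) :
    Group.IsSolvable Q := by
  haveI : Group.IsNilpotent Q := hQ.isNilpotent
  infer_instance

/-- conjugation action on a section -/
noncomputable def secEnd {K U : Subgroup G} {g : G} [(U.subgroupOf K).Normal]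
    (hK : g ∈ normalizer (K : Set G)) (hU : g ∈ normalizer (U : Set G)) :
    (K ⧸ U.subgroupOf K) →* (K ⧸ U.subgroupOf K) :=
  QuotientGroup.map _ _
    { toFun := fun k => ⟨g * k * g⁻¹, (mem_normalizer_iff.1 hK (k : G)).1 k.2⟩
      map_one' := Subtype.ext (by simp)
      map_mul' := fun a b => Subtype.ext (by
        show g * (a * b : G) * g⁻¹ = g * a * g⁻¹ * (g * b * g⁻¹)
        group) }
    (by
      intro k hk
      rw [mem_comap, mem_subgroupOf]
      exact (mem_normalizer_iff.1 hU (k : G)).1 hk)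

theorem secEnd_mk {K U : Subgroup G} {g : G} [(U.subgroupOf K).Normal]
    (hK : g ∈ normalizer (K : Set G)) (hU : g ∈ normalizer (U : Set G)) (k : K) :
    secEnd hK hU (QuotientGroup.mk k) =
      QuotientGroup.mk (⟨g * k * g⁻¹, (mem_normalizer_iff.1 hK (k : G)).1 k.2⟩ : K) := rfl

end

section
variable {G : Type*} [Group G] [Finite G]

theorem section_irr {P : Type*} [Group P] [Finite P] [Fintype P] (p : ℕ) [hp : Fact p.Prime]
    (hP : IsPGroup p P) (θ : P →* G) {K U : Subgroup G} (hUK : U ≤ K)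
    (hKn : ∀ g, θ g ∈ normalizer (K : Set G)) (hUn : ∀ g, θ g ∈ normalizer (U : Set G))
    (hKU : K ≤ normalizer (U : Set G)) (hab : ∀ a ∈ K, ∀ b ∈ K, a * b * a⁻¹ * b⁻¹ ∈ U)
    (hK : ¬ p ∣ Nat.card K)
    (hirr : ∀ X : Subgroup G, U ≤ X → X ≤ K → (∀ g, θ g ∈ normalizer (X : Set G)) → X = U ∨ X = K) :
    lhs θ p K * rhs θ p U ≤ lhs θ p U * rhs θ p K := by
  classical
  have hrK : θ.range ≤ normalizer (K : Set G) := by rintro _ ⟨g, rfl⟩; exact hKn g
  have hrU : θ.range ≤ normalizer (U : Set G) := by rintro _ ⟨g, rfl⟩; exact hUn g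
  have hrP : IsPGroup p θ.range := range_isPGroup hP θ
  haveI hUnorm : (U.subgroupOf K).Normal := by
    constructor
    intro x hx y
    rw [mem_subgroupOf] at hx ⊢
    exact (mem_normalizer_iff.1 (hKU y.2) (x : G)).1 hx
  by_cases htriv : ∀ g, ∀ k ∈ K, θ g * k * (θ g)⁻¹ * k⁻¹ ∈ U
  · -- trivial action: equality
    have h1 : ∀ Q : Subgroup G, Q ≤ θ.range →
        Nat.card ↥(K ⊓ centralizer (Q : Set G)) * Nat.card U =
          Nat.card K * Nat.card ↥(U ⊓ centralizer (Q : Set G)) := by
      intro Q hQ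
      have hQp : IsPGroup p Q := hrP.to_le hQ
      refine sec_card (hQ.trans hrK) (coprime_of_isPGroup hQp hK) (isSolvable_of_isPGroup hQp) hUK hKU
        (hQ.trans hrU) ?_
      intro a ha k hk
      obtain ⟨g, rfl⟩ := hQ ha
      exact htriv g k hk
    have h2 : ∀ x : P, Nat.card ↥(K ⊓ centralizer {θ x}) * Nat.card U =
        Nat.card K * Nat.card ↥(U ⊓ centralizer {θ x}) := by
      intro x
      have h3 := h1 (zpowers (θ x)) (by rw [zpowers_le]; exact ⟨x, rfl⟩)
      have h4 : centralizer ((zpowers (θ x) : Subgroup G) : Set G) = centralizer {θ x} := by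
        rw [zpowers_eq_closure, centralizer_closure]
      rwa [h4] at h3
    have h3 := h1 θ.range le_rfl
    apply le_of_eq
    have h5 : (∏ x : P, Nat.card ↥(K ⊓ centralizer {θ x})) * Nat.card U ^ Nat.card P =
        Nat.card K ^ Nat.card P * ∏ x : P, Nat.card ↥(U ⊓ centralizer {θ x}) := by
      have h6 : Nat.card U ^ Nat.card P = ∏ _x : P, Nat.card U := by
        rw [Finset.prod_const, Finset.card_univ, Nat.card_eq_fintype_card (α := P)]
      have h7 : Nat.card K ^ Nat.card P = ∏ _x : P, Nat.card K := by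
        rw [Finset.prod_const, Finset.card_univ, Nat.card_eq_fintype_card (α := P)]
      rw [h6, h7, ← Finset.prod_mul_distrib, ← Finset.prod_mul_distrib]
      exact Finset.prod_congr rfl fun x _ => h2 x
    -- a_K |U|^{p m} = |K|^{p m} a_U
    have h8 : lhs θ p K * (Nat.card U ^ Nat.card P) ^ p = (Nat.card K ^ Nat.card P) ^ p * lhs θ p U := by
      unfold lhs
      rw [← mul_pow, h5, mul_pow]
    have h9 : (Nat.card ↥(K ⊓ centralizer (θ.range : Set G))) ^ ((p - 1) * Nat.card P) *
        Nat.card U ^ ((p - 1) * Nat.card P) = Nat.card K ^ ((p - 1) * Nat.card P) *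
          (Nat.card ↥(U ⊓ centralizer (θ.range : Set G))) ^ ((p - 1) * Nat.card P) := by
      rw [← mul_pow, h3, mul_pow]
    have hp1 : p = (p - 1) + 1 := (Nat.succ_pred_eq_of_pos hp.out.pos).symm
    have hUpos : 0 < Nat.card U ^ ((p - 1) * Nat.card P) := pow_pos Nat.card_pos _
    have h10 : (Nat.card U ^ Nat.card P) ^ p =
        Nat.card U ^ ((p - 1) * Nat.card P) * Nat.card U ^ Nat.card P := by
      conv_lhs => rw [hp1, pow_succ, ← pow_mul, mul_comm (Nat.card P)]
    have h11 : (Nat.card K ^ Nat.card P) ^ p =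
        Nat.card K ^ ((p - 1) * Nat.card P) * Nat.card K ^ Nat.card P := by
      conv_lhs => rw [hp1, pow_succ, ← pow_mul, mul_comm (Nat.card P)]
    rw [h10, h11] at h8
    apply Nat.eq_of_mul_eq_mul_right hUpos
    unfold rhs
    calc lhs θ p K * (Nat.card U ^ Nat.card P *
          Nat.card ↥(U ⊓ centralizer (θ.range : Set G)) ^ ((p - 1) * Nat.card P)) *
          Nat.card U ^ ((p - 1) * Nat.card P)
        = (lhs θ p K * (Nat.card U ^ ((p - 1) * Nat.card P) * Nat.card U ^ Nat.card P)) *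
          Nat.card ↥(U ⊓ centralizer (θ.range : Set G)) ^ ((p - 1) * Nat.card P) := by ring
      _ = (Nat.card K ^ ((p - 1) * Nat.card P) * Nat.card K ^ Nat.card P * lhs θ p U) *
          Nat.card ↥(U ⊓ centralizer (θ.range : Set G)) ^ ((p - 1) * Nat.card P) := by rw [h8]
      _ = lhs θ p U * (Nat.card K ^ Nat.card P * (Nat.card K ^ ((p - 1) * Nat.card P) *
          Nat.card ↥(U ⊓ centralizer (θ.range : Set G)) ^ ((p - 1) * Nat.card P))) := by ring
      _ = lhs θ p U * (Nat.card K ^ Nat.card P * (Nat.card ↥(K ⊓ centralizer (θ.range : Set G)) ^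
          ((p - 1) * Nat.card P) * Nat.card U ^ ((p - 1) * Nat.card P))) := by rw [h9]
      _ = _ := by ring
  · -- nontrivial action
    push Not at htriv
    obtain ⟨g0, k0, hk0, hgk0⟩ := htriv
    letI : CommGroup (K ⧸ U.subgroupOf K) :=
      { (inferInstance : Group (K ⧸ U.subgroupOf K)) with
        mul_comm := by
          intro a b
          induction a using QuotientGroup.induction_on with
          | H a =>
          induction b using QuotientGroup.induction_on with
          | H b =>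
          rw [← QuotientGroup.mk_mul, ← QuotientGroup.mk_mul, QuotientGroup.eq, mem_subgroupOf]
          have h := hab (b : G)⁻¹ (inv_mem b.2) (a : G)⁻¹ (inv_mem a.2)
          have h2 : (b : G)⁻¹ * (a : G)⁻¹ * (b : G)⁻¹⁻¹ * (a : G)⁻¹⁻¹ = ((a * b)⁻¹ * (b * a) : K) := by
            push_cast; group
          rwa [h2] at h }
    let ρ : P →* Monoid.End (K ⧸ U.subgroupOf K) :=
      { toFun := fun g => secEnd (hKn g) (hUn g)
        map_one' := by
          apply MonoidHom.ext
          intro v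
          induction v using QuotientGroup.induction_on with
          | H k =>
          rw [secEnd_mk]
          show _ = (QuotientGroup.mk k : K ⧸ U.subgroupOf K)
          congr 1
          apply Subtype.ext
          simp
        map_mul' := by
          intro a b
          apply MonoidHom.ext
          intro v
          induction v using QuotientGroup.induction_on with
          | H k =>
          show _ = secEnd (hKn a) (hUn a) (secEnd (hKn b) (hUn b) (QuotientGroup.mk k))
          rw [secEnd_mk, secEnd_mk, secEnd_mk]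
          congr 1
          apply Subtype.ext
          show θ (a * b) * (k : G) * (θ (a * b))⁻¹ = θ a * (θ b * k * (θ b)⁻¹) * (θ a)⁻¹
          rw [map_mul]; group }
    have hρ : ∀ g (k : K), ρ g (QuotientGroup.mk k) =
      QuotientGroup.mk (⟨θ g * k * (θ g)⁻¹, (mem_normalizer_iff.1 (hKn g) (k : G)).1 k.2⟩ : K) :=
        fun g k => rfl
    have hmk : ∀ a b : K, (QuotientGroup.mk a : K ⧸ U.subgroupOf K) = QuotientGroup.mk b ↔
        (a : G) * (b : G)⁻¹ ∈ U := by
      intro a b
      rw [eq_comm, QuotientGroup.eq, mem_subgroupOf]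
      constructor
      · intro h
        have h1 := (mem_normalizer_iff.1 (hKU b.2) _).1 h
        have h2 : (b : G) * ((b⁻¹ * a : K) : G) * (b : G)⁻¹ = (a : G) * (b : G)⁻¹ := by push_cast; group
        rwa [h2] at h1
      · intro h
        have h1 := (mem_normalizer_iff.1 (inv_mem (hKU b.2)) _).1 h
        have h2 : (b : G)⁻¹ * ((a : G) * (b : G)⁻¹) * (b : G)⁻¹⁻¹ = ((b⁻¹ * a : K) : G) := by
          push_cast; group
        rwa [h2] at h1
    have hcardV : Nat.card (K ⧸ U.subgroupOf K) * Nat.card U = Nat.card K := by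
      rw [← relIndex_mul_card hUK]; rfl
    have hVp : ¬ p ∣ Nat.card (K ⧸ U.subgroupOf K) := fun h => hK (hcardV ▸ h.mul_right _)
    have hA := irr p hP hVp ρ (by
      intro W hW
      -- the preimage
      let X : Subgroup G := (W.comap (QuotientGroup.mk' (U.subgroupOf K))).map K.subtype
      have hX : ∀ y : G, y ∈ X ↔ ∃ h : y ∈ K, (QuotientGroup.mk (⟨y, h⟩ : K) : K ⧸ U.subgroupOf K) ∈ W := by
        intro y
        constructor
        · rintro ⟨k, hk, rfl⟩
          exact ⟨k.2, hk⟩
        · rintro ⟨h, h'⟩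
          exact ⟨⟨y, h⟩, h', rfl⟩
      have hXn : ∀ g, θ g ∈ normalizer (X : Set G) := by
        have hX1 : ∀ g y, y ∈ X → θ g * y * (θ g)⁻¹ ∈ X := by
          intro g y hy
          obtain ⟨hy1, hy2⟩ := (hX y).mp hy
          exact (hX _).mpr ⟨_, hW g _ hy2⟩
        intro g
        rw [mem_normalizer_iff]
        intro y
        refine ⟨hX1 g y, fun h => ?_⟩
        have h2 := hX1 g⁻¹ _ h
        have h3 : θ g⁻¹ * (θ g * y * (θ g)⁻¹) * (θ g⁻¹)⁻¹ = y := by rw [map_inv]; group
        rwa [h3] at h2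
      have hUX : U ≤ X := by
        intro u hu
        refine (hX u).mpr ⟨hUK hu, ?_⟩
        have : (QuotientGroup.mk (⟨u, hUK hu⟩ : K) : K ⧸ U.subgroupOf K) = 1 :=
          (QuotientGroup.eq_one_iff _).mpr hu
        rw [this]; exact W.one_mem
      have hXK : X ≤ K := fun y hy => ((hX y).mp hy).1
      rcases hirr X hUX hXK hXn with h | h
      · left
        rw [eq_bot_iff]
        intro w hw
        induction w using QuotientGroup.induction_on with
        | H k =>
        have h1 : (k : G) ∈ X := (hX _).mpr ⟨k.2, hw⟩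
        rw [h] at h1
        exact Subgroup.mem_bot.mpr ((QuotientGroup.eq_one_iff k).mpr h1)
      · right
        rw [eq_top_iff]
        intro w _
        induction w using QuotientGroup.induction_on with
        | H k =>
        have h1 : (k : G) ∈ X := by rw [h]; exact k.2
        exact ((hX _).mp h1).2)
      ⟨g0, QuotientGroup.mk ⟨k0, hk0⟩, by
        rw [hρ, Ne, hmk]
        exact hgk0⟩
    -- `C_K(P) ≤ U`
    have hCU : K ⊓ centralizer (θ.range : Set G) ≤ U := by
      let X : Subgroup G :=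
        { carrier := {k | k ∈ K ∧ ∀ g, θ g * k * (θ g)⁻¹ * k⁻¹ ∈ U}
          one_mem' := ⟨K.one_mem, fun g => by simp⟩
          mul_mem' := by
            rintro a b ⟨ha, ha'⟩ ⟨hb, hb'⟩
            refine ⟨K.mul_mem ha hb, fun g => ?_⟩
            have h1 : θ g * (a * b) * (θ g)⁻¹ * (a * b)⁻¹ =
              (θ g * a * (θ g)⁻¹ * a⁻¹) * (a * (θ g * b * (θ g)⁻¹ * b⁻¹) * a⁻¹) := by group
            rw [h1]
            exact U.mul_mem (ha' g) ((mem_normalizer_iff.1 (hKU ha) _).1 (hb' g))
          inv_mem' := by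
            rintro a ⟨ha, ha'⟩
            refine ⟨K.inv_mem ha, fun g => ?_⟩
            have h1 : θ g * a⁻¹ * (θ g)⁻¹ * a⁻¹⁻¹ = a⁻¹ * (θ g * a * (θ g)⁻¹ * a⁻¹)⁻¹ * a⁻¹⁻¹ := by group
            rw [h1]
            exact (mem_normalizer_iff.1 (inv_mem (hKU ha)) _).1 (inv_mem (ha' g)) }
      have hXn : ∀ g, θ g ∈ normalizer (X : Set G) := by
        have hX1 : ∀ g y, y ∈ X → θ g * y * (θ g)⁻¹ ∈ X := by
          rintro g y ⟨hy1, hy2⟩
          refine ⟨(mem_normalizer_iff.1 (hKn g) y).1 hy1, fun h => ?_⟩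
          have h1 : θ h * (θ g * y * (θ g)⁻¹) * (θ h)⁻¹ * (θ g * y * (θ g)⁻¹)⁻¹ =
              (θ (h * g) * y * (θ (h * g))⁻¹ * y⁻¹) * (θ g * y * (θ g)⁻¹ * y⁻¹)⁻¹ := by
            rw [map_mul]; group
          rw [h1]
          exact U.mul_mem (hy2 (h * g)) (U.inv_mem (hy2 g))
        intro g
        rw [mem_normalizer_iff]
        intro y
        refine ⟨hX1 g y, fun h => ?_⟩
        have h2 := hX1 g⁻¹ _ h
        have h3 : θ g⁻¹ * (θ g * y * (θ g)⁻¹) * (θ g⁻¹)⁻¹ = y := by rw [map_inv]; group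
        rwa [h3] at h2
      have hUX : U ≤ X := by
        intro u hu
        exact ⟨hUK hu, fun g => U.mul_mem ((mem_normalizer_iff.1 (hUn g) u).1 hu) (U.inv_mem hu)⟩
      have hXK : X ≤ K := fun y hy => hy.1
      rcases hirr X hUX hXK hXn with h | h
      · rw [← h]
        rintro k ⟨hk, hk'⟩
        refine ⟨hk, fun g => ?_⟩
        have h1 := (mem_centralizer_iff.1 hk') (θ g) ⟨g, rfl⟩
        rw [h1]
        simp
      · exfalso
        apply hgk0
        have h1 : k0 ∈ X := by rw [h]; exact hk0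
        exact h1.2 g0
    have hCeq : K ⊓ centralizer (θ.range : Set G) = U ⊓ centralizer (θ.range : Set G) :=
      le_antisymm (le_inf hCU inf_le_right) (inf_le_inf_right _ hUK)
    -- `|C_K(x)| ≤ |C_U(x)| |C_V(x)|`
    have hx : ∀ x : P, Nat.card ↥(K ⊓ centralizer {θ x}) ≤
        Nat.card (fix ρ x) * Nat.card ↥(U ⊓ centralizer {θ x}) := by
      intro x
      have h3 : U ⊓ (K ⊓ centralizer {θ x}) = U ⊓ centralizer {θ x} := by
        rw [← inf_assoc, inf_eq_left.mpr hUK]
      have h4 : (U ⊓ (K ⊓ centralizer {θ x})).relIndex (K ⊓ centralizer {θ x}) *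
          Nat.card ↥(U ⊓ (K ⊓ centralizer {θ x})) = Nat.card ↥(K ⊓ centralizer {θ x}) :=
        relIndex_mul_card inf_le_right
      rw [inf_relIndex_right, h3] at h4
      rw [← h4]
      apply Nat.mul_le_mul_right
      let f : (↥(K ⊓ centralizer {θ x}) ⧸ (U.subgroupOf (K ⊓ centralizer {θ x}))) → fix ρ x :=
        Quotient.lift (fun k => (⟨QuotientGroup.mk (⟨k, k.2.1⟩ : K), by
          show ρ x (QuotientGroup.mk (⟨k, k.2.1⟩ : K)) = QuotientGroup.mk (⟨k, k.2.1⟩ : K)
          rw [hρ, hmk]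
          have h1 := mem_centralizer_singleton_iff.mp k.2.2
          show θ x * (k : G) * (θ x)⁻¹ * (k : G)⁻¹ ∈ U
          rw [← h1]; simp⟩ : fix ρ x)) (by
          intro a b hab'
          apply Subtype.ext
          have h1 : (a : G)⁻¹ * (b : G) ∈ U := by
            have := QuotientGroup.leftRel_apply.mp hab'
            exact this
          show (QuotientGroup.mk (⟨a, a.2.1⟩ : K) : K ⧸ U.subgroupOf K) = QuotientGroup.mk (⟨b, b.2.1⟩ : K)
          rw [QuotientGroup.eq, mem_subgroupOf]
          exact h1)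
      have hf : Function.Injective f := by
        intro a b hab'
        induction a using QuotientGroup.induction_on with
        | H a =>
        induction b using QuotientGroup.induction_on with
        | H b =>
        have h1 : (QuotientGroup.mk (⟨a, a.2.1⟩ : K) : K ⧸ U.subgroupOf K) =
          QuotientGroup.mk (⟨b, b.2.1⟩ : K) := congrArg Subtype.val hab'
        rw [QuotientGroup.eq, mem_subgroupOf] at h1
        rw [QuotientGroup.eq, mem_subgroupOf]
        exact h1
      exact Nat.card_le_card_of_injective f hf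
    unfold lhs rhs
    rw [hCeq]
    have h20 : (∏ x : P, Nat.card ↥(K ⊓ centralizer {θ x})) ^ p ≤
        Nat.card (K ⧸ U.subgroupOf K) ^ Nat.card P * (∏ x : P, Nat.card ↥(U ⊓ centralizer {θ x})) ^ p := by
      calc (∏ x : P, Nat.card ↥(K ⊓ centralizer {θ x})) ^ p
          ≤ (∏ x : P, (Nat.card (fix ρ x) * Nat.card ↥(U ⊓ centralizer {θ x}))) ^ p :=
            Nat.pow_le_pow_left (Finset.prod_le_prod' fun x _ => hx x) _
        _ = (∏ x : P, Nat.card (fix ρ x)) ^ p * (∏ x : P, Nat.card ↥(U ⊓ centralizer {θ x})) ^ p := by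
            rw [Finset.prod_mul_distrib, mul_pow]
        _ ≤ _ := Nat.mul_le_mul_right _ hA
    calc (∏ x : P, Nat.card ↥(K ⊓ centralizer {θ x})) ^ p * (Nat.card U ^ Nat.card P *
          Nat.card ↥(U ⊓ centralizer (θ.range : Set G)) ^ ((p - 1) * Nat.card P))
        ≤ (Nat.card (K ⧸ U.subgroupOf K) ^ Nat.card P * (∏ x : P, Nat.card ↥(U ⊓ centralizer {θ x})) ^ p) *
          (Nat.card U ^ Nat.card P *
          Nat.card ↥(U ⊓ centralizer (θ.range : Set G)) ^ ((p - 1) * Nat.card P)) :=
          Nat.mul_le_mul_right _ h20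
      _ = (∏ x : P, Nat.card ↥(U ⊓ centralizer {θ x})) ^ p *
          ((Nat.card (K ⧸ U.subgroupOf K) * Nat.card U) ^ Nat.card P *
          Nat.card ↥(U ⊓ centralizer (θ.range : Set G)) ^ ((p - 1) * Nat.card P)) := by
          rw [mul_pow]; ring
      _ = _ := by rw [hcardV]

end

end Cfsg.Agent.H68.AvgFix
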