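import Cfsg.Agent.H68.AvgFixB

set_option autoImplicit false

/-!
The product of the fixed point numbers of a `p`-group acting on a `p'`-group (owner: helper68).
-/

namespace Cfsg.Agent.H68.AvgFix

open scoped BigOperators Pointwise commutatorElement
open Subgroup

variable {G : Type*} [Group G] [Finite G]

theorem normalizer_le_normalizer_commutator (K : Subgroup G) {g : G} (hg : g ∈ normalizer (K : Set G)) :
    g ∈ normalizer ((⁅K, K⁆ : Subgroup G) : Set G) := by
  apply Cop.mem_normalizer_of_conj_smul_eq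
  have h1 := Cop.conj_smul_eq_of_mem_normalizer hg
  have h2 : (⁅K, K⁆ : Subgroup G).map (MulAut.conj g).toMonoidHom =
      ⁅K.map (MulAut.conj g).toMonoidHom, K.map (MulAut.conj g).toMonoidHom⁆ :=
    Subgroup.map_commutator _ _ _
  have h3 : K.map (MulAut.conj g).toMonoidHom = K := h1
  rw [h3] at h2
  exact h2

theorem rhs_pos {P : Type*} [Group P] [Fintype P] (θ : P →* G) (p : ℕ) (K : Subgroup G) :
    0 < rhs θ p K := by
  unfold rhs
  exact Nat.mul_pos (pow_pos Nat.card_pos _) (pow_pos Nat.card_pos _)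

/-- an abelian-by-smaller reduction for `r`-groups -/
theorem good_of_isPGroup {P : Type*} [Group P] [Finite P] [Fintype P] (p : ℕ) [hp : Fact p.Prime]
    (hP : IsPGroup p P) (θ : P →* G) (r : ℕ) [hr : Fact r.Prime] :
    ∀ (n : ℕ) (K : Subgroup G), Nat.card K = n → IsPGroup r K → (∀ g, θ g ∈ normalizer (K : Set G)) →
      ¬ p ∣ Nat.card K → lhs θ p K ≤ rhs θ p K := by
  intro n
  induction n using Nat.strong_induction_on with
  | _ n ih =>
  intro K hcard hKr hKn hKp
  by_cases hbot : K = ⊥
  · subst hbot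
    have h1 : ∀ H : Subgroup G, Nat.card ↥((⊥ : Subgroup G) ⊓ H) = 1 := by
      intro H; rw [bot_inf_eq]; exact Subgroup.card_bot
    unfold lhs rhs
    simp only [h1, Subgroup.card_bot, one_pow, Finset.prod_const_one, mul_one, le_refl]
  · -- a maximal invariant proper normal subgroup
    obtain ⟨U, -, hU⟩ := (Set.toFinite {U : Subgroup G | U < K ∧ K ≤ normalizer (U : Set G) ∧
      ∀ g, θ g ∈ normalizer (U : Set G)}).exists_le_maximal
        (show (⊥ : Subgroup G) ∈ {U : Subgroup G | U < K ∧ K ≤ normalizer (U : Set G) ∧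
          ∀ g, θ g ∈ normalizer (U : Set G)} by
            refine ⟨bot_lt_iff_ne_bot.mpr hbot, ?_, ?_⟩
            · rw [normalizer_eq_top_iff.mpr (inferInstance : (⊥ : Subgroup G).Normal)]; exact le_top
            · intro g
              rw [normalizer_eq_top_iff.mpr (inferInstance : (⊥ : Subgroup G).Normal)]; exact mem_top _)
    obtain ⟨hUK, hKU, hUn⟩ := hU.prop
    haveI hUnorm : (U.subgroupOf K).Normal := by
      constructor
      intro x hx y
      rw [mem_subgroupOf] at hx ⊢
      exact (mem_normalizer_iff.1 (hKU y.2) (x : G)).1 hx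
    -- the commutator subgroup
    have hDK : ⁅K, K⁆ ⊔ U ≤ K := sup_le (Subgroup.commutator_le_self K) hUK.le
    have hDne : ⁅K, K⁆ ⊔ U ≠ K := by
      intro hD
      have hnt : Nontrivial (K ⧸ U.subgroupOf K) := by
        rw [QuotientGroup.nontrivial_iff]
        intro h
        rw [subgroupOf_eq_top] at h
        exact hUK.not_ge h
      have hQr : IsPGroup r (K ⧸ U.subgroupOf K) := hKr.to_quotient _
      haveI : Group.IsNilpotent (K ⧸ U.subgroupOf K) := hQr.isNilpotent
      have hlt := Group.IsSolvable.commutator_lt_top_of_nontrivial (K ⧸ U.subgroupOf K)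
      apply hlt.ne
      rw [eq_top_iff]
      intro q _
      induction q using QuotientGroup.induction_on with
      | H k =>
      have htop : commutator K ⊔ U.subgroupOf K = ⊤ := by
        apply Subgroup.map_injective K.subtype_injective
        rw [Subgroup.map_sup, map_subtype_commutator, Subgroup.subgroupOf_map_subtype,
          inf_eq_left.mpr hUK.le, hD, ← MonoidHom.range_eq_map, Subgroup.range_subtype]
      obtain ⟨c', hc', u, hu, hcu⟩ := Subgroup.mem_sup_of_normal_left.mp
        (show k ∈ commutator K ⊔ U.subgroupOf K by rw [htop]; exact mem_top k)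
      have h10 : (QuotientGroup.mk k : K ⧸ U.subgroupOf K) = QuotientGroup.mk c' := by
        symm
        rw [QuotientGroup.eq, mem_subgroupOf]
        have : c'⁻¹ * k = u := by rw [← hcu]; group
        rw [this]; exact hu
      rw [h10]
      have h11 : (commutator K).map (QuotientGroup.mk' (U.subgroupOf K)) =
        commutator (K ⧸ U.subgroupOf K) := by
        rw [_root_.commutator_def, _root_.commutator_def, Subgroup.map_commutator,
          Subgroup.map_top_of_surjective _ (QuotientGroup.mk'_surjective _)]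
      rw [← h11]
      exact ⟨c', hc', rfl⟩
    have hDn' : ∀ g, g ∈ normalizer (K : Set G) → g ∈ normalizer (U : Set G) →
        g ∈ normalizer ((⁅K, K⁆ ⊔ U : Subgroup G) : Set G) := by
      intro g h1 h2
      apply Cop.mem_normalizer_of_conj_smul_eq
      rw [Subgroup.smul_sup, Cop.conj_smul_eq_of_mem_normalizer h2,
        Cop.conj_smul_eq_of_mem_normalizer (normalizer_le_normalizer_commutator K h1)]
    have hDeq : ⁅K, K⁆ ⊔ U = U :=
      (hU.eq_of_le (y := ⁅K, K⁆ ⊔ U) ⟨lt_of_le_of_ne hDK hDne,
        fun k hk => hDn' k (le_normalizer hk) (hKU hk), fun g => hDn' _ (hKn g) (hUn g)⟩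
        le_sup_right).symm
    have hab : ∀ a ∈ K, ∀ b ∈ K, a * b * a⁻¹ * b⁻¹ ∈ U := by
      intro a ha b hb
      rw [← hDeq]
      exact mem_sup_left (commutator_mem_commutator ha hb)
    have hirr : ∀ X : Subgroup G, U ≤ X → X ≤ K → (∀ g, θ g ∈ normalizer (X : Set G)) → X = U ∨ X = K := by
      intro X hUX hXK hXn
      by_cases h : X = K
      · exact Or.inr h
      · left
        refine (hU.eq_of_le (y := X) ⟨lt_of_le_of_ne hXK h, ?_, hXn⟩ hUX).symm
        intro k hk
        have h1 : ∀ k ∈ K, ∀ x ∈ X, k * x * k⁻¹ ∈ X := by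
          intro k hk x hx
          have h2 : k * x * k⁻¹ = (k * x * k⁻¹ * x⁻¹) * x := by group
          rw [h2]
          exact X.mul_mem (hUX (hab k hk x (hXK hx))) hx
        rw [mem_normalizer_iff]
        intro x
        refine ⟨h1 k hk x, fun h3 => ?_⟩
        have h4 := h1 k⁻¹ (inv_mem hk) _ h3
        have h5 : k⁻¹ * (k * x * k⁻¹) * k⁻¹⁻¹ = x := by group
        rwa [h5] at h4
    have h1 := section_irr p hP θ hUK.le hKn hUn hKU hab hKp hirr
    have hlt : Nat.card U < n := by
      rw [← hcard]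
      by_contra hcon
      exact hUK.ne (Subgroup.eq_of_le_of_card_ge hUK.le (not_lt.mp hcon))
    have h2 := ih _ hlt U rfl (hKr.to_le hUK.le) hUn
      (fun h => hKp (h.trans (Subgroup.card_dvd_of_le hUK.le)))
    have h3 : lhs θ p K * rhs θ p U ≤ rhs θ p K * rhs θ p U :=
      h1.trans (by rw [mul_comm]; exact Nat.mul_le_mul_left _ h2)
    exact Nat.le_of_mul_le_mul_right h3 (rhs_pos θ p U)

/-- the invariant Sylow subgroups carry the fixed points -/
theorem sylow_fix {Q K : Subgroup G} (hQK : Q ≤ normalizer (K : Set G))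
    (hcop : (Nat.card Q).Coprime (Nat.card K)) (hs : Group.IsSolvable Q) (r : ℕ) [hr : Fact r.Prime]
    (R : Sylow r K) (hR : Q ≤ normalizer ((R : Subgroup K).map K.subtype : Set G)) :
    Nat.card ↥((R : Subgroup K).map K.subtype ⊓ centralizer (Q : Set G)) =
      r ^ (Nat.card ↥(K ⊓ centralizer (Q : Set G))).factorization r := by
  set C := K ⊓ centralizer (Q : Set G) with hC
  set R' := (R : Subgroup K).map K.subtype with hR'
  have hR'K : R' ≤ K := map_subtype_le _
  have hR'r : IsPGroup r R' := R.isPGroup'.map K.subtype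
  have hle : R' ⊓ centralizer (Q : Set G) ≤ C := inf_le_inf_right _ hR'K
  -- upper bound
  have h1 : Nat.card ↥(R' ⊓ centralizer (Q : Set G)) ∣ r ^ (Nat.card C).factorization r := by
    obtain ⟨n, hn⟩ := IsPGroup.iff_card.1 (hR'r.to_le (inf_le_left : R' ⊓ centralizer (Q : Set G) ≤ R'))
    have h2 : Nat.card ↥(R' ⊓ centralizer (Q : Set G)) ∣ Nat.card C := Subgroup.card_dvd_of_le hle
    rw [hn] at h2 ⊢
    exact pow_dvd_pow _ ((hr.out.pow_dvd_iff_le_factorization Nat.card_pos.ne').mp h2)
  -- lower bound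
  let T : Sylow r C := default
  let T' : Subgroup G := (T : Subgroup C).map C.subtype
  have hT'C : T' ≤ C := map_subtype_le _
  have hT'r : IsPGroup r T' := T.isPGroup'.map C.subtype
  have hT'Q : Q ≤ normalizer (T' : Set G) := by
    intro q hq
    rw [mem_normalizer_iff]
    have h2 : ∀ t ∈ T', q * t * q⁻¹ = t := by
      intro t ht
      have h3 := (mem_centralizer_iff.1 (hT'C ht).2) q hq
      rw [h3]; group
    intro t
    constructor
    · intro ht; rw [h2 t ht]; exact ht
    · intro ht
      have h3 : q * (q * t * q⁻¹) * q⁻¹ = q * t * q⁻¹ := h2 _ ht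
      have h4 : q * t * q⁻¹ = t := by
        have h5 := congrArg (fun y => q⁻¹ * y * q) h3
        simpa [mul_assoc] using h5
      rwa [h4] at ht
  obtain ⟨R2, hR2, hR2Q⟩ := Cop.exists_invariant_sylow_ge hQK hcop (Or.inl hs) r
    (hT'C.trans inf_le_left) hT'r hT'Q
  obtain ⟨c, hc, hcR⟩ := Cop.exists_centralizer_conj_sylow hQK hcop (Or.inl hs) r R2 R hR2Q hR
  have h3 : MulAut.conj (c : G) • T' ≤ R' ⊓ centralizer (Q : Set G) := by
    refine le_inf ?_ ?_
    · have h4 : R' = MulAut.conj (c : G) • (R2 : Subgroup K).map K.subtype := by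
        rw [hR', ← hcR, ← Cop.map_smul_sylow]
        rfl
      rw [h4]
      exact Subgroup.pointwise_smul_le_pointwise_smul_iff.mpr hR2
    · intro y hy
      rw [Subgroup.mem_pointwise_smul_iff_inv_smul_mem] at hy
      have h5 : (c : G)⁻¹ * y * c ∈ centralizer (Q : Set G) := by
        have h6 := (hT'C hy).2
        have h7 : (MulAut.conj (c : G))⁻¹ • y = (c : G)⁻¹ * y * c := by
          rw [← map_inv, MulAut.smul_def, MulAut.conj_apply, inv_inv]
        rwa [h7] at h6
      have h8 : y = c * ((c : G)⁻¹ * y * c) * (c : G)⁻¹ := by group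
      rw [h8]
      exact mul_mem (mul_mem hc h5) (inv_mem hc)
  have h4 : Nat.card T' = r ^ (Nat.card C).factorization r := by
    rw [Cop.card_map_subtype, Sylow.card_eq_multiplicity]
  have h5 : Nat.card ↥(MulAut.conj (c : G) • T') = Nat.card T' := by
    exact (Nat.card_congr (Subgroup.equivSMul (MulAut.conj (c : G)) T').toEquiv).symm
  have h6 : Nat.card T' ∣ Nat.card ↥(R' ⊓ centralizer (Q : Set G)) := by
    rw [← h5]; exact Subgroup.card_dvd_of_le h3
  rw [h4] at h6
  exact Nat.dvd_antisymm h1 h6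

/-- a divisor of `n` is the product of its prime power parts over the primes dividing `n` -/
theorem prod_factorization {m n : ℕ} (hn : n ≠ 0) (h : m ∣ n) :
    ∏ r ∈ n.primeFactors, r ^ m.factorization r = m := by
  have hm : m ≠ 0 := fun h0 => hn (by rw [h0] at h; exact Nat.eq_zero_of_zero_dvd h)
  have h1 : ∏ r ∈ m.primeFactors, r ^ m.factorization r = m := Nat.prod_factorization_pow_eq_self hm
  conv_rhs => rw [← h1]
  symm
  apply Finset.prod_subset (Nat.primeFactors_mono h hn)
  intro r _ hr
  rw [← Nat.support_factorization, Finsupp.notMem_support_iff] at hr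
  rw [hr, pow_zero]

/-- **Theorem**: a `p`-group acting on a `p'`-group. -/
theorem good {P : Type*} [Group P] [Finite P] [Fintype P] (p : ℕ) [hp : Fact p.Prime]
    (hP : IsPGroup p P) (θ : P →* G) (K : Subgroup G) (hKn : ∀ g, θ g ∈ normalizer (K : Set G))
    (hKp : ¬ p ∣ Nat.card K) : lhs θ p K ≤ rhs θ p K := by
  classical
  have hrK : θ.range ≤ normalizer (K : Set G) := by rintro _ ⟨g, rfl⟩; exact hKn g
  have hrP : IsPGroup p θ.range := range_isPGroup hP θ
  have hex : ∀ r : ℕ, ∃ R : Subgroup G, r ∈ (Nat.card K).primeFactors →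
      (IsPGroup r R ∧ R ≤ K ∧ (∀ g, θ g ∈ normalizer (R : Set G)) ∧
        ∀ Q : Subgroup G, Q ≤ θ.range → Nat.card ↥(R ⊓ centralizer (Q : Set G)) =
          r ^ (Nat.card ↥(K ⊓ centralizer (Q : Set G))).factorization r) := by
    intro r
    by_cases hr : r ∈ (Nat.card K).primeFactors
    · haveI : Fact r.Prime := ⟨Nat.prime_of_mem_primeFactors hr⟩
      obtain ⟨R, hR⟩ := Cop.exists_invariant_sylow hrK (coprime_of_isPGroup hrP hKp)
        (Or.inl (isSolvable_of_isPGroup hrP)) r
      refine ⟨(R : Subgroup K).map K.subtype, fun _ => ⟨R.isPGroup'.map K.subtype, map_subtype_le _,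
        fun g => hR ⟨g, rfl⟩, ?_⟩⟩
      intro Q hQ
      have hQp : IsPGroup p Q := hrP.to_le hQ
      exact sylow_fix (hQ.trans hrK) (coprime_of_isPGroup hQp hKp) (isSolvable_of_isPGroup hQp) r R
        (hQ.trans hR)
    · exact ⟨⊥, fun h => absurd h hr⟩
  choose R hR using hex
  have hcK : Nat.card K ≠ 0 := Nat.card_pos.ne'
  have hprod : ∀ Q : Subgroup G, Q ≤ θ.range →
      ∏ r ∈ (Nat.card K).primeFactors, Nat.card ↥(R r ⊓ centralizer (Q : Set G)) =
        Nat.card ↥(K ⊓ centralizer (Q : Set G)) := by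
    intro Q hQ
    rw [Finset.prod_congr rfl fun r hr => (hR r hr).2.2.2 Q hQ]
    exact prod_factorization hcK (Subgroup.card_dvd_of_le inf_le_left)
  have h1 : lhs θ p K = ∏ r ∈ (Nat.card K).primeFactors, lhs θ p (R r) := by
    unfold lhs
    rw [Finset.prod_pow, Finset.prod_comm]
    congr 1
    refine Finset.prod_congr rfl fun x _ => ?_
    have h3 := hprod (zpowers (θ x)) (by rw [zpowers_le]; exact ⟨x, rfl⟩)
    have h4 : centralizer ((zpowers (θ x) : Subgroup G) : Set G) = centralizer {θ x} := by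
      rw [zpowers_eq_closure, centralizer_closure]
    rw [h4] at h3
    exact h3.symm
  have h2 : rhs θ p K = ∏ r ∈ (Nat.card K).primeFactors, rhs θ p (R r) := by
    unfold rhs
    rw [Finset.prod_mul_distrib, Finset.prod_pow, Finset.prod_pow, hprod θ.range le_rfl]
    congr 2
    have h3 := hprod ⊥ bot_le
    have h4 : ∀ H : Subgroup G, H ⊓ centralizer (((⊥ : Subgroup G) : Set G)) = H := by
      intro H
      rw [inf_eq_left]
      intro x _
      rw [mem_centralizer_iff]
      intro y hy
      rw [Subgroup.coe_bot, Set.mem_singleton_iff] at hy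
      rw [hy]; simp
    simp only [h4] at h3
    exact h3.symm
  rw [h1, h2]
  apply Finset.prod_le_prod'
  intro r hr
  haveI : Fact r.Prime := ⟨Nat.prime_of_mem_primeFactors hr⟩
  obtain ⟨ha, hb, hc, -⟩ := hR r hr
  exact good_of_isPGroup p hP θ r _ (R r) rfl ha hc (fun h => hKp (h.trans (Subgroup.card_dvd_of_le hb)))

end Cfsg.Agent.H68.AvgFix
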