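import Mathlib.Tactic
import Mathlib.GroupTheory.SpecificGroups.Cyclic
import Mathlib.GroupTheory.OrderOfElement
import Mathlib.Algebra.IsPrimePow
import Mathlib.GroupTheory.PGroup
import Mathlib.Algebra.Group.Subgroup.Pointwise

set_option autoImplicit false

namespace Cfsg.Agent.H68

open Subgroup

/-- In a finite cyclic group, an element whose order divides that of `y` is a power of `y`. -/
theorem mem_zpowers_of_orderOf_dvd {C : Type*} [Group C] [Finite C] [IsCyclic C] {x y : C}
    (h : orderOf x ∣ orderOf y) : x ∈ zpowers y := by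
  classical
  have := Fintype.ofFinite C
  have h1 : (Finset.univ.filter fun a : C => a ^ orderOf y = 1).card ≤ orderOf y :=
    IsCyclic.card_pow_eq_one_le (orderOf_pos y)
  have h2 : ((zpowers y : Set C).toFinset) ⊆ (Finset.univ.filter fun a : C => a ^ orderOf y = 1) := by
    intro a ha
    simp only [Set.mem_toFinset, SetLike.mem_coe] at ha
    simp only [Finset.mem_filter, Finset.mem_univ, true_and]
    exact orderOf_dvd_iff_pow_eq_one.1 (orderOf_dvd_of_mem_zpowers ha)
  have h3 : ((zpowers y : Set C).toFinset).card = orderOf y := by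
    rw [Set.toFinset_card, ← Nat.card_eq_fintype_card]
    exact Nat.card_zpowers y
  have h4 := Finset.eq_of_subset_of_card_le h2 (by rw [h3]; exact h1)
  have h5 : x ∈ (Finset.univ.filter fun a : C => a ^ orderOf y = 1) := by
    simp only [Finset.mem_filter, Finset.mem_univ, true_and]
    exact orderOf_dvd_iff_pow_eq_one.1 h
  rw [← h4] at h5
  simpa using h5

/-- Inside the cyclic subgroup generated by `z`, an element whose order divides that of `y` is a power of `y`. -/
theorem mem_zpowers_of_orderOf_dvd' {G : Type*} [Group G] [Finite G] {x y z : G}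
    (hx : x ∈ zpowers z) (hy : y ∈ zpowers z)
    (h : orderOf x ∣ orderOf y) : x ∈ zpowers y := by
  have h' : orderOf (⟨x, hx⟩ : zpowers z) ∣ orderOf (⟨y, hy⟩ : zpowers z) := by
    rw [Subgroup.orderOf_mk, Subgroup.orderOf_mk]
    exact h
  have := mem_zpowers_of_orderOf_dvd h'
  obtain ⟨k, hk⟩ := Subgroup.mem_zpowers_iff.1 this
  refine Subgroup.mem_zpowers_iff.2 ⟨k, ?_⟩
  have := congrArg Subtype.val hk
  simpa using this

/-- If two powers of `x` with coprime exponents lie in `K` then `x` does. -/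
theorem mem_of_pow_mem_of_coprime {G : Type*} [Group G] {K : Subgroup G} {x : G} {a b : ℕ}
    (ha : x ^ a ∈ K) (hb : x ^ b ∈ K) (h : Nat.Coprime a b) : x ∈ K := by
  have h1 : (x ^ a) ^ (Nat.gcdA a b) * (x ^ b) ^ (Nat.gcdB a b) = x := by
    rw [← zpow_natCast, ← zpow_natCast, ← zpow_mul, ← zpow_mul, ← zpow_add,
      ← Nat.gcd_eq_gcd_ab, Nat.Coprime.gcd_eq_one h]
    simp
  rw [← h1]
  exact mul_mem (zpow_mem ha _) (zpow_mem hb _)

/-- A `p`-element lies in every normal subgroup of index prime to `p`. -/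
theorem mem_of_pPow_eq_one_of_coprime_index {G : Type*} [Group G] {K : Subgroup G} [K.Normal] {x : G}
    {p k : ℕ} (hp : p.Prime) (hx : x ^ p ^ k = 1) (h : ¬ p ∣ K.index) : x ∈ K := by
  refine mem_of_pow_mem_of_coprime (a := p ^ k) (b := K.index) (hx ▸ one_mem _) ?_ ?_
  · exact K.pow_index_mem x
  · exact Nat.Coprime.pow_left _ ((Nat.Prime.coprime_iff_not_dvd hp).2 h)

/-- If `k` acts fixed-point-freely on the normal subgroup `N`, then every element of `kN` is conjugate to
`k` by an element of `N`. -/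
theorem exists_conj_of_fpf {G : Type*} [Group G] {N : Subgroup G} [N.Normal] [Finite N] {k : G}
    (hfpf : ∀ u ∈ N, k * u = u * k → u = 1) {m : G} (hm : m ∈ N) : ∃ u ∈ N, u * k * u⁻¹ = k * m := by
  let f : N → N := fun u => ⟨k⁻¹ * u * k * (u : G)⁻¹, by
    refine mul_mem ?_ (inv_mem u.2)
    simpa using ‹N.Normal›.conj_mem u u.2 k⁻¹⟩
  have hf : Function.Injective f := by
    intro u v huv
    have h1 : k⁻¹ * u * k * (u : G)⁻¹ = k⁻¹ * v * k * (v : G)⁻¹ := congrArg Subtype.val huv
    have h2 : ((v : G)⁻¹ * u) = 1 := by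
      apply hfpf _ (mul_mem (inv_mem v.2) u.2)
      have h3 : (u : G) * k * (u : G)⁻¹ = v * k * (v : G)⁻¹ := by
        have := congrArg (fun t => k * t) h1
        simpa [mul_assoc] using this
      calc k * ((v : G)⁻¹ * u) = (v : G)⁻¹ * (v * k * (v : G)⁻¹) * u := by group
        _ = (v : G)⁻¹ * ((u : G) * k * (u : G)⁻¹) * u := by rw [h3]
        _ = (v : G)⁻¹ * u * k := by group
    ext
    exact (inv_mul_eq_one.1 h2).symm
  have hsurj : Function.Surjective f := Finite.surjective_of_injective hf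
  obtain ⟨u, hu⟩ := hsurj ⟨m, hm⟩
  have hu' : k⁻¹ * u * k * (u : G)⁻¹ = m := congrArg Subtype.val hu
  exact ⟨u, u.2, by rw [← hu']; group⟩

/-- If `x ∉ N` then some power of `x` of prime-power order is not in `N`. -/
theorem exists_pow_notMem_orderOf_prime_pow {G : Type*} [Group G] [Finite G] (N : Subgroup G) :
    ∀ (n : ℕ) (x : G), orderOf x = n → x ∉ N →
      ∃ m : ℕ, x ^ m ∉ N ∧ ∃ p k : ℕ, p.Prime ∧ 0 < k ∧ orderOf (x ^ m) = p ^ k := by
  intro n
  induction n using Nat.strong_induction_on with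
  | _ n ih =>
    intro x hxn hxN
    have h1 : orderOf x ≠ 1 := by
      intro h
      apply hxN
      rw [orderOf_eq_one_iff.1 h]
      exact one_mem _
    obtain ⟨p, hp, hpd⟩ := Nat.exists_prime_and_dvd h1
    obtain ⟨k, m, hpm, hkm⟩ := Nat.exists_eq_pow_mul_and_not_dvd (orderOf_pos x).ne' p hp.ne_one
    have hk : k ≠ 0 := by
      rintro rfl
      rw [pow_zero, one_mul] at hkm
      exact hpm (hkm ▸ hpd)
    have hm0 : m ≠ 0 := by
      rintro rfl
      rw [mul_zero] at hkm
      exact (orderOf_pos x).ne' hkm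
    have hpk0 : p ^ k ≠ 0 := pow_ne_zero _ hp.ne_zero
    have hcop : Nat.Coprime (p ^ k) m := Nat.Coprime.pow_left _ ((Nat.Prime.coprime_iff_not_dvd hp).2 hpm)
    have ho1 : orderOf (x ^ m) = p ^ k := by
      rw [orderOf_pow_of_dvd hm0 (by rw [hkm]; exact dvd_mul_left _ _), hkm,
        Nat.mul_div_cancel _ (Nat.pos_of_ne_zero hm0)]
    have ho2 : orderOf (x ^ (p ^ k)) = m := by
      rw [orderOf_pow_of_dvd hpk0 (by rw [hkm]; exact dvd_mul_right _ _), hkm,
        Nat.mul_div_cancel_left _ (Nat.pos_of_ne_zero hpk0)]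
    by_cases hxm : x ^ m ∈ N
    · have hx2 : x ^ (p ^ k) ∉ N := fun h => hxN (mem_of_pow_mem_of_coprime h hxm hcop)
      have hlt : m < n := by
        rw [← hxn, hkm]
        have : 1 < p ^ k := Nat.one_lt_pow hk hp.one_lt
        nlinarith [Nat.pos_of_ne_zero hm0]
      obtain ⟨l, hl, q, j, hq, hj, hqj⟩ := ih m hlt _ ho2 hx2
      exact ⟨p ^ k * l, by rwa [pow_mul], q, j, hq, hj, by rwa [pow_mul]⟩
    · exact ⟨m, hxm, p, k, hp, Nat.pos_of_ne_zero hk, ho1⟩

open scoped Pointwise in
theorem mem_conj_smul_iff {G : Type*} [Group G] {K : Subgroup G} {g x : G} :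
    x ∈ MulAut.conj g • K ↔ g⁻¹ * x * g ∈ K := by
  rw [Subgroup.mem_pointwise_smul_iff_inv_smul_mem, ← map_inv, MulAut.smul_def, MulAut.conj_apply]
  simp

end Cfsg.Agent.H68
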