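import Mathlib
import Cfsg.Agent.H68.Basic
import Cfsg.Agent.S0144

set_option autoImplicit false

namespace Cfsg.Agent.H68.FO

open Subgroup
open scoped Pointwise

/-- all nonidentity elements have prime order -/
def PO (G : Type*) [Group G] : Prop := ∀ g : G, g ≠ 1 → (orderOf g).Prime

theorem orderOf_eq_of_commute {G : Type*} [Group G] (h : PO G) {x y : G} (hx : x ≠ 1) (hy : y ≠ 1)
    (hxy : Commute x y) : orderOf x = orderOf y := by
  by_contra hne
  have hx' := h x hx
  have hy' := h y hy
  have hcop : (orderOf x).Coprime (orderOf y) := (Nat.coprime_primes hx' hy').2 hne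
  have h1 := hxy.orderOf_mul_eq_mul_orderOf_of_coprime hcop
  have h2 : x * y ≠ 1 := by
    intro h0
    rw [h0, orderOf_one] at h1
    exact hx'.one_lt.ne' (Nat.dvd_one.1 ⟨_, h1⟩)
  have h3 := h _ h2
  rw [h1] at h3
  exact Nat.not_prime_mul hx'.one_lt.ne' hy'.one_lt.ne' h3

/-- centralizers of elements of order `ℓ` are Sylow subgroups -/
def CS (ℓ : ℕ) (G : Type*) [Group G] : Prop :=
  ∀ x : G, orderOf x = ℓ → ∃ S : Sylow ℓ G, centralizer {x} = (S : Subgroup G)

theorem isPGroup_centralizer {G : Type*} [Group G] (h : PO G) {x : G} {ℓ : ℕ} (hℓ : ℓ.Prime)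
    (hx : orderOf x = ℓ) : IsPGroup ℓ (centralizer ({x} : Set G)) := by
  have hx1 : x ≠ 1 := by
    rintro rfl
    rw [orderOf_one] at hx
    exact hℓ.one_lt.ne hx
  rintro ⟨y, hy⟩
  refine ⟨1, ?_⟩
  by_cases hy1 : y = 1
  · subst hy1
    ext; simp
  · have h1 : orderOf x = orderOf y := orderOf_eq_of_commute h hx1 hy1 (mem_centralizer_singleton_iff.1 hy).symm
    ext
    simp only [pow_one, SubmonoidClass.mk_pow, OneMemClass.coe_one]
    rw [← hx, h1, pow_orderOf_eq_one]

theorem orderOf_of_mem {G : Type*} [Group G] (h : PO G) {ℓ : ℕ} [hℓ : Fact ℓ.Prime] {S : Subgroup G}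
    (hS : IsPGroup ℓ S) {y : G} (hy : y ∈ S) (hy1 : y ≠ 1) : orderOf y = ℓ := by
  obtain ⟨k, hk⟩ := (IsPGroup.iff_orderOf.1 hS) ⟨y, hy⟩
  rw [Subgroup.orderOf_mk] at hk
  have h1 := h y hy1
  rw [hk] at h1 ⊢
  rw [Nat.Prime.eq_one_of_pow h1, pow_one]

theorem centralizer_eq_of_central {G : Type*} [Group G] (h : PO G) {ℓ : ℕ} [hℓ : Fact ℓ.Prime]
    (S : Sylow ℓ G) {z : G} (hz : z ∈ S) (hz1 : z ≠ 1) (hc : ∀ y ∈ S, y * z = z * y) :
    centralizer ({z} : Set G) = (S : Subgroup G) := by
  apply S.is_maximal' (isPGroup_centralizer h hℓ.out (orderOf_of_mem h S.isPGroup' hz hz1))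
  intro y hy
  rw [mem_centralizer_singleton_iff]
  exact hc y hy

theorem cs_of_aut {G : Type*} [Group G] [Finite G] (h : PO G)
    (hA : ∀ x y : G, orderOf x = orderOf y → ∃ α : MulAut G, α x = y) (ℓ : ℕ) [hℓ : Fact ℓ.Prime] : CS ℓ G := by
  intro x hx
  let S : Sylow ℓ G := default
  have hdvd : ℓ ∣ Nat.card G := hx ▸ orderOf_dvd_natCard x
  have hSnt : Nontrivial S := by
    rw [← Finite.one_lt_card_iff_nontrivial]
    have h1 : ℓ ∣ Nat.card S := S.dvd_card_of_dvd_card hdvd
    exact lt_of_lt_of_le hℓ.out.one_lt (Nat.le_of_dvd Nat.card_pos h1)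
  have hc : Nontrivial (center S) := S.isPGroup'.center_nontrivial
  obtain ⟨z, hz⟩ := exists_ne (1 : center S)
  have hz1 : ((z : S) : G) ≠ 1 := by
    intro h0
    apply hz
    ext; exact h0
  have h2 : centralizer ({((z : S) : G)} : Set G) = (S : Subgroup G) := by
    apply centralizer_eq_of_central h S (z : S).2 hz1
    intro y hy
    have := Subgroup.mem_center_iff.1 z.2 ⟨y, hy⟩
    exact congrArg Subtype.val this
  obtain ⟨α, hα⟩ := hA ((z : S) : G) x (by
    rw [hx]; exact orderOf_of_mem h S.isPGroup' (z : S).2 hz1)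
  have h3 : Nat.card (centralizer ({x} : Set G)) = Nat.card S := by
    have h4 : Nat.card (centralizer ({((z : S) : G)} : Set G)) = Nat.card (centralizer ({x} : Set G)) := by
      refine Nat.card_congr (α.toEquiv.subtypeEquiv ?_)
      intro a
      rw [mem_centralizer_singleton_iff, mem_centralizer_singleton_iff, ← hα]
      simp only [MulEquiv.toEquiv_eq_coe, EquivLike.coe_coe]
      rw [← map_mul, ← map_mul]
      exact α.injective.eq_iff.symm
    rw [← h4, h2]
  refine ⟨Sylow.ofCard (centralizer ({x} : Set G)) ?_, ?_⟩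
  · rw [h3, S.card_eq_multiplicity]
  · rfl

theorem card_ne_one {Z : Type*} [Group Z] [Finite Z] : Nat.card {z : Z // z ≠ 1} = Nat.card Z - 1 := by
  classical
  have h := Nat.card_congr (Equiv.optionSubtypeNe (1 : Z))
  rw [Finite.card_option] at h
  omega

theorem count_order {G : Type*} [Group G] [Finite G] (h : PO G) (ℓ : ℕ) [hℓ : Fact ℓ.Prime] (hcs : CS ℓ G)
    (L : Sylow ℓ G) :
    Nat.card {x : G // orderOf x = ℓ} = Nat.card (Sylow ℓ G) * (Nat.card (center L) - 1) := by
  classical
  have := Fintype.ofFinite (Sylow ℓ G)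
  have hz1 : ∀ (S : Sylow ℓ G) (z : {z : center S // z ≠ 1}), ((z.1 : S) : G) ≠ 1 := by
    intro S z h0
    apply z.2
    ext; exact h0
  have hcen : ∀ (S : Sylow ℓ G) (z : {z : center S // z ≠ 1}),
      centralizer ({((z.1 : S) : G)} : Set G) = (S : Subgroup G) := by
    intro S z
    apply centralizer_eq_of_central h S (z.1 : S).2 (hz1 S z)
    intro y hy
    exact congrArg Subtype.val (Subgroup.mem_center_iff.1 z.1.2 ⟨y, hy⟩)
  let f : (Σ S : Sylow ℓ G, {z : center S // z ≠ 1}) → {x : G // orderOf x = ℓ} :=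
    fun a => ⟨((a.2.1 : a.1) : G), orderOf_of_mem h a.1.isPGroup' (a.2.1 : a.1).2 (hz1 a.1 a.2)⟩
  have hf : Function.Bijective f := by
    constructor
    · rintro ⟨S, z⟩ ⟨S', z'⟩ hzz
      have h0 : ((z.1 : S) : G) = ((z'.1 : S') : G) := congrArg Subtype.val hzz
      have h1 : S = S' := by
        apply Sylow.ext
        rw [← hcen S z, ← hcen S' z', h0]
      subst h1
      have : z = z' := by
        ext; exact h0
      rw [this]
    · rintro ⟨x, hx⟩
      obtain ⟨S, hS⟩ := hcs x hx
      have hxS : x ∈ S := by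
        show x ∈ (S : Subgroup G)
        rw [← hS, mem_centralizer_singleton_iff]
      have hxc : (⟨x, hxS⟩ : (S : Subgroup G)) ∈ center (S : Subgroup G) := by
        refine Subgroup.mem_center_iff.2 ?_
        rintro ⟨y, hy⟩
        have h1 : y ∈ centralizer ({x} : Set G) := by rw [hS]; exact hy
        ext
        exact mem_centralizer_singleton_iff.1 h1
      refine ⟨⟨S, ⟨⟨⟨x, hxS⟩, hxc⟩, ?_⟩⟩, rfl⟩
      intro h0
      have h1 : x = 1 := congrArg (fun t : center S => ((t : S) : G)) h0
      rw [h1, orderOf_one] at hx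
      exact hℓ.out.one_lt.ne hx
  rw [← Nat.card_congr (Equiv.ofBijective f hf), Nat.card_sigma]
  have h1 : ∀ S : Sylow ℓ G, Nat.card {z : center S // z ≠ 1} = Nat.card (center L) - 1 := by
    intro S
    rw [card_ne_one, Nat.card_congr (Subgroup.centerCongr (Sylow.equiv S L)).toEquiv]
  rw [Finset.sum_congr rfl (fun S _ => h1 S), Finset.sum_const, Finset.card_univ, smul_eq_mul,
    ← Nat.card_eq_fintype_card (α := Sylow ℓ G)]

theorem solvable_of_two {H : Type*} [Group H] [Finite H] (h : (Nat.card H).primeFactors.card ≤ 2) :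
    Group.IsSolvable H := by
  have hn : Nat.card H ≠ 0 := Nat.card_pos.ne'
  have h0 := Nat.prod_factorization_pow_eq_self hn
  rw [Finsupp.prod, Nat.support_factorization] at h0
  have h1 : (Nat.card H).primeFactors.card = 0 ∨ (Nat.card H).primeFactors.card = 1 ∨
      (Nat.card H).primeFactors.card = 2 := by omega
  rcases h1 with h1 | h1 | h1
  · rw [Finset.card_eq_zero] at h1
    rw [h1, Finset.prod_empty] at h0
    exact S0144.result 2 3 0 0 (by norm_num) (by norm_num) (by rw [← h0, pow_zero, pow_zero, mul_one])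
  · obtain ⟨a, ha⟩ := Finset.card_eq_one.1 h1
    have hap : a.Prime := Nat.prime_of_mem_primeFactors (by rw [ha]; exact Finset.mem_singleton_self a)
    rw [ha, Finset.prod_singleton] at h0
    exact S0144.result a a ((Nat.card H).factorization a) 0 hap hap (by rw [pow_zero, mul_one]; exact h0.symm)
  · obtain ⟨a, b, hab, hs⟩ := Finset.card_eq_two.1 h1
    have hap : a.Prime := Nat.prime_of_mem_primeFactors (by rw [hs]; simp)
    have hbp : b.Prime := Nat.prime_of_mem_primeFactors (by rw [hs]; simp)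
    rw [hs, Finset.prod_pair hab] at h0
    exact S0144.result a b _ _ hap hbp h0.symm

theorem primeFactors_card_le {G : Type*} [Group G] [Finite G] (h3 : (Nat.card G).primeFactors.card = 3)
    {ℓ : ℕ} (hℓ : ℓ.Prime) (hd : ℓ ∣ Nat.card G) {m : ℕ} (hm : m ∣ Nat.card G) (hm' : ¬ ℓ ∣ m) :
    m.primeFactors.card ≤ 2 := by
  have h1 : m.primeFactors ⊆ (Nat.card G).primeFactors.erase ℓ := by
    intro q hq
    rw [Finset.mem_erase]
    constructor
    · rintro rfl
      exact hm' (Nat.dvd_of_mem_primeFactors hq)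
    · exact Nat.primeFactors_mono hm Nat.card_pos.ne' hq
  have h2 := Finset.card_le_card h1
  rw [Finset.card_erase_of_mem (Nat.mem_primeFactors.2 ⟨hℓ, hd, Nat.card_pos.ne'⟩), h3] at h2
  exact h2

theorem solvable_of_quot {G : Type*} [Group G] (K : Subgroup G) [K.Normal] (h1 : Group.IsSolvable K)
    (h2 : Group.IsSolvable (G ⧸ K)) : Group.IsSolvable G := by
  refine Group.isSolvable_of_ker_le_range K.subtype (QuotientGroup.mk' K) ?_
  rw [QuotientGroup.ker_mk', Subgroup.range_subtype]

theorem not_normal_sylow {G : Type*} [Group G] [Finite G] (hns : ¬ Group.IsSolvable G)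
    (h3 : (Nat.card G).primeFactors.card = 3) {ℓ : ℕ} [hℓ : Fact ℓ.Prime] (hd : ℓ ∣ Nat.card G)
    (L : Sylow ℓ G) : ¬ (L : Subgroup G).Normal := by
  intro hn
  apply hns
  apply solvable_of_quot (L : Subgroup G)
  · have : Group.IsNilpotent L := L.isPGroup'.isNilpotent
    infer_instance
  · apply solvable_of_two
    apply primeFactors_card_le h3 hℓ.out hd (m := Nat.card (G ⧸ (L : Subgroup G)))
    · exact Subgroup.card_quotient_dvd_card _
    · exact L.not_dvd_index

theorem normalizer_ne {G : Type*} [Group G] [Finite G] (hns : ¬ Group.IsSolvable G)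
    (h3 : (Nat.card G).primeFactors.card = 3) {ℓ : ℕ} [hℓ : Fact ℓ.Prime] (hd : ℓ ∣ Nat.card G)
    (L : Sylow ℓ G) (hab : ∀ x ∈ L, ∀ y ∈ L, x * y = y * x) :
    normalizer ((L : Subgroup G) : Set G) ≠ L := by
  intro hN
  apply hns
  have hP : normalizer ((L : Subgroup G) : Set G) ≤ centralizer ((L : Subgroup G) : Set G) := by
    rw [hN]
    intro x hx y hy
    exact hab y hy x hx
  have hcompl := MonoidHom.ker_transferSylow_isComplement' L hP
  set K := (MonoidHom.transferSylow L hP).ker with hK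
  apply solvable_of_quot K
  · apply solvable_of_two
    exact primeFactors_card_le h3 hℓ.out hd (Subgroup.card_subgroup_dvd_card K)
      (MonoidHom.not_dvd_card_ker_transferSylow L hP)
  · have h1 : Nat.card (G ⧸ K) = Nat.card L := hcompl.symm.index_eq_card
    have h2 : IsPGroup ℓ (G ⧸ K) := by
      obtain ⟨n, hn⟩ := IsPGroup.iff_card.1 L.isPGroup'
      exact IsPGroup.of_card (n := n) (by rw [h1]; exact hn)
    have : Group.IsNilpotent (G ⧸ K) := h2.isNilpotent
    infer_instance

/-- number of elements of given order -/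
noncomputable def cnt (G : Type*) [Group G] (ℓ : ℕ) : ℕ := Nat.card {x : G // orderOf x = ℓ}

theorem cnt_one {G : Type*} [Group G] : cnt G 1 = 1 := by
  rw [cnt]
  have : Unique {x : G // orderOf x = 1} :=
    ⟨⟨⟨1, orderOf_one⟩⟩, fun x => Subtype.ext (orderOf_eq_one_iff.1 x.2)⟩
  exact Nat.card_unique

open Classical in
theorem sum_cnt {G : Type*} [Group G] [Finite G] (h : PO G) :
    Nat.card G = 1 + ∑ ℓ ∈ (Nat.card G).primeFactors, cnt G ℓ := by
  have := Fintype.ofFinite G
  have h1 : ∀ x ∈ (Finset.univ : Finset G), orderOf x ∈ insert 1 (Nat.card G).primeFactors := by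
    intro x _
    rw [Finset.mem_insert]
    by_cases hx : x = 1
    · left; rw [hx, orderOf_one]
    · right
      exact Nat.mem_primeFactors.2 ⟨h x hx, orderOf_dvd_natCard x, Nat.card_pos.ne'⟩
  have h2 := Finset.card_eq_sum_card_fiberwise h1
  rw [Finset.card_univ, ← Nat.card_eq_fintype_card, Finset.sum_insert (by
    intro h0
    exact Nat.not_prime_one (Nat.prime_of_mem_primeFactors h0))] at h2
  have h3 : ∀ ℓ, (Finset.univ.filter (fun x : G => orderOf x = ℓ)).card = cnt G ℓ := by
    intro ℓ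
    rw [cnt, Nat.card_eq_fintype_card, Fintype.card_subtype]
  rw [h3, cnt_one] at h2
  refine h2.trans ?_
  congr 1
  apply Finset.sum_congr rfl
  intro ℓ _
  exact h3 ℓ

/-- For a nonsolvable group of odd order with the properties the number of elements of order `ℓ` is small. -/
theorem odd_bound {G : Type*} [Group G] [Finite G] (h : PO G) (hns : ¬ Group.IsSolvable G)
    (h3 : (Nat.card G).primeFactors.card = 3) (hodd : Odd (Nat.card G)) {ℓ : ℕ} [hℓ : Fact ℓ.Prime]
    (hcs : CS ℓ G) (hd : ℓ ∣ Nat.card G) : 3 * cnt G ℓ + 3 ≤ Nat.card G := by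
  let L : Sylow ℓ G := default
  have hn := Subgroup.card_mul_index (normalizer ((L : Subgroup G) : Set G))
  have hn2 : Nat.card (Sylow ℓ G) = (normalizer ((L : Subgroup G) : Set G)).index := L.card_eq_index_normalizer
  rw [← hn2] at hn
  have hLN : (L : Subgroup G) ≤ normalizer ((L : Subgroup G) : Set G) := le_normalizer
  have hc := count_order h ℓ hcs L
  have hpos : 0 < Nat.card (Sylow ℓ G) := Nat.card_pos
  have hZpos : 0 < Nat.card (center L) := Nat.card_pos
  rw [cnt, hc, ← hn]
  -- enough: `3 |Z| ≤ |N(L)|`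
  have key : 3 * Nat.card (center L) ≤ Nat.card (normalizer ((L : Subgroup G) : Set G)) := by
    by_cases hab : ∀ x ∈ L, ∀ y ∈ L, x * y = y * x
    · have h1 : Nat.card (center L) ≤ Nat.card L := Subgroup.card_le_card_group _
      have h2 : Nat.card L ∣ Nat.card (normalizer ((L : Subgroup G) : Set G)) := Subgroup.card_dvd_of_le hLN
      obtain ⟨e, he⟩ := h2
      have h4 : e ≠ 1 := by
        rintro rfl
        rw [mul_one] at he
        exact normalizer_ne hns h3 hd L hab (Subgroup.eq_of_le_of_card_ge hLN he.le).symm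
      have h5 : Odd e := by
        apply hodd.of_dvd_nat
        refine Dvd.dvd.trans ⟨Nat.card L, by rw [he]; ring⟩ (Subgroup.card_subgroup_dvd_card (normalizer ((L : Subgroup G) : Set G)))
      have h6 : 3 ≤ e := by
        obtain ⟨j, hj⟩ := h5
        omega
      rw [he]
      nlinarith
    · have h1 : Nat.card (center L) ∣ Nat.card L := Subgroup.card_subgroup_dvd_card _
      obtain ⟨e, he⟩ := h1
      have h4 : e ≠ 1 := by
        rintro rfl
        rw [mul_one] at he
        apply hab
        intro x hx y hy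
        have h5 : center L = ⊤ := Subgroup.eq_top_of_card_eq _ he.symm
        have h6 : (⟨y, hy⟩ : L) ∈ center L := by rw [h5]; exact Subgroup.mem_top _
        exact congrArg Subtype.val (Subgroup.mem_center_iff.1 h6 ⟨x, hx⟩)
      have h5 : Odd e := by
        apply hodd.of_dvd_nat
        refine Dvd.dvd.trans ⟨Nat.card (center L), by rw [he]; ring⟩ (Subgroup.card_subgroup_dvd_card (L : Subgroup G))
      have h6 : 3 ≤ e := by
        obtain ⟨j, hj⟩ := h5
        omega
      have h7 : Nat.card L ≤ Nat.card (normalizer ((L : Subgroup G) : Set G)) := Subgroup.card_le_of_le hLN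
      nlinarith
  obtain ⟨z, hz⟩ : ∃ z, Nat.card (center L) = z + 1 := ⟨Nat.card (center L) - 1, by omega⟩
  rw [hz] at key ⊢
  rw [Nat.add_sub_cancel]
  nlinarith

theorem even_card {G : Type*} [Group G] [Finite G] (h : PO G) (hns : ¬ Group.IsSolvable G)
    (h3 : (Nat.card G).primeFactors.card = 3) (hcs : ∀ ℓ : ℕ, ℓ.Prime → CS ℓ G) : 2 ∣ Nat.card G := by
  by_contra hodd
  rw [← even_iff_two_dvd, Nat.not_even_iff_odd] at hodd
  have h1 := sum_cnt h
  have h2 : ∑ ℓ ∈ (Nat.card G).primeFactors, (3 * cnt G ℓ + 3) ≤ ∑ ℓ ∈ (Nat.card G).primeFactors, Nat.card G := by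
    apply Finset.sum_le_sum
    intro ℓ hℓ
    have hp : Fact ℓ.Prime := ⟨Nat.prime_of_mem_primeFactors hℓ⟩
    exact odd_bound h hns h3 hodd (hcs ℓ hp.out) (Nat.dvd_of_mem_primeFactors hℓ)
  rw [Finset.sum_add_distrib, ← Finset.mul_sum, Finset.sum_const, Finset.sum_const, h3] at h2
  simp only [smul_eq_mul] at h2
  omega

end Cfsg.Agent.H68.FO
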