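import Cfsg.Agent.H68.Sunflower
import Cfsg.Agent.H74.Prin2
import Cfsg.Agent.H74.AbChar
import Cfsg.Agent.H51.Homo2
import Cfsg.Agent.H79.LinChar
import Cfsg.Agent.Transfer.SmallSylow
import Cfsg.Agent.Transfer.Fusion

/-!
# Homocyclic Sylow `2`-subgroups of rank two and exponent at least four

Brauer: such a group is not simple.
-/

set_option autoImplicit false
set_option linter.unusedSectionVars false
set_option linter.style.haveILetI false

universe u

namespace Cfsg.Agent.H68.HB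

open scoped ComplexConjugate BigOperators
open Cfsg Cfsg.Agent.CharBase Cfsg.Agent.Blk Cfsg.Agent.H4

variable {G : Type u} [Group G] [Finite G]

/-- The structure of the normalizer of an abelian Sylow `2`-subgroup with inertial index three -/
structure Hyp (P : Sylow 2 G) (g : G) : Prop where
  comm : ∀ a ∈ (P : Subgroup G), ∀ b ∈ (P : Subgroup G), a * b = b * a
  norm : g ∈ Subgroup.normalizer ((P : Subgroup G) : Set G)
  notC : g ∉ Subgroup.centralizer ((P : Subgroup G) : Set G)
  free : ∀ n ∈ Subgroup.normalizer ((P : Subgroup G) : Set G), ∀ x ∈ (P : Subgroup G), x ≠ 1 →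
    n * x * n⁻¹ = x → n ∈ Subgroup.centralizer ((P : Subgroup G) : Set G)
  gen : ∀ n ∈ Subgroup.normalizer ((P : Subgroup G) : Set G), ∃ j < 3,
    (g ^ j)⁻¹ * n ∈ Subgroup.centralizer ((P : Subgroup G) : Set G)
  cube : g ^ 3 ∈ Subgroup.centralizer ((P : Subgroup G) : Set G)

theorem exists_hyp (P : Sylow 2 G) {m : ℕ} (hm : 1 ≤ m)
    (e : (P : Subgroup G) ≃* Multiplicative (ZMod (2 ^ m) × ZMod (2 ^ m)))
    (hnc : ¬ Cfsg.HasNormalPComplement 2 G) : ∃ g, Hyp P g := by
  haveI : Fact (Nat.Prime 2) := ⟨Nat.prime_two⟩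
  have hPc := H51.comm_of_equiv e
  have hPp : ∀ x ∈ (P : Subgroup G), x ≠ 1 → ∃ z ∈ Subgroup.zpowers x, z ≠ 1 ∧ z ^ 2 = 1 := by
    intro x hx hx1
    obtain ⟨k, hk⟩ := IsPGroup.iff_orderOf.1 P.2 ⟨x, hx⟩
    rw [Subgroup.orderOf_mk] at hk
    rcases k with _ | k
    · rw [pow_zero] at hk; exact absurd (orderOf_eq_one_iff.1 hk) hx1
    · refine ⟨x ^ (2 ^ k), Subgroup.pow_mem _ (Subgroup.mem_zpowers x) _, ?_, ?_⟩
      · intro h
        have h1 := orderOf_dvd_of_pow_eq_one h
        rw [hk] at h1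
        have := Nat.le_of_dvd (by positivity) h1
        rw [pow_succ] at this
        have : 0 < 2 ^ k := by positivity
        omega
      · rw [← pow_mul, ← pow_succ, ← hk, pow_orderOf_eq_one]
  have hfree : ∀ n ∈ Subgroup.normalizer ((P : Subgroup G) : Set G), ∀ x ∈ (P : Subgroup G), x ≠ 1 →
    n * x * n⁻¹ = x → n ∈ Subgroup.centralizer ((P : Subgroup G) : Set G) := by
    intro n hn x hx hx1 hnx
    obtain ⟨z, hz, hz1, hz2⟩ := hPp x hx hx1
    have hc : Commute n x := by
      show n * x = x * n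
      calc n * x = (n * x * n⁻¹) * n := by group
        _ = x * n := by rw [hnx]
    obtain ⟨i, rfl⟩ := Subgroup.mem_zpowers_iff.mp hz
    exact H51.mem_centralizer_of_one P hm e hn (Subgroup.zpow_mem _ hx i) hz1 hz2 (hc.zpow_right i).eq
  rcases H51.relIndex_one_or_three P hm e with h | ⟨h3, -⟩
  · exact absurd (Transfer.hasNPC_of_normalizer_le_centralizer P (Subgroup.relIndex_eq_one.mp h)) hnc
  · set C := Subgroup.centralizer ((P : Subgroup G) : Set G) with hC
    set N := Subgroup.normalizer ((P : Subgroup G) : Set G) with hN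
    have hCn : (C.subgroupOf N).Normal := by
      rw [hC, hN]
      infer_instance
    have hcard : Nat.card (N ⧸ C.subgroupOf N) = 3 := h3
    haveI : Fact (Nat.Prime 3) := ⟨Nat.prime_three⟩
    have hnt : Nontrivial (N ⧸ C.subgroupOf N) := by
      rw [← Finite.one_lt_card_iff_nontrivial, hcard]; norm_num
    obtain ⟨q, hq⟩ := exists_ne (1 : N ⧸ C.subgroupOf N)
    obtain ⟨g, rfl⟩ := QuotientGroup.mk_surjective q
    refine ⟨g, hPc, g.2, ?_, hfree, ?_, ?_⟩
    · intro hg
      exact hq ((QuotientGroup.eq_one_iff g).mpr (Subgroup.mem_subgroupOf.mpr hg))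
    · intro n hn
      have h1 : ((⟨n, hn⟩ : N) : N ⧸ C.subgroupOf N) ∈ Subgroup.zpowers ((g : N) : N ⧸ C.subgroupOf N) :=
        mem_zpowers_of_prime_card hcard hq
      rw [← mem_powers_iff_mem_zpowers] at h1
      obtain ⟨j, hj⟩ := h1
      have h2 : ((g : N) : N ⧸ C.subgroupOf N) ^ 3 = 1 := by
        rw [← hcard]; exact pow_card_eq_one'
      refine ⟨j % 3, Nat.mod_lt _ (by norm_num), ?_⟩
      have h3 : ((g : N) : N ⧸ C.subgroupOf N) ^ (j % 3) = ((⟨n, hn⟩ : N) : N ⧸ C.subgroupOf N) := by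
        have h4 : ((g : N) : N ⧸ C.subgroupOf N) ^ j = ((⟨n, hn⟩ : N) : N ⧸ C.subgroupOf N) := hj
        rw [← h4]
        conv_rhs => rw [← Nat.div_add_mod j 3, pow_add, pow_mul, h2, one_pow, one_mul]
      rw [← QuotientGroup.mk_pow, QuotientGroup.eq] at h3
      exact Subgroup.mem_subgroupOf.mp h3
    · have h2 : ((g : N) : N ⧸ C.subgroupOf N) ^ 3 = 1 := by
        rw [← hcard]; exact pow_card_eq_one'
      rw [← QuotientGroup.mk_pow, QuotientGroup.eq_one_iff] at h2
      exact Subgroup.mem_subgroupOf.mp h2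

namespace Hyp

variable {P : Sylow 2 G} {g : G}

/-- conjugation by `g` -/
def sig (h : Hyp P g) : (P : Subgroup G) ≃* (P : Subgroup G) where
  toFun x := ⟨g * x * g⁻¹, (Subgroup.mem_normalizer_iff.mp h.norm x).mp x.2⟩
  invFun x := ⟨g⁻¹ * x * g, by
    have := (Subgroup.mem_normalizer_iff.mp (Subgroup.inv_mem _ h.norm) x).mp x.2
    simpa using this⟩
  left_inv x := by apply Subtype.ext; simp [mul_assoc]
  right_inv x := by apply Subtype.ext; simp [mul_assoc]
  map_mul' x y := by apply Subtype.ext; simp [mul_assoc]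

@[simp] theorem sig_coe (h : Hyp P g) (x : (P : Subgroup G)) : ((h.sig x : (P : Subgroup G)) : G) = g * x * g⁻¹ := rfl

theorem sig3 (h : Hyp P g) (x : (P : Subgroup G)) : h.sig (h.sig (h.sig x)) = x := by
  apply Subtype.ext
  simp only [sig_coe]
  have h1 := Subgroup.mem_centralizer_iff.mp h.cube (x : G) x.2
  calc g * (g * (g * x * g⁻¹) * g⁻¹) * g⁻¹ = g ^ 3 * x * (g ^ 3)⁻¹ := by
        simp only [pow_succ, pow_zero, one_mul, mul_inv_rev, mul_assoc]
    _ = x := by rw [← h1, mul_inv_cancel_right]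

theorem sig_ne (h : Hyp P g) {x : (P : Subgroup G)} (hx : x ≠ 1) : h.sig x ≠ x := by
  intro h1
  apply h.notC
  exact h.free g h.norm x x.2 (fun h2 => hx (Subtype.ext h2)) (congrArg Subtype.val h1)

theorem sig2_ne (h : Hyp P g) {x : (P : Subgroup G)} (hx : x ≠ 1) : h.sig (h.sig x) ≠ x := by
  intro h1
  apply h.sig_ne hx
  have h2 := h.sig3 x
  rw [h1] at h2
  exact h2

theorem sig_sig_ne (h : Hyp P g) {x : (P : Subgroup G)} (hx : x ≠ 1) : h.sig (h.sig x) ≠ h.sig x := by
  intro h1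
  exact h.sig_ne hx (h.sig.injective h1)

theorem pm (_h : Hyp P g) : IsMulCommutative (P : Subgroup G) :=
  ⟨⟨fun a b => Subtype.ext (_h.comm a a.2 b b.2)⟩⟩

theorem conj_iff (h : Hyp P g) (x y : (P : Subgroup G)) :
    IsConj (x : G) (y : G) ↔ y = x ∨ y = h.sig x ∨ y = h.sig (h.sig x) := by
  haveI : Fact (Nat.Prime 2) := ⟨Nat.prime_two⟩
  constructor
  · intro hc
    obtain ⟨k, hk⟩ := isConj_iff.1 hc
    obtain ⟨n, hn, hnx⟩ := Transfer.controlsFusion_normalizer_of_isMulCommutative P h.pm x x.2 k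
      (by rw [hk]; exact y.2)
    rw [hk] at hnx
    obtain ⟨j, hj, hjn⟩ := h.gen n hn
    have h1 := Subgroup.mem_centralizer_iff.mp hjn (x : G) x.2
    have h2 : (y : G) = g ^ j * x * (g ^ j)⁻¹ := by
      rw [← hnx]
      calc n * x * n⁻¹ = g ^ j * (((g ^ j)⁻¹ * n) * x) * n⁻¹ := by group
        _ = g ^ j * (x * ((g ^ j)⁻¹ * n)) * n⁻¹ := by rw [h1]
        _ = _ := by group
    have hj' : j = 0 ∨ j = 1 ∨ j = 2 := by omega
    rcases hj' with rfl | rfl | rfl
    · left; apply Subtype.ext; rw [h2]; group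
    · right; left; apply Subtype.ext; rw [h2, sig_coe, pow_one]
    · right; right; apply Subtype.ext; rw [h2, sig_coe, sig_coe]
      simp only [pow_succ, pow_zero, one_mul, mul_inv_rev, mul_assoc]
  · rintro (rfl | rfl | rfl)
    · exact IsConj.refl _
    · exact isConj_iff.mpr ⟨g, rfl⟩
    · refine isConj_iff.mpr ⟨g ^ 2, ?_⟩
      rw [sig_coe, sig_coe]
      simp only [pow_succ, pow_zero, one_mul, mul_inv_rev, mul_assoc]

theorem orderOf_pow (_h : Hyp P g) (x : (P : Subgroup G)) : ∃ k : ℕ, orderOf (x : G) = 2 ^ k := by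
  obtain ⟨k, hk⟩ := IsPGroup.iff_orderOf.1 P.2 x
  exact ⟨k, by rwa [Subgroup.orderOf_coe]⟩

/-- no element of order at least four is inverted -/
theorem not_conj_inv (h : Hyp P g) {x : (P : Subgroup G)} (hx : x * x ≠ 1) :
    ¬ IsConj (x : G) ((x : G)⁻¹) := by
  intro hc
  have hx1 : x ≠ 1 := by rintro rfl; exact hx (by simp)
  have h1 := (h.conj_iff x x⁻¹).mp hc
  rcases h1 with h1 | h1 | h1
  · apply hx
    calc x * x = x⁻¹ * x := by rw [h1]
      _ = 1 := inv_mul_cancel x
  · apply h.sig2_ne hx1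
    rw [← h1, map_inv, ← h1, inv_inv]
  · apply h.sig_ne hx1
    have h2 : h.sig (x⁻¹) = x := by rw [h1, h.sig3]
    have h3 : h.sig (h.sig x) = x⁻¹ := h1.symm
    have h4 : h.sig x = x⁻¹ := by
      rw [← inv_inj, ← map_inv, h2, inv_inv]
    rw [h4, map_inv, h4, inv_inv] at h3
    exfalso
    apply hx
    calc x * x = x⁻¹ * x := by rw [← h3]
      _ = 1 := inv_mul_cancel x

/-- the centralizers are `2`-nilpotent -/
theorem npc (h : Hyp P g) {x : G} (hx : x ∈ (P : Subgroup G)) (hx1 : x ≠ 1) :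
    HasNormalPComplement 2 (Subgroup.centralizer ({x} : Set G)) := by
  haveI : Fact (Nat.Prime 2) := ⟨Nat.prime_two⟩
  have hle : (P : Subgroup G) ≤ Subgroup.centralizer ({x} : Set G) := fun y hy =>
    Subgroup.mem_centralizer_singleton_iff.mpr (h.comm y hy x hx)
  refine Transfer.hasNPC_of_normalizer_le_centralizer (P.subtype hle) ?_
  intro n hn
  have hn2 : (n : G) ∈ Subgroup.normalizer ((P : Subgroup G) : Set G) := by
    rw [Subgroup.mem_normalizer_iff]
    intro y
    constructor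
    · intro hy
      have h1 := (Subgroup.mem_normalizer_iff.mp hn ⟨y, hle hy⟩).mp (by
        rw [Sylow.coe_subtype]; exact Subgroup.mem_subgroupOf.mpr hy)
      rw [Sylow.coe_subtype] at h1
      exact Subgroup.mem_subgroupOf.mp h1
    · intro hy
      have hyc : y ∈ Subgroup.centralizer ({x} : Set G) := by
        have h1 := hle hy
        have h2 := mul_mem (mul_mem (inv_mem n.2) h1) n.2
        have h3 : (n : G)⁻¹ * (n * y * (n : G)⁻¹) * n = y := by group
        rwa [h3] at h2
      have h1 := (Subgroup.mem_normalizer_iff.mp hn ⟨y, hyc⟩).mpr (by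
        rw [Sylow.coe_subtype]; exact Subgroup.mem_subgroupOf.mpr hy)
      rw [Sylow.coe_subtype] at h1
      exact Subgroup.mem_subgroupOf.mp h1
  have hnx : (n : G) * x * (n : G)⁻¹ = x := by
    rw [Subgroup.mem_centralizer_singleton_iff.mp n.2]; group
  have h1 := h.free n hn2 x hx hx1 hnx
  rw [Subgroup.mem_centralizer_iff]
  intro y hy
  have hy' : y ∈ ((P.subtype hle : Sylow 2 _) : Subgroup _) := hy
  rw [Sylow.coe_subtype] at hy'
  exact Subtype.ext (Subgroup.mem_centralizer_iff.mp h1 y (Subgroup.mem_subgroupOf.mp hy'))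

theorem card_factorization (h : Hyp P g) {x : G} (hx : x ∈ (P : Subgroup G)) :
    2 ^ (Nat.card (Subgroup.centralizer ({x} : Set G))).factorization 2 = Nat.card (P : Subgroup G) := by
  haveI : Fact (Nat.Prime 2) := ⟨Nat.prime_two⟩
  have hle : (P : Subgroup G) ≤ Subgroup.centralizer ({x} : Set G) := fun y hy =>
    Subgroup.mem_centralizer_singleton_iff.mpr (h.comm y hy x hx)
  rw [← Sylow.card_eq_multiplicity (P.subtype hle), Sylow.coe_subtype]
  exact Nat.card_congr (Subgroup.subgroupOfEquivOfLe hle).toEquiv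

section Block

variable {M : Ideal AlgInt}

open Classical in
/-- the columns of the principal block -/
theorem column (h : Hyp P g) (hM : IsPModular 2 M) [Fintype (IrrCharacter G)]
    (x y : (P : Subgroup G)) (hx : x ≠ 1) :
    ∑ χ : IrrCharacter G, (if χ ∈ principalBlock M G then
      (χ : G → ℂ) x * conj ((χ : G → ℂ) y) else 0) =
      if y = x ∨ y = h.sig x ∨ y = h.sig (h.sig x) then (Nat.card (P : Subgroup G) : ℂ) else 0 := by
  haveI : Fact (Nat.Prime 2) := ⟨Nat.prime_two⟩
  have hxG : (x : G) ≠ 1 := fun h2 => hx (Subtype.ext h2)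
  split_ifs with hc
  · have hc' := (h.conj_iff x y).mpr hc
    have h1 := sum_principal_norm' (M := M) h hM x hxG
    rw [← h1]
    refine Finset.sum_congr rfl fun χ _ => ?_
    rw [classFun_eq_of_isConj (irr_isClassFunction χ) hc']
  · have hc' : ¬ IsConj (x : G) (y : G) := fun h1 => hc ((h.conj_iff x y).mp h1)
    exact H74.sum_principal_orth (p := 2) hM (H74.isPPart_self' (h.orderOf_pow x))
      (H74.isPPart_self' (h.orderOf_pow y)) hc'
where
  sum_principal_norm' {G : Type u} [Group G] [Finite G] {P : Sylow 2 G} {g : G} {M : Ideal AlgInt}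
    (h : Hyp P g) (hM : IsPModular 2 M) [Fintype (IrrCharacter G)]
    (x : (P : Subgroup G)) (hxG : (x : G) ≠ 1) :
    ∑ χ : IrrCharacter G, (if χ ∈ principalBlock M G then
      (χ : G → ℂ) x * conj ((χ : G → ℂ) x) else 0) = (Nat.card (P : Subgroup G) : ℂ) := by
    haveI : Fact (Nat.Prime 2) := ⟨Nat.prime_two⟩
    rw [H74.sum_principal_norm (p := 2) hM hxG (h.orderOf_pow x) (h.npc x.2 hxG),
      h.card_factorization x.2]

end Block

end Hyp

end Cfsg.Agent.H68.HB
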