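import Cfsg.Agent.H68.HomoBlk
import Cfsg.Agent.H79.Linearity

/-!
# Homocyclic Sylow `2`-subgroups: the Gram matrix of the principal block
-/

set_option autoImplicit false
set_option linter.unusedSectionVars false
set_option linter.style.haveILetI false

universe u

namespace Cfsg.Agent.H68.HB

open scoped ComplexConjugate BigOperators
open Cfsg Cfsg.Agent.CharBase Cfsg.Agent.Blk Cfsg.Agent.H4

variable {G : Type u} [Group G] [Finite G]

namespace Hyp

variable {P : Sylow 2 G} {g : G}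

theorem comm' (h : Hyp P g) (a b : (P : Subgroup G)) : a * b = b * a :=
  Subtype.ext (h.comm a a.2 b b.2)

theorem lin (h : Hyp P g) (l : IrrCharacter (P : Subgroup G)) : (l : ↥(P : Subgroup G) → ℂ) 1 = 1 :=
  H79.linear_of_comm h.comm' l

theorem lmul (h : Hyp P g) (l : IrrCharacter (P : Subgroup G)) (x y : (P : Subgroup G)) :
    (l : ↥(P : Subgroup G) → ℂ) (x * y) = (l : ↥(P : Subgroup G) → ℂ) x * (l : ↥(P : Subgroup G) → ℂ) y :=
  Char.linChar_mul (irr_isCharacter l) (h.lin l) x y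

/-- the twisted character -/
noncomputable def tw (h : Hyp P g) (l : IrrCharacter (P : Subgroup G)) : IrrCharacter (P : Subgroup G) :=
  ⟨fun x => (l : ↥(P : Subgroup G) → ℂ) (h.sig x),
    isIrrCharacter_comp_surjective l.2 h.sig.toMonoidHom h.sig.surjective⟩

@[simp] theorem tw_apply (h : Hyp P g) (l : IrrCharacter (P : Subgroup G)) (x : (P : Subgroup G)) :
    (h.tw l : ↥(P : Subgroup G) → ℂ) x = (l : ↥(P : Subgroup G) → ℂ) (h.sig x) := rfl

theorem tw3 (h : Hyp P g) (l : IrrCharacter (P : Subgroup G)) : h.tw (h.tw (h.tw l)) = l := by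
  apply Subtype.ext
  funext x
  show (l : ↥(P : Subgroup G) → ℂ) (h.sig (h.sig (h.sig x))) = _
  rw [h.sig3]

theorem tw_one (h : Hyp P g) : h.tw (oneIrr (P : Subgroup G)) = oneIrr (P : Subgroup G) := by
  apply Subtype.ext
  funext x
  rfl

theorem tw_eq_one_iff (h : Hyp P g) (l : IrrCharacter (P : Subgroup G)) :
    h.tw l = oneIrr (P : Subgroup G) ↔ l = oneIrr (P : Subgroup G) := by
  constructor
  · intro h1
    rw [← h.tw3 l, h1, h.tw_one, h.tw_one]
  · rintro rfl; exact h.tw_one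

theorem tw_ne (h : Hyp P g) {l : IrrCharacter (P : Subgroup G)} (hl : l ≠ oneIrr (P : Subgroup G)) :
    h.tw l ≠ l := by
  intro h1
  apply hl
  apply Subtype.ext
  funext x
  show (l : ↥(P : Subgroup G) → ℂ) x = 1
  have h2 : ∀ y, (l : ↥(P : Subgroup G) → ℂ) (h.sig y) = (l : ↥(P : Subgroup G) → ℂ) y := fun y =>
    congrFun (congrArg Subtype.val h1) y
  have h3 : x * h.sig x * h.sig (h.sig x) = 1 := by
    by_contra hne
    apply h.sig_ne hne
    rw [map_mul, map_mul, h.sig3, mul_assoc, h.comm' (h.sig x), h.comm' _ x, mul_assoc]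
    rw [h.comm' (h.sig (h.sig x)) (h.sig x)]
    rw [← mul_assoc, mul_assoc]
  have h4 : (l : ↥(P : Subgroup G) → ℂ) x ^ 3 = 1 := by
    have h5 := congrArg (l : ↥(P : Subgroup G) → ℂ) h3
    rw [h.lmul, h.lmul, h2, h2, h2, h.lin] at h5
    rw [← h5]; ring
  obtain ⟨k, hk⟩ := IsPGroup.iff_orderOf.1 P.2 x
  have h6 : (l : ↥(P : Subgroup G) → ℂ) x ^ (2 ^ k) = 1 := by
    have h7 := Char.linChar_pow (irr_isCharacter l) (h.lin l) x (2 ^ k)
    rw [← hk, pow_orderOf_eq_one, h.lin, hk] at h7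
    exact h7.symm
  have h7 : ((l : ↥(P : Subgroup G) → ℂ) x) ^ (Nat.gcd 3 (2 ^ k)) = 1 := by
    rw [pow_gcd_eq_one]; exact ⟨h4, h6⟩
  have h8 : Nat.gcd 3 (2 ^ k) = 1 := by
    apply Nat.Coprime.pow_right
    norm_num
  rwa [h8, pow_one] at h7

section Mult

variable [Fintype (P : Subgroup G)] [Fintype (IrrCharacter G)]

open Classical in
/-- the multiplicities -/
theorem exists_mults (h : Hyp P g) [Fintype (IrrCharacter (P : Subgroup G))] :
    ∃ a : IrrCharacter G → IrrCharacter (P : Subgroup G) → ℤ,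
      (∀ (χ : IrrCharacter G) (l : IrrCharacter (P : Subgroup G)),
        classInner (fun x : (P : Subgroup G) => (χ : G → ℂ) x) (l : ↥(P : Subgroup G) → ℂ) = a χ l) ∧
      (∀ (χ : IrrCharacter G) (x : (P : Subgroup G)),
        (χ : G → ℂ) x = ∑ l : IrrCharacter (P : Subgroup G), (a χ l : ℂ) * (l : ↥(P : Subgroup G) → ℂ) x) := by
  have h1 : ∀ χ : IrrCharacter G, ∃ a : IrrCharacter (P : Subgroup G) → ℤ,
      (∀ l : IrrCharacter (P : Subgroup G),
        classInner (fun x : (P : Subgroup G) => (χ : G → ℂ) x) (l : ↥(P : Subgroup G) → ℂ) = a l) ∧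
      (∀ (x : (P : Subgroup G)), (χ : G → ℂ) x =
        ∑ l : IrrCharacter (P : Subgroup G), (a l : ℂ) * (l : ↥(P : Subgroup G) → ℂ) x) := by
    intro χ
    obtain ⟨a, -, h2, h3⟩ := H74.ab_exists (fun x : (P : Subgroup G) => (χ : G → ℂ) x)
      (isCharacter_restrict (irr_isCharacter χ) _)
    exact ⟨a, h2, h3⟩
  choose a ha using h1
  exact ⟨a, fun χ => (ha χ).1, fun χ => (ha χ).2⟩

/-- `(1 - k, 1 - l)` -/
theorem inner_one_sub (h : Hyp P g) {k l : IrrCharacter (P : Subgroup G)}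
    (hk : k ≠ oneIrr (P : Subgroup G)) (hl : l ≠ oneIrr (P : Subgroup G))
    [Decidable (k = l)] :
    (Nat.card (P : Subgroup G) : ℂ)⁻¹ * ∑ x : (P : Subgroup G), (1 - conj ((l : ↥(P : Subgroup G) → ℂ) x)) *
      (1 - (k : ↥(P : Subgroup G) → ℂ) x) = 1 + if k = l then 1 else 0 := by
  classical
  have h1 : (Nat.card (P : Subgroup G) : ℂ)⁻¹ * ∑ x : (P : Subgroup G), (1 - conj ((l : ↥(P : Subgroup G) → ℂ) x)) *
      (1 - (k : ↥(P : Subgroup G) → ℂ) x) =
      classInner ((oneIrr (P : Subgroup G) : ↥(P : Subgroup G) → ℂ) - (k : ↥(P : Subgroup G) → ℂ))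
        ((oneIrr (P : Subgroup G) : ↥(P : Subgroup G) → ℂ) - (l : ↥(P : Subgroup G) → ℂ)) := by
    unfold classInner
    congr 1
    refine Finset.sum_congr rfl fun x _ => ?_
    simp only [Pi.sub_apply, oneIrr_apply, map_sub, map_one]
    ring
  rw [h1, classInner_sub_left, classInner_sub_right, classInner_sub_right, classInner_irr,
    classInner_irr, classInner_irr, classInner_irr, if_pos rfl, if_neg (Ne.symm hl), if_neg hk]
  ring_nf

open Classical in
/-- the vectors -/
noncomputable def W (χ : IrrCharacter G) (l : IrrCharacter (P : Subgroup G)) : ℂ :=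
  (Nat.card (P : Subgroup G) : ℂ)⁻¹ * ∑ x : (P : Subgroup G),
    (χ : G → ℂ) x * (1 - conj ((l : ↥(P : Subgroup G) → ℂ) x))

open Classical in
theorem W_eq (χ : IrrCharacter G) (l : IrrCharacter (P : Subgroup G)) :
    W χ l = classInner (fun x : (P : Subgroup G) => (χ : G → ℂ) x) (oneIrr (P : Subgroup G) : ↥(P : Subgroup G) → ℂ) -
      classInner (fun x : (P : Subgroup G) => (χ : G → ℂ) x) (l : ↥(P : Subgroup G) → ℂ) := by
  unfold W classInner
  rw [← mul_sub, ← Finset.sum_sub_distrib]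
  congr 1
  refine Finset.sum_congr rfl fun x _ => ?_
  rw [oneIrr_apply, map_one]
  ring

open Classical in
/-- pairing the vectors with a class function supported on columns -/
theorem sum_W (l : IrrCharacter (P : Subgroup G)) (B : Set (IrrCharacter G)) (F : IrrCharacter G → ℂ) :
    ∑ χ : IrrCharacter G, (if χ ∈ B then W χ l * F χ else 0) =
    (Nat.card (P : Subgroup G) : ℂ)⁻¹ * ∑ x : (P : Subgroup G), (1 - conj ((l : ↥(P : Subgroup G) → ℂ) x)) *
      ∑ χ : IrrCharacter G, (if χ ∈ B then (χ : G → ℂ) x * F χ else 0) := by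
  simp only [Finset.mul_sum]
  rw [Finset.sum_comm]
  refine Finset.sum_congr rfl fun χ _ => ?_
  split_ifs with hB
  · unfold W
    rw [Finset.mul_sum, Finset.sum_mul]
    refine Finset.sum_congr rfl fun x _ => ?_
    ring
  · simp

open Classical in
/-- the Gram matrix -/
theorem gram (h : Hyp P g) {M : Ideal AlgInt} (hM : IsPModular 2 M)
    {k l : IrrCharacter (P : Subgroup G)}
    (hk : k ≠ oneIrr (P : Subgroup G)) (hl : l ≠ oneIrr (P : Subgroup G)) :
    ∑ χ : IrrCharacter G, (if χ ∈ principalBlock M G then W χ l * conj (W χ k) else 0) =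
      3 + (if k = l then 1 else 0) + (if h.tw k = l then 1 else 0) + (if h.tw (h.tw k) = l then 1 else 0) := by
  rw [sum_W l (principalBlock M G) (fun χ => conj (W χ k))]
  have hcard : (Nat.card (P : Subgroup G) : ℂ) ≠ 0 := Nat.cast_ne_zero.2 Nat.card_pos.ne'
  have h1 : ∀ x : (P : Subgroup G), (1 - conj ((l : ↥(P : Subgroup G) → ℂ) x)) *
      (∑ χ : IrrCharacter G, (if χ ∈ principalBlock M G then (χ : G → ℂ) x * conj (W χ k) else 0)) =
      (1 - conj ((l : ↥(P : Subgroup G) → ℂ) x)) * ((1 - (k : ↥(P : Subgroup G) → ℂ) x) +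
        (1 - (h.tw k : ↥(P : Subgroup G) → ℂ) x) + (1 - (h.tw (h.tw k) : ↥(P : Subgroup G) → ℂ) x)) := by
    intro x
    by_cases hx : x = 1
    · subst hx
      rw [h.lin l]; simp
    congr 1
    have h2 : ∀ χ : IrrCharacter G, (if χ ∈ principalBlock M G then (χ : G → ℂ) x * conj (W χ k) else 0) =
        (Nat.card (P : Subgroup G) : ℂ)⁻¹ * ∑ y : (P : Subgroup G), (1 - (k : ↥(P : Subgroup G) → ℂ) y) *
          (if χ ∈ principalBlock M G then (χ : G → ℂ) x * conj ((χ : G → ℂ) y) else 0) := by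
      intro χ
      split_ifs with hB
      · unfold W
        rw [map_mul, map_inv₀, Complex.conj_natCast, map_sum, Finset.mul_sum, Finset.mul_sum, Finset.mul_sum]
        refine Finset.sum_congr rfl fun y _ => ?_
        rw [map_mul, map_sub, map_one, Complex.conj_conj]
        ring
      · simp
    rw [Finset.sum_congr rfl fun χ _ => h2 χ, ← Finset.mul_sum, Finset.sum_comm]
    simp only [← Finset.mul_sum]
    have h3 : ∀ y : (P : Subgroup G), (1 - (k : ↥(P : Subgroup G) → ℂ) y) * (∑ χ : IrrCharacter G,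
          (if χ ∈ principalBlock M G then (χ : G → ℂ) x * conj ((χ : G → ℂ) y) else 0)) =
        if y ∈ ({x, h.sig x, h.sig (h.sig x)} : Finset (P : Subgroup G)) then
          (1 - (k : ↥(P : Subgroup G) → ℂ) y) * (Nat.card (P : Subgroup G) : ℂ) else 0 := by
      intro y
      rw [h.column hM x y hx]
      simp only [Finset.mem_insert, Finset.mem_singleton]
      split_ifs <;> simp
    rw [Finset.sum_congr rfl fun y _ => h3 y, Finset.sum_ite_mem, Finset.univ_inter,
      Finset.sum_insert, Finset.sum_insert, Finset.sum_singleton]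
    · simp only [tw_apply]
      field_simp
      ring
    · simp only [Finset.mem_singleton]
      exact fun h4 => h.sig_sig_ne hx h4.symm
    · simp only [Finset.mem_insert, Finset.mem_singleton, not_or]
      exact ⟨fun h4 => h.sig_ne hx h4.symm, fun h4 => h.sig2_ne hx h4.symm⟩
  rw [Finset.sum_congr rfl fun x _ => h1 x]
  have h2 : ∀ x : (P : Subgroup G), (1 - conj ((l : ↥(P : Subgroup G) → ℂ) x)) * ((1 - (k : ↥(P : Subgroup G) → ℂ) x) +
        (1 - (h.tw k : ↥(P : Subgroup G) → ℂ) x) + (1 - (h.tw (h.tw k) : ↥(P : Subgroup G) → ℂ) x)) =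
      (1 - conj ((l : ↥(P : Subgroup G) → ℂ) x)) * (1 - (k : ↥(P : Subgroup G) → ℂ) x) +
      (1 - conj ((l : ↥(P : Subgroup G) → ℂ) x)) * (1 - (h.tw k : ↥(P : Subgroup G) → ℂ) x) +
      (1 - conj ((l : ↥(P : Subgroup G) → ℂ) x)) * (1 - (h.tw (h.tw k) : ↥(P : Subgroup G) → ℂ) x) := fun x => by ring
  rw [Finset.sum_congr rfl fun x _ => h2 x, Finset.sum_add_distrib, Finset.sum_add_distrib, mul_add, mul_add,
    h.inner_one_sub hk hl, h.inner_one_sub ((h.tw_eq_one_iff k).not.mpr hk) hl,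
    h.inner_one_sub ((h.tw_eq_one_iff _).not.mpr ((h.tw_eq_one_iff k).not.mpr hk)) hl]
  ring

end Mult

end Hyp

end Cfsg.Agent.H68.HB
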