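import Cfsg.Agent.H68.HomoBlk2

/-!
# Homocyclic Sylow `2`-subgroups: a nontrivial linear character
-/

set_option autoImplicit false
set_option linter.unusedSectionVars false
set_option linter.style.haveILetI false

universe u

namespace Cfsg.Agent.H68.HB

open scoped ComplexConjugate BigOperators
open Cfsg Cfsg.Agent.CharBase Cfsg.Agent.Blk Cfsg.Agent.H4

/-- the number theoretic end of the proof -/
theorem num_end {x y : ℤ} (h : (3 + 16 * (x + y)) * (1 + 16 * x + (1 + 16 * y) + (1 + 16 * x) * (1 + 16 * y)) =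
    9 * ((1 + 16 * x) * (1 + 16 * y))) : x = 0 ∧ y = 0 := by
  obtain ⟨s, hs⟩ : ∃ s, s = x + y := ⟨_, rfl⟩
  obtain ⟨p, hp⟩ : ∃ p, p = x * y := ⟨_, rfl⟩
  have h1 : s ^ 2 = p * (3 - 8 * s) := by
    rw [hs, hp]
    have : 512 * ((x + y) ^ 2 - x * y * (3 - 8 * (x + y))) = 0 := by linear_combination h
    linarith [this]
  have h2 : 9 = (3 - 8 * s) * (64 * p + 8 * s + 3) := by linear_combination 64 * h1
  have h3 : (3 - 8 * s) ∣ 9 := ⟨_, h2⟩
  have h4 : s = 0 := by
    have h5 := Int.le_of_dvd (by norm_num) h3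
    have h6 : -(3 - 8 * s) ∣ 9 := (neg_dvd).mpr h3
    have h7 := Int.le_of_dvd (by norm_num) h6
    have h8 : s = 0 ∨ s = 1 := by omega
    rcases h8 with h8 | h8
    · exact h8
    · rw [h8] at h3
      norm_num at h3
  rw [h4] at h2
  have h5 : p = 0 := by omega
  rw [hs] at h4
  rw [hp] at h5
  rcases mul_eq_zero.mp h5 with h6 | h6 <;> constructor <;> omega

variable {G : Type u} [Group G] [Finite G]

namespace Hyp

variable {P : Sylow 2 G} {g : G}

open Classical in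
theorem a_tw (h : Hyp P g) [Fintype (P : Subgroup G)] (χ : IrrCharacter G)
    (l : IrrCharacter (P : Subgroup G)) :
    classInner (fun x : (P : Subgroup G) => (χ : G → ℂ) x) (h.tw l : ↥(P : Subgroup G) → ℂ) =
    classInner (fun x : (P : Subgroup G) => (χ : G → ℂ) x) (l : ↥(P : Subgroup G) → ℂ) := by
  unfold classInner
  congr 1
  rw [← Equiv.sum_comp h.sig.toEquiv (fun x : (P : Subgroup G) => (χ : G → ℂ) x * conj ((l : ↥(P : Subgroup G) → ℂ) x))]
  refine Finset.sum_congr rfl fun x _ => ?_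
  rw [h.tw_apply]
  congr 1
  exact classFun_eq_of_isConj (irr_isClassFunction χ) (isConj_iff.mpr ⟨g, rfl⟩)

theorem sum_irr (h : Hyp P g) [Fintype (IrrCharacter (P : Subgroup G))] {t : (P : Subgroup G)}
    (ht : t ≠ 1) : ∑ l : IrrCharacter (P : Subgroup G), (l : ↥(P : Subgroup G) → ℂ) t = 0 := by
  classical
  have h1 := sum_degree_mul (G := (P : Subgroup G)) t
  rw [if_neg ht] at h1
  rw [← h1]
  refine Finset.sum_congr rfl fun l _ => ?_
  rw [h.lin l, one_mul]

/-- a nontrivial character which is trivial on the involutions -/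
theorem exists_mu (h : Hyp P g) (h4 : ∃ x : (P : Subgroup G), x * x ≠ 1) :
    ∃ μ : IrrCharacter (P : Subgroup G), μ ≠ oneIrr (P : Subgroup G) ∧
      ∀ z : (P : Subgroup G), z * z = 1 → (μ : ↥(P : Subgroup G) → ℂ) z = 1 := by
  let Ω : Subgroup (P : Subgroup G) :=
    { carrier := {z | z * z = 1}
      one_mem' := by simp
      mul_mem' := by
        intro a b ha hb
        show a * b * (a * b) = 1
        have : a * b * (a * b) = (a * a) * (b * b) := by
          rw [mul_assoc, ← mul_assoc b a b, h.comm' b a]; simp only [mul_assoc]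
        rw [this, show a * a = 1 from ha, show b * b = 1 from hb, one_mul]
      inv_mem' := by
        intro a ha
        show a⁻¹ * a⁻¹ = 1
        rw [← mul_inv_rev, show a * a = 1 from ha, inv_one] }
  have hn : Ω.Normal := ⟨fun a ha y => by rw [h.comm' y a]; simpa using ha⟩
  obtain ⟨x, hx⟩ := h4
  have hx1 : ((x : (P : Subgroup G)) : (P : Subgroup G) ⧸ Ω) ∉ commutator ((P : Subgroup G) ⧸ Ω) := by
    have hcm : commutator ((P : Subgroup G) ⧸ Ω) = ⊥ := by
      rw [eq_bot_iff, commutator_def, Subgroup.commutator_le]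
      intro a _ b _
      obtain ⟨a, rfl⟩ := QuotientGroup.mk_surjective a
      obtain ⟨b, rfl⟩ := QuotientGroup.mk_surjective b
      rw [Subgroup.mem_bot, commutatorElement_eq_one_iff_mul_comm, ← QuotientGroup.mk_mul,
        ← QuotientGroup.mk_mul, h.comm']
    rw [hcm, Subgroup.mem_bot, QuotientGroup.eq_one_iff]
    exact hx
  obtain ⟨ν, hν1, hν2⟩ := H79.exists_linear_ne_one hx1
  refine ⟨⟨fun y => (ν : _ → ℂ) (QuotientGroup.mk' Ω y), isIrrCharacter_comp_surjective ν.2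
    (QuotientGroup.mk' Ω) (QuotientGroup.mk'_surjective Ω)⟩, ?_, ?_⟩
  · intro h1
    apply hν2
    exact congrFun (congrArg Subtype.val h1) x
  · intro z hz
    show (ν : _ → ℂ) (QuotientGroup.mk' Ω z) = 1
    have : QuotientGroup.mk' Ω z = 1 := (QuotientGroup.eq_one_iff z).mpr hz
    rw [this, hν1]

/-- `z` is a power of `z v` -/
theorem exists_pow_eq {z v : G} (hzv : Commute z v) {k : ℕ} (hz : orderOf z = 2 ^ k)
    (hv : (orderOf v).Coprime 2) : ∃ n : ℕ, (z * v) ^ n = z := by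
  have hco : (2 ^ k).Coprime (orderOf v) := Nat.Coprime.pow_left k hv.symm
  obtain ⟨n, hn1, hn2⟩ := Nat.chineseRemainder hco 1 0
  refine ⟨n, ?_⟩
  rw [hzv.mul_pow]
  have h1 : z ^ n = z ^ 1 := by
    rw [pow_eq_pow_iff_modEq, hz]; exact hn1
  have h2 : v ^ n = 1 := by
    rw [← pow_zero v, pow_eq_pow_iff_modEq]; exact hn2
  rw [h1, h2, pow_one, mul_one]

open Classical in
/-- the structure constants at elements of order at least four vanish -/
theorem const_zero (h : Hyp P g) {M : Ideal AlgInt} (hM : IsPModular 2 M) [Fintype (IrrCharacter G)]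
    {z t : (P : Subgroup G)} (hz : z * z ≠ 1) (ht : t * t = 1) :
    ∑ χ : IrrCharacter G, (if χ ∈ principalBlock M G then
      (χ : G → ℂ) z * ((χ : G → ℂ) t * (χ : G → ℂ) t / (χ : G → ℂ) 1) else 0) = 0 := by
  haveI : Fact (Nat.Prime 2) := ⟨Nat.prime_two⟩
  haveI := Fintype.ofFinite G
  have hz1 : z ≠ 1 := by rintro rfl; exact hz (by simp)
  have hzi : z⁻¹ ≠ 1 := inv_ne_one.mpr hz1
  have hziG : ((z⁻¹ : (P : Subgroup G)) : G) ≠ 1 := fun h2 => hzi (Subtype.ext h2)
  have hnpc := h.npc (z⁻¹).2 hziG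
  have h1 := H74.card_pairs_core (p := 2) hM (z := ((z⁻¹ : (P : Subgroup G)) : G))
    (h.orderOf_pow _) hnpc (t : G)
  have h2 : ((Finset.univ : Finset (G × G)).filter
      (fun q => ((z⁻¹ : (P : Subgroup G)) : G)⁻¹ * (q.1 * t * q.1⁻¹ * (q.2 * t * q.2⁻¹)) ∈
        centralizerPPrimeCore 2 ((z⁻¹ : (P : Subgroup G)) : G))) = ∅ := by
    rw [Finset.filter_eq_empty_iff]
    intro q _ hq
    rw [H74.mem_core_iff hnpc] at hq
    obtain ⟨hc, ho⟩ := hq
    set u : G := ((z⁻¹ : (P : Subgroup G)) : G) with hu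
    set t1 := q.1 * (t : G) * q.1⁻¹ with ht1
    set t2 := q.2 * (t : G) * q.2⁻¹ with ht2
    have htt : (t : G) * t = 1 := congrArg Subtype.val ht
    have e1 : t1 * t1 = 1 := by
      rw [ht1]
      calc q.1 * (t : G) * q.1⁻¹ * (q.1 * t * q.1⁻¹) = q.1 * (t * t) * q.1⁻¹ := by group
        _ = 1 := by rw [htt]; group
    have e2 : t2 * t2 = 1 := by
      rw [ht2]
      calc q.2 * (t : G) * q.2⁻¹ * (q.2 * t * q.2⁻¹) = q.2 * (t * t) * q.2⁻¹ := by group
        _ = 1 := by rw [htt]; group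
    obtain ⟨k, hk⟩ := h.orderOf_pow (z⁻¹)
    obtain ⟨n, hn⟩ := exists_pow_eq hc hk ho
    have e3 : u * (u⁻¹ * (t1 * t2)) = t1 * t2 := by group
    rw [e3] at hn
    have i1 : t1⁻¹ = t1 := inv_eq_of_mul_eq_one_left e1
    have i2 : t2⁻¹ = t2 := inv_eq_of_mul_eq_one_left e2
    have e4 : t1 * (t1 * t2) * t1⁻¹ = (t1 * t2)⁻¹ := by
      calc t1 * (t1 * t2) * t1⁻¹ = (t1 * t1) * t2 * t1⁻¹ := by rw [mul_assoc t1 t1 t2]
        _ = t2⁻¹ * t1⁻¹ := by rw [e1, one_mul, i2]
        _ = _ := (mul_inv_rev _ _).symm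
    have e5 : t1 * u * t1⁻¹ = u⁻¹ := by
      have : u = (t1 * t2) ^ n := hn.symm
      rw [this, ← conj_pow, e4, inv_pow]
    refine h.not_conj_inv (x := z⁻¹) ?_ (isConj_iff.mpr ⟨t1, e5⟩)
    rw [← mul_inv_rev]
    exact inv_ne_one.mpr hz
  rw [h2, Finset.card_empty, Nat.cast_zero] at h1
  have h3 : (Nat.card G : ℂ) * (Nat.card (centralizerPPrimeCore 2 ((z⁻¹ : (P : Subgroup G)) : G)) : ℂ) ≠ 0 :=
    mul_ne_zero (Nat.cast_ne_zero.2 Nat.card_pos.ne') (Nat.cast_ne_zero.2 Nat.card_pos.ne')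
  have h4 := (mul_eq_zero.mp h1.symm).resolve_left h3
  refine Eq.trans (Finset.sum_congr rfl fun χ _ => ?_) h4
  split_ifs
  · have h5 : conj ((χ : G → ℂ) ((z⁻¹ : (P : Subgroup G)) : G)) = (χ : G → ℂ) z := by
      rw [Subgroup.coe_inv, irr_inv, Complex.conj_conj]
    rw [h5]
    ring
  · rfl

end Hyp

end Cfsg.Agent.H68.HB
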