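import Mathlib.Tactic
import Mathlib.GroupTheory.Index
import Mathlib.GroupTheory.Sylow
import Cfsg.Agent.H68.Basic

set_option autoImplicit false

namespace Cfsg.Agent.H68

open Subgroup

/-- Two nontrivial "Frobenius complement like" subgroups of a finite group cannot have disjoint conjugacy
classes. -/
theorem two_ti_classes {K : Type*} [Group K] [Finite K] (D E : Subgroup K) (hD : D ≠ ⊥) (hE : E ≠ ⊥)
    (hDti : ∀ x : K, x ∉ D → ∀ d ∈ D, x * d * x⁻¹ ∈ D → d = 1)
    (hEti : ∀ x : K, x ∉ E → ∀ d ∈ E, x * d * x⁻¹ ∈ E → d = 1)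
    (hdisj : ∀ x : K, ∀ d ∈ D, x * d * x⁻¹ ∈ E → d = 1) : False := by
  let f : ((K ⧸ D) × {d : D // d ≠ 1}) ⊕ ((K ⧸ E) × {d : E // d ≠ 1}) → {k : K // k ≠ 1} := fun s =>
    match s with
    | Sum.inl (q, d) => ⟨q.out * (d : D) * q.out⁻¹, by
        intro h
        apply d.2
        ext
        have : ((d : D) : K) = q.out⁻¹ * (q.out * (d : D) * q.out⁻¹) * q.out := by group
        rw [this, h]; simp⟩
    | Sum.inr (q, d) => ⟨q.out * (d : E) * q.out⁻¹, by
        intro h
        apply d.2
        ext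
        have : ((d : E) : K) = q.out⁻¹ * (q.out * (d : E) * q.out⁻¹) * q.out := by group
        rw [this, h]; simp⟩
  have key : ∀ (x y d e : K), x * d * x⁻¹ = y * e * y⁻¹ → (y⁻¹ * x) * d * (y⁻¹ * x)⁻¹ = e := by
    intro x y d e h
    calc (y⁻¹ * x) * d * (y⁻¹ * x)⁻¹ = y⁻¹ * (x * d * x⁻¹) * y := by group
      _ = y⁻¹ * (y * e * y⁻¹) * y := by rw [h]
      _ = e := by group
  have hf : Function.Injective f := by
    rintro (⟨q, d⟩ | ⟨q, d⟩) (⟨r, e⟩ | ⟨r, e⟩) h
    · have h1 : q.out * ((d : D) : K) * q.out⁻¹ = r.out * ((e : D) : K) * r.out⁻¹ := congrArg Subtype.val h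
      have h2 := key _ _ _ _ h1
      have h3 : r.out⁻¹ * q.out ∈ D := by
        by_contra h3
        have := hDti _ h3 _ d.1.2 (by rw [h2]; exact e.1.2)
        exact d.2 (by ext; exact this)
      have h4 : r = q := by
        rw [← QuotientGroup.out_eq' r, ← QuotientGroup.out_eq' q]
        exact QuotientGroup.eq.2 h3
      subst h4
      have h5 : ((d : D) : K) = ((e : D) : K) := by
        rw [← h2]; group
      have : d = e := by ext; exact h5
      rw [this]
    · exfalso
      have h1 : q.out * ((d : D) : K) * q.out⁻¹ = r.out * ((e : E) : K) * r.out⁻¹ := congrArg Subtype.val h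
      have h2 := key _ _ _ _ h1
      have := hdisj _ _ d.1.2 (by rw [h2]; exact e.1.2)
      exact d.2 (by ext; exact this)
    · exfalso
      have h1 : q.out * ((d : E) : K) * q.out⁻¹ = r.out * ((e : D) : K) * r.out⁻¹ := congrArg Subtype.val h
      have h2 := key _ _ _ _ h1.symm
      have := hdisj _ _ e.1.2 (by rw [h2]; exact d.1.2)
      exact e.2 (by ext; exact this)
    · have h1 : q.out * ((d : E) : K) * q.out⁻¹ = r.out * ((e : E) : K) * r.out⁻¹ := congrArg Subtype.val h
      have h2 := key _ _ _ _ h1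
      have h3 : r.out⁻¹ * q.out ∈ E := by
        by_contra h3
        have := hEti _ h3 _ d.1.2 (by rw [h2]; exact e.1.2)
        exact d.2 (by ext; exact this)
      have h4 : r = q := by
        rw [← QuotientGroup.out_eq' r, ← QuotientGroup.out_eq' q]
        exact QuotientGroup.eq.2 h3
      subst h4
      have h5 : ((d : E) : K) = ((e : E) : K) := by
        rw [← h2]; group
      have : d = e := by ext; exact h5
      rw [this]
  have hcard := Nat.card_le_card_of_injective f hf
  have hne : ∀ (A : Type _) [Group A] [Finite A], Nat.card {a : A // a ≠ 1} = Nat.card A - 1 := by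
    intro A _ _
    classical
    have := Fintype.ofFinite A
    rw [Nat.card_eq_fintype_card, Nat.card_eq_fintype_card]
    rw [Fintype.card_subtype_compl, Fintype.card_subtype_eq]
  rw [Nat.card_sum, Nat.card_prod, Nat.card_prod, hne, hne, hne] at hcard
  have hD1 := Subgroup.card_eq_card_quotient_mul_card_subgroup D
  have hE1 := Subgroup.card_eq_card_quotient_mul_card_subgroup E
  have hD2 := (Subgroup.one_lt_card_iff_ne_bot D).2 hD
  have hE2 := (Subgroup.one_lt_card_iff_ne_bot E).2 hE
  have hK : 0 < Nat.card K := Nat.card_pos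
  obtain ⟨d, hd⟩ := Nat.exists_eq_add_of_lt hD2
  obtain ⟨e, he⟩ := Nat.exists_eq_add_of_lt hE2
  obtain ⟨k, hk⟩ := Nat.exists_eq_add_of_lt hK
  rw [hd] at hcard hD1
  rw [he] at hcard hE1
  rw [hk] at hcard hD1 hE1
  have e1 : 1 + d + 1 - 1 = d + 1 := by omega
  have e2 : 1 + e + 1 - 1 = e + 1 := by omega
  have e3 : 0 + k + 1 - 1 = k := by omega
  rw [e1, e2, e3] at hcard
  nlinarith [Nat.zero_le (Nat.card (K ⧸ D) * d), Nat.zero_le (Nat.card (K ⧸ E) * e)]

theorem mem_map_conj_iff {G : Type*} [Group G] {H : Subgroup G} {g x : G} :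
    x ∈ H.map (MulAut.conj g).toMonoidHom ↔ g⁻¹ * x * g ∈ H := by
  constructor
  · rintro ⟨y, hy, rfl⟩
    have : g⁻¹ * ((MulAut.conj g).toMonoidHom y) * g = y := by
      show g⁻¹ * (g * y * g⁻¹) * g = y
      group
    rw [this]; exact hy
  · intro h
    refine ⟨_, h, ?_⟩
    show g * (g⁻¹ * x * g) * g⁻¹ = x
    group

/-- A Hall subgroup which is a TI-subset contains, up to conjugacy, every subgroup whose order involves
only primes dividing its order. -/
theorem ti_hall_contains {G : Type*} [Group G] [Finite G] (H : Subgroup G)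
    (hHall : (Nat.card H).Coprime H.index)
    (hTI : ∀ g : G, g ∉ Subgroup.normalizer (H : Set G) → ∀ x ∈ (H : Set G), g * x * g⁻¹ ∈ (H : Set G) → x = 1)
    (K : Subgroup G) (hK : ∀ q : ℕ, q.Prime → q ∣ Nat.card K → q ∣ Nat.card H) :
    ∃ g : G, K ≤ H.map (MulAut.conj g).toMonoidHom := by
  -- elements of the normalizer of `H` with `π`-order lie in `H`
  have F1 : ∀ y ∈ Subgroup.normalizer (H : Set G), (∀ q : ℕ, q.Prime → q ∣ orderOf y → q ∣ Nat.card H) → y ∈ H := by
    intro y hy hord
    have h1 : (⟨y, hy⟩ : Subgroup.normalizer (H : Set G)) ∈ H.subgroupOf (Subgroup.normalizer (H : Set G)) := by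
      refine mem_of_pow_mem_of_coprime (a := orderOf y)
        (b := (H.subgroupOf (Subgroup.normalizer (H : Set G))).index) ?_ ?_ ?_
      · have : (⟨y, hy⟩ : Subgroup.normalizer (H : Set G)) ^ orderOf y = 1 := by
          ext; simp [pow_orderOf_eq_one]
        rw [this]; exact one_mem _
      · exact Subgroup.pow_index_mem _ _
      · rw [Nat.coprime_iff_gcd_eq_one]
        by_contra hne
        obtain ⟨q, hq, hqd⟩ := Nat.exists_prime_and_dvd hne
        have h2 := hord q hq (hqd.trans (Nat.gcd_dvd_left _ _))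
        have h3 : q ∣ H.index := by
          refine (hqd.trans (Nat.gcd_dvd_right _ _)).trans ?_
          exact Subgroup.relIndex_dvd_index_of_le Subgroup.le_normalizer
        have := Nat.dvd_gcd h2 h3
        rw [Nat.Coprime.gcd_eq_one hHall] at this
        exact hq.one_lt.ne' (Nat.dvd_one.1 this)
    exact h1
  have hKord : ∀ x ∈ K, ∀ q : ℕ, q.Prime → q ∣ orderOf x → q ∣ Nat.card H := by
    intro x hx q hq hqx
    apply hK q hq
    have : orderOf (⟨x, hx⟩ : K) = orderOf x := Subgroup.orderOf_mk _ _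
    rw [← this] at hqx
    exact hqx.trans (orderOf_dvd_natCard _)
  -- each Sylow subgroup of `K` is in a conjugate of `H`
  have hSyl : ∀ (q : ℕ) [Fact q.Prime], q ∣ Nat.card K → ∀ Q : Sylow q K, ∃ g : G,
      (Q : Subgroup K).map K.subtype ≤ H.map (MulAut.conj g).toMonoidHom := by
    intro q hqp hqK Q
    have hqH := hK q hqp.out hqK
    have hqidx : ¬ q ∣ H.index := by
      intro h
      have := Nat.dvd_gcd hqH h
      rw [Nat.Coprime.gcd_eq_one hHall] at this
      exact hqp.out.one_lt.ne' (Nat.dvd_one.1 this)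
    let R : Sylow q H := default
    have hRp : IsPGroup q ((R : Subgroup H).map H.subtype) := R.isPGroup'.map _
    have hRidx : ¬ q ∣ ((R : Subgroup H).map H.subtype).index := by
      rw [Subgroup.index_map_subtype]
      intro h
      rcases (Nat.Prime.dvd_mul hqp.out).1 h with h' | h'
      · exact R.not_dvd_index h'
      · exact hqidx h'
    let S : Sylow q G := hRp.toSylow hRidx
    have hQp : IsPGroup q ((Q : Subgroup K).map K.subtype) := Q.isPGroup'.map _
    obtain ⟨T, hT⟩ := hQp.exists_le_sylow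
    obtain ⟨g, hg⟩ := MulAction.exists_smul_eq G S T
    refine ⟨g, fun x hx => ?_⟩
    have hxT := hT hx
    rw [← hg] at hxT
    rw [mem_map_conj_iff]
    have hxT' : x ∈ ((g • S : Sylow q G) : Subgroup G) := hxT
    rw [Sylow.coe_subgroup_smul] at hxT'
    have h1 := mem_conj_smul_iff.1 hxT'
    have h2 : (S : Subgroup G) ≤ H := by
      show (hRp.toSylow hRidx : Subgroup G) ≤ H
      rw [IsPGroup.toSylow_coe]
      exact Subgroup.map_subtype_le _
    exact h2 h1
  by_cases hKbot : K = ⊥
  · exact ⟨1, hKbot ▸ bot_le⟩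
  -- choose a conjugate meeting `K`
  have hK1 : Nat.card K ≠ 1 := by
    intro h; exact hKbot (Subgroup.eq_bot_of_card_eq _ h)
  obtain ⟨q0, hq0, hq0K⟩ := Nat.exists_prime_and_dvd hK1
  have : Fact q0.Prime := ⟨hq0⟩
  obtain ⟨g1, hg1⟩ := hSyl q0 hq0K default
  by_contra hcon
  push Not at hcon
  have hDti : ∀ (g : G) (x : K), x ∉ (H.map (MulAut.conj g).toMonoidHom).subgroupOf K →
      ∀ d ∈ (H.map (MulAut.conj g).toMonoidHom).subgroupOf K,
        x * d * x⁻¹ ∈ (H.map (MulAut.conj g).toMonoidHom).subgroupOf K → d = 1 := by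
    intro g x hx d hd hxd
    rw [Subgroup.mem_subgroupOf, mem_map_conj_iff] at hx hd hxd
    by_contra hd1
    apply hx
    have hN : g⁻¹ * x * g ∈ Subgroup.normalizer (H : Set G) := by
      by_contra hN
      have h1 := hTI _ hN _ hd (by
        have : g⁻¹ * (x : G) * g * (g⁻¹ * d * g) * (g⁻¹ * x * g)⁻¹ = g⁻¹ * ((x * d * x⁻¹ : K) : G) * g := by
          push_cast; group
        rw [this]; exact hxd)
      apply hd1
      ext
      have : (d : G) = g * (g⁻¹ * d * g) * g⁻¹ := by group
      rw [this, h1]; simp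
    apply F1 _ hN
    intro q hq hqo
    have h2 : orderOf (g⁻¹ * (x : G) * g) = orderOf (x : G) := by
      have := orderOf_injective (MulAut.conj g⁻¹).toMonoidHom (MulAut.conj g⁻¹).injective (x : G)
      rw [← this]
      congr 1
      show _ = g⁻¹ * (x : G) * g⁻¹⁻¹
      rw [inv_inv]
    rw [h2] at hqo
    exact hKord x x.2 q hq hqo
  have hD1 : (H.map (MulAut.conj g1).toMonoidHom).subgroupOf K ≠ ⊥ := by
    intro h
    have h1 : ((default : Sylow q0 K) : Subgroup K) ≤ (H.map (MulAut.conj g1).toMonoidHom).subgroupOf K := by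
      intro x hx
      rw [Subgroup.mem_subgroupOf]
      exact hg1 ⟨x, hx, rfl⟩
    rw [h, le_bot_iff] at h1
    exact Sylow.ne_bot_of_dvd_card _ hq0K h1
  -- the second class
  obtain ⟨g2, hD2, hdis⟩ : ∃ g2 : G, (H.map (MulAut.conj g2).toMonoidHom).subgroupOf K ≠ ⊥ ∧
      ∀ x : K, ∀ d ∈ (H.map (MulAut.conj g1).toMonoidHom).subgroupOf K,
        x * d * x⁻¹ ∈ (H.map (MulAut.conj g2).toMonoidHom).subgroupOf K → d = 1 := by
    by_contra hno
    push Not at hno
    -- then `D` has index 1
    apply hcon g1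
    rw [← Subgroup.subgroupOf_eq_top, ← Subgroup.index_eq_one]
    by_contra hidx
    obtain ⟨q, hq, hqd⟩ := Nat.exists_prime_and_dvd hidx
    have : Fact q.Prime := ⟨hq⟩
    have hqK : q ∣ Nat.card K := hqd.trans (Subgroup.index_dvd_card _)
    let Q : Sylow q K := default
    obtain ⟨g2, hg2⟩ := hSyl q hqK Q
    have hQle : (Q : Subgroup K) ≤ (H.map (MulAut.conj g2).toMonoidHom).subgroupOf K := by
      intro x hx
      rw [Subgroup.mem_subgroupOf]
      exact hg2 ⟨x, hx, rfl⟩
    obtain ⟨x, d, hd, hxd, hd1⟩ := hno g2 (by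
      intro h
      rw [h, le_bot_iff] at hQle
      exact Q.ne_bot_of_dvd_card hqK hQle)
    rw [Subgroup.mem_subgroupOf, mem_map_conj_iff] at hd hxd
    have hN : g2⁻¹ * x * g1 ∈ Subgroup.normalizer (H : Set G) := by
      by_contra hN
      have h1 := hTI _ hN _ hd (by
        have : g2⁻¹ * (x : G) * g1 * (g1⁻¹ * d * g1) * (g2⁻¹ * x * g1)⁻¹ = g2⁻¹ * ((x * d * x⁻¹ : K) : G) * g2 := by
          push_cast; group
        rw [this]; exact hxd)
      apply hd1
      ext
      have : (d : G) = g1 * (g1⁻¹ * d * g1) * g1⁻¹ := by group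
      rw [this, h1]; simp
    -- `Q` conjugated by `x⁻¹` lies in `D`
    have hQ2 : (Q : Subgroup K).map (MulAut.conj x⁻¹).toMonoidHom ≤ (H.map (MulAut.conj g1).toMonoidHom).subgroupOf K := by
      rintro _ ⟨y, hy, rfl⟩
      have h1 := hQle hy
      rw [Subgroup.mem_subgroupOf, mem_map_conj_iff] at h1
      rw [Subgroup.mem_subgroupOf, mem_map_conj_iff]
      have h2 := (Subgroup.mem_set_normalizer_iff.1 (inv_mem hN) _).1 h1
      have h3 : (g2⁻¹ * (x : G) * g1)⁻¹ * (g2⁻¹ * y * g2) * (g2⁻¹ * x * g1)⁻¹⁻¹ =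
          g1⁻¹ * (((MulAut.conj x⁻¹).toMonoidHom y : K) : G) * g1 := by
        show _ = g1⁻¹ * ((x⁻¹ * y * x⁻¹⁻¹ : K) : G) * g1
        push_cast; group
      rw [h3] at h2
      exact h2
    have hc := Subgroup.card_dvd_of_le hQ2
    rw [Subgroup.card_map_of_injective (MulAut.conj x⁻¹).injective] at hc
    obtain ⟨t, ht⟩ := hc
    have hm := Subgroup.card_mul_index (Q : Subgroup K)
    have hD := Subgroup.card_mul_index ((H.map (MulAut.conj g1).toMonoidHom).subgroupOf K)
    rw [ht, ← hm, mul_assoc] at hD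
    have h4 := Nat.eq_of_mul_eq_mul_left (Nat.card_pos) hD
    apply Q.not_dvd_index
    rw [← h4]
    exact hqd.mul_left t
  exact two_ti_classes _ _ hD1 hD2 (hDti g1) (hDti g2) hdis

end Cfsg.Agent.H68
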