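import Mathlib.Tactic
import Mathlib.GroupTheory.Index
import Mathlib.GroupTheory.Sylow
import Mathlib.GroupTheory.Complement
import Cfsg.Agent.H68.Basic
import Cfsg.Agent.H68.TI

set_option autoImplicit false

namespace Cfsg.Agent.H68

open Subgroup

/-- The number of conjugates of `x` under `N`. -/
theorem ncard_conj_by_subgroup {G : Type*} [Group G] [Finite G] (N : Subgroup G) (x : G) :
    {y : G | ∃ u ∈ N, u * x * u⁻¹ = y}.ncard = Nat.card N / Nat.card ↥(N ⊓ centralizer ({x} : Set G)) := by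
  let _ : MulAction N G := MulAction.compHom G ((MulAut.conj (G := G)).comp N.subtype)
  have hsmul : ∀ (u : N) (y : G), u • y = u * y * (u : G)⁻¹ := fun u y => rfl
  have h1 : {y : G | ∃ u ∈ N, u * x * u⁻¹ = y} = MulAction.orbit N x := by
    ext y
    constructor
    · rintro ⟨u, hu, rfl⟩
      exact ⟨⟨u, hu⟩, rfl⟩
    · rintro ⟨u, rfl⟩
      exact ⟨u, u.2, rfl⟩
  have h2 : (MulAction.stabilizer N x).map N.subtype = N ⊓ centralizer ({x} : Set G) := by
    ext y
    constructor
    · rintro ⟨u, hu, rfl⟩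
      refine ⟨u.2, ?_⟩
      have h3 : (u : G) * x * (u : G)⁻¹ = x := hu
      show (u : G) ∈ centralizer ({x} : Set G)
      rw [mem_centralizer_iff]
      intro z hz
      rw [Set.mem_singleton_iff] at hz
      rw [hz]
      calc x * u = (u * x * (u : G)⁻¹) * u := by rw [h3]
        _ = u * x := by group
    · rintro ⟨hyN, hyC⟩
      refine ⟨⟨y, hyN⟩, ?_, rfl⟩
      show y * x * y⁻¹ = x
      have := (mem_centralizer_iff.1 hyC) x rfl
      rw [← this]; group
  have h3 : Nat.card ↥(N ⊓ centralizer ({x} : Set G)) = Nat.card (MulAction.stabilizer N x) := by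
    rw [← h2]
    exact Subgroup.card_map_of_injective N.subtype_injective
  rw [h1, h3, ← MulAction.index_stabilizer]
  have h4 := Subgroup.card_mul_index (MulAction.stabilizer N x)
  rw [← h4, Nat.mul_div_cancel_left _ Nat.card_pos]

/-- In a group with a normal `p`-complement, every `p`-element is conjugate to an element of `P` by an element
of the complement. -/
theorem exists_conj_mem_of_pElement {G : Type*} [Group G] [Finite G] {p : ℕ} [Fact p.Prime]
    (P : Sylow p G) (N : Subgroup G) [N.Normal] (hsup : N ⊔ (P : Subgroup G) = ⊤)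
    {g : G} (hg : ∃ k : ℕ, orderOf g = p ^ k) : ∃ x ∈ (P : Subgroup G), ∃ u ∈ N, u * x * u⁻¹ = g := by
  obtain ⟨k, hk⟩ := hg
  have hgp : IsPGroup p (zpowers g) := IsPGroup.of_card (n := k) (by rw [Nat.card_zpowers, hk])
  obtain ⟨Q, hQ⟩ := hgp.exists_le_sylow
  obtain ⟨c, hc⟩ := MulAction.exists_smul_eq G P Q
  have h2 : g ∈ ((c • P : Sylow p G) : Subgroup G) := by
    rw [hc]; exact hQ (mem_zpowers g)
  rw [Sylow.coe_subgroup_smul] at h2
  have h3 := mem_conj_smul_iff.1 h2
  have h4 : c ∈ N ⊔ (P : Subgroup G) := hsup ▸ mem_top c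
  obtain ⟨n, hn, y, hy, rfl⟩ := Subgroup.mem_sup_of_normal_left.1 h4
  refine ⟨n⁻¹ * g * n, ?_, n, hn, by group⟩
  have : n⁻¹ * g * n = y * ((n * y)⁻¹ * g * (n * y)) * y⁻¹ := by group
  rw [this]
  exact mul_mem (mul_mem hy h3) (inv_mem hy)

end Cfsg.Agent.H68
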