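import Mathlib

/-!
# Families of integral vectors of norm three with pairwise products two
-/

set_option autoImplicit false

namespace Cfsg.Agent.H68.HB

open Finset

section

variable {X T : Type*} [DecidableEq T]

theorem card_inter_three {p q r : T} (hpq : p ≠ q) (hpr : p ≠ r) (hqr : q ≠ r) (Y : Finset T) :
    (({p, q, r} : Finset T) ∩ Y).card =
      (if p ∈ Y then 1 else 0) + (if q ∈ Y then 1 else 0) + (if r ∈ Y then 1 else 0) := by
  by_cases hp : p ∈ Y <;> by_cases hq : q ∈ Y <;> by_cases hr : r ∈ Y <;>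
    simp [Finset.insert_inter_of_mem, Finset.insert_inter_of_notMem, hp, hq, hr, hpq, hpr, hqr]

theorem eq_three {p q r : T} (hpq : p ≠ q) (hpr : p ≠ r) (hqr : q ≠ r) {Y : Finset T}
    (hY : Y.card = 3) (hp : p ∈ Y) (hq : q ∈ Y) (hr : r ∈ Y) : Y = {p, q, r} := by
  symm
  apply Finset.eq_of_subset_of_card_le
  · intro x hx
    simp only [Finset.mem_insert, Finset.mem_singleton] at hx
    rcases hx with rfl | rfl | rfl <;> assumption
  · rw [hY, Finset.card_eq_three.mpr ⟨p, q, r, hpq, hpr, hqr, rfl⟩]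

theorem sun_aux (R : X → X → Prop) (s : X → Finset T) (hc : ∀ x, (s x).card = 3)
    (hi : ∀ x y, ¬ R x y → (s y ∩ s x).card = 2) (hsame : ∀ x y, R x y → s x = s y)
    (hmore : ∀ a b c d : X, ∃ x, ¬ R x a ∧ ¬ R x b ∧ ¬ R x c ∧ ¬ R x d)
    {a b c d : T} (hab : a ≠ b) (hac : a ≠ c) (had : a ≠ d) (hbc : b ≠ c) (hbd : b ≠ d)
    (hcd : c ≠ d) {x0 x1 x2 : X} (h0 : s x0 = {a, b, c}) (h1 : s x1 = {a, b, d})
    (ha : a ∉ s x2) : False := by
  have hn0 : ¬ R x2 x0 := by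
    intro h
    apply ha
    rw [hsame _ _ h, h0]; simp
  have hn1 : ¬ R x2 x1 := by
    intro h
    apply ha
    rw [hsame _ _ h, h1]; simp
  have e0 := hi _ _ hn0
  have e1 := hi _ _ hn1
  rw [h0, card_inter_three hab hac hbc, if_neg ha] at e0
  rw [h1, card_inter_three hab had hbd, if_neg ha] at e1
  have hb2 : b ∈ s x2 := by
    by_contra h
    rw [if_neg h] at e0
    split_ifs at e0
    all_goals omega
  have hc2 : c ∈ s x2 := by
    by_contra h
    rw [if_pos hb2, if_neg h] at e0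
    omega
  have hd2 : d ∈ s x2 := by
    by_contra h
    rw [if_pos hb2, if_neg h] at e1
    omega
  have h2 : s x2 = {b, c, d} := eq_three hbc hbd hcd (hc x2) hb2 hc2 hd2
  have key : ∀ x, ¬ R x x0 → ¬ R x x1 → ¬ R x x2 → s x = {a, c, d} := by
    intro x g0 g1 g2
    have f0 := hi _ _ g0
    have f1 := hi _ _ g1
    have f2 := hi _ _ g2
    rw [h0, card_inter_three hab hac hbc] at f0
    rw [h1, card_inter_three hab had hbd] at f1
    rw [h2, card_inter_three hbc hbd hcd] at f2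
    by_cases ka : a ∈ s x <;> by_cases kb : b ∈ s x <;> by_cases kc : c ∈ s x <;>
      by_cases kd : d ∈ s x <;> simp only [ka, kb, kc, kd, if_true, if_false] at f0 f1 f2 <;>
      first | omega | exact eq_three hac had hcd (hc x) ka kc kd
  obtain ⟨x3, g0, g1, g2, -⟩ := hmore x0 x1 x2 x2
  obtain ⟨x4, k0, k1, k2, k3⟩ := hmore x0 x1 x2 x3
  have e3 := key x3 g0 g1 g2
  have e4 := key x4 k0 k1 k2
  have := hi _ _ k3
  rw [e3, e4, Finset.inter_self, Finset.card_eq_three.mpr ⟨a, c, d, hac, had, hcd, rfl⟩] at this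
  omega

theorem finset_sunflower (R : X → X → Prop) (s : X → Finset T) (hc : ∀ x, (s x).card = 3)
    (hi : ∀ x y, ¬ R x y → (s y ∩ s x).card = 2) (hsame : ∀ x y, R x y → s x = s y)
    (hmore : ∀ a b c d : X, ∃ x, ¬ R x a ∧ ¬ R x b ∧ ¬ R x c ∧ ¬ R x d) (x0 : X) :
    ∃ a b : T, a ≠ b ∧ ∀ x, a ∈ s x ∧ b ∈ s x := by
  obtain ⟨x1, h10, -⟩ := hmore x0 x0 x0 x0
  have e := hi _ _ h10
  obtain ⟨a, b, hab, hI⟩ := Finset.card_eq_two.mp e
  have ha : a ∈ s x0 ∩ s x1 := by rw [hI]; simp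
  have hb : b ∈ s x0 ∩ s x1 := by rw [hI]; simp
  rw [Finset.mem_inter] at ha hb
  have hex : ∀ Y : Finset T, Y.card = 3 → a ∈ Y → b ∈ Y → ∃ c, a ≠ c ∧ b ≠ c ∧ Y = {a, b, c} := by
    intro Y hY h1 h2
    have h3 : ¬ Y ⊆ {a, b} := by
      intro h
      have := Finset.card_le_card h
      rw [hY, Finset.card_pair hab] at this
      omega
    obtain ⟨c, hcY, hcn⟩ := Finset.not_subset.mp h3
    simp only [Finset.mem_insert, Finset.mem_singleton, not_or] at hcn
    exact ⟨c, Ne.symm hcn.1, Ne.symm hcn.2, eq_three hab (Ne.symm hcn.1) (Ne.symm hcn.2) hY h1 h2 hcY⟩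
  obtain ⟨c, hac, hbc, h0⟩ := hex _ (hc x0) ha.1 hb.1
  obtain ⟨d, had, hbd, h1⟩ := hex _ (hc x1) ha.2 hb.2
  have hcd : c ≠ d := by
    rintro rfl
    rw [h0, h1, Finset.inter_self, Finset.card_eq_three.mpr ⟨a, b, c, hab, hac, hbc, rfl⟩] at e
    omega
  refine ⟨a, b, hab, fun x => ⟨?_, ?_⟩⟩
  · by_contra h
    exact sun_aux R s hc hi hsame hmore hab hac had hbc hbd hcd h0 h1 h
  · by_contra h
    refine sun_aux R s hc hi hsame hmore (Ne.symm hab) hbc hbd hac had hcd (x0 := x0) (x1 := x1) ?_ ?_ h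
    · rw [h0]; exact Finset.insert_comm _ _ _
    · rw [h1]; exact Finset.insert_comm _ _ _

end

section Int

set_option linter.unusedSectionVars false

variable {X T : Type*} [Fintype T] [DecidableEq T]

theorem norm_three {w : T → ℤ} (h : ∑ t, w t ^ 2 = 3) :
    (univ.filter fun t => w t ≠ 0).card = 3 ∧ ∀ t, w t ≠ 0 → w t = 1 ∨ w t = -1 := by
  have h1 : ∀ t, w t ≠ 0 → w t = 1 ∨ w t = -1 := by
    intro t ht
    have h2 : w t ^ 2 ≤ 3 := by
      rw [← h]
      exact Finset.single_le_sum (f := fun t => w t ^ 2) (fun i _ => sq_nonneg _) (Finset.mem_univ t)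
    have h3 : w t < 2 := by nlinarith
    have h4 : -2 < w t := by nlinarith
    omega
  refine ⟨?_, h1⟩
  have h2 : ∑ t, w t ^ 2 = ∑ t, if w t ≠ 0 then (1 : ℤ) else 0 := by
    refine Finset.sum_congr rfl fun t _ => ?_
    by_cases ht : w t ≠ 0
    · rw [if_pos ht]
      rcases h1 t ht with h | h <;> rw [h] <;> norm_num
    · rw [if_neg ht]
      push Not at ht
      rw [ht]; norm_num
  rw [h2, ← Finset.sum_filter, Finset.sum_const, nsmul_eq_mul, mul_one] at h
  exact_mod_cast h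

theorem prod_two {w v : T → ℤ} (hw : ∑ t, w t ^ 2 = 3) (hv : ∑ t, v t ^ 2 = 3)
    (h : ∑ t, w t * v t = 2) :
    ((univ.filter fun t => v t ≠ 0) ∩ (univ.filter fun t => w t ≠ 0)).card = 2 ∧
      ∀ t, w t ≠ 0 → v t ≠ 0 → w t = v t := by
  obtain ⟨hw1, hw2⟩ := norm_three hw
  obtain ⟨hv1, hv2⟩ := norm_three hv
  set I := (univ.filter fun t => v t ≠ 0) ∩ (univ.filter fun t => w t ≠ 0) with hI
  have hmem : ∀ t, t ∈ I ↔ v t ≠ 0 ∧ w t ≠ 0 := by
    intro t; rw [hI]; simp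
  have h1 : ∑ t ∈ I, w t * v t = 2 := by
    rw [← h]
    apply Finset.sum_subset (Finset.subset_univ _)
    intro t _ ht
    rw [hmem] at ht
    by_contra hne
    exact ht ⟨fun h => hne (by rw [h, mul_zero]), fun h => hne (by rw [h, zero_mul])⟩
  have h2 : ∀ t ∈ I, w t * v t = 1 ∨ w t * v t = -1 := by
    intro t ht
    rw [hmem] at ht
    rcases hw2 t ht.2 with h | h <;> rcases hv2 t ht.1 with h' | h' <;> rw [h, h'] <;> norm_num
  have h3 : I.card ≤ 3 := by
    rw [← hw1]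
    exact Finset.card_le_card Finset.inter_subset_right
  -- Σ (1 - w v)/2
  have h4 : ∀ t ∈ I, ∃ e : ℕ, 1 - w t * v t = 2 * e := by
    intro t ht
    rcases h2 t ht with h | h
    · exact ⟨0, by rw [h]; norm_num⟩
    · exact ⟨1, by rw [h]; norm_num⟩
  choose! e he using h4
  have h5 : (I.card : ℤ) - 2 = 2 * (∑ t ∈ I, (e t : ℤ)) := by
    have h := Finset.sum_congr (rfl : I = I) he
    rw [Finset.sum_sub_distrib, ← Finset.mul_sum, h1, Finset.sum_const, nsmul_eq_mul, mul_one] at h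
    exact h
  have h6 : (0 : ℤ) ≤ ∑ t ∈ I, (e t : ℤ) := Finset.sum_nonneg fun t _ => by positivity
  have h7 : ∑ t ∈ I, (e t : ℤ) = 0 := by
    have : (I.card : ℤ) ≤ 3 := by exact_mod_cast h3
    omega
  refine ⟨by rw [h7] at h5; omega, ?_⟩
  intro t h8 h9
  have ht : t ∈ I := (hmem t).mpr ⟨h9, h8⟩
  have h10 := (Finset.sum_eq_zero_iff_of_nonneg (fun t _ => by positivity)).mp h7 t ht
  have h11 := he t ht
  rw [h10] at h11
  rcases hw2 t h8 with h | h <;> rcases hv2 t h9 with h' | h' <;> rw [h, h'] at h11 ⊢ <;> omega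

/-- **the sunflower lemma** -/
theorem sunflower (R : X → X → Prop) (w : X → T → ℤ) (hn : ∀ x, ∑ t, w x t ^ 2 = 3)
    (hin : ∀ x y, ¬ R x y → ∑ t, w x t * w y t = 2) (hsame : ∀ x y, R x y → w x = w y)
    (hmore : ∀ a b c d : X, ∃ x, ¬ R x a ∧ ¬ R x b ∧ ¬ R x c ∧ ¬ R x d) (x0 : X) :
    ∃ a b : T, a ≠ b ∧ ∃ sa sb : ℤ, (sa = 1 ∨ sa = -1) ∧ (sb = 1 ∨ sb = -1) ∧
      (∀ x, w x a = sa ∧ w x b = sb) := by
  obtain ⟨a, b, hab, h⟩ := finset_sunflower R (fun x => univ.filter fun t => w x t ≠ 0)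
    (fun x => (norm_three (hn x)).1) (fun x y hxy => (prod_two (hn x) (hn y) (hin x y hxy)).1)
    (fun x y hxy => by simp only [hsame x y hxy]) hmore x0
  simp only [Finset.mem_filter, Finset.mem_univ, true_and] at h
  refine ⟨a, b, hab, w x0 a, w x0 b, (norm_three (hn x0)).2 a (h x0).1,
    (norm_three (hn x0)).2 b (h x0).2, fun x => ?_⟩
  by_cases hR : R x x0
  · rw [hsame _ _ hR]; exact ⟨rfl, rfl⟩
  · have := (prod_two (hn x) (hn x0) (hin x x0 hR)).2
    exact ⟨this a (h x).1 (h x0).1, this b (h x).2 (h x0).2⟩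

/-- the third element -/
theorem third {w : T → ℤ} (hn : ∑ t, w t ^ 2 = 3) {a b : T} (hab : a ≠ b) (ha : w a ≠ 0)
    (hb : w b ≠ 0) : ∃ c, a ≠ c ∧ b ≠ c ∧ (w c = 1 ∨ w c = -1) ∧ ∀ t, w t ≠ 0 → t = a ∨ t = b ∨ t = c := by
  obtain ⟨h1, h2⟩ := norm_three hn
  have h3 : ¬ (univ.filter fun t => w t ≠ 0) ⊆ {a, b} := by
    intro h
    have := Finset.card_le_card h
    rw [h1, Finset.card_pair hab] at this
    omega
  obtain ⟨c, hcY, hcn⟩ := Finset.not_subset.mp h3
  simp only [Finset.mem_insert, Finset.mem_singleton, not_or] at hcn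
  simp only [Finset.mem_filter, Finset.mem_univ, true_and] at hcY
  have h4 := eq_three hab (Ne.symm hcn.1) (Ne.symm hcn.2) h1
    (by simpa using ha) (by simpa using hb) (by simpa using hcY)
  refine ⟨c, Ne.symm hcn.1, Ne.symm hcn.2, h2 c hcY, fun t ht => ?_⟩
  have : t ∈ (univ.filter fun t => w t ≠ 0) := by simpa using ht
  rw [h4] at this
  simpa using this

end Int

end Cfsg.Agent.H68.HB
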